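import Groth.Agent.CycLib.LFT
import Groth.Agent.DimFormula.Fibre
import Groth.Agent.VarDim.IrredFibres
import Mathlib.AlgebraicGeometry.Morphisms.UniversallyOpen

/-! Flat morphisms and relative dimension. -/

set_option autoImplicit false

universe u

open AlgebraicGeometry CategoryTheory

namespace Groth.Agent.CycLib

variable {X Y : Scheme.{u}} (f : X ⟶ Y)

theorem exists_generization [Flat f] {x : X} {y : Y} (h : y ⤳ f x) : ∃ x', x' ⤳ x ∧ f x' = y :=
  Flat.generalizingMap f h

theorem f_eq_of_maximal [Flat f] {y : Y} {x : X} (hx : f x ∈ closure ({y} : Set Y))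
    (hmax : ∀ x' : X, f x' ∈ closure ({y} : Set Y) → x' ⤳ x → x' = x) : f x = y ∧ FibDim.FibMax f x := by
  obtain ⟨x', hx', hfx'⟩ := exists_generization f (specializes_iff_mem_closure.2 hx)
  have := hmax x' (hfx' ▸ subset_closure rfl) hx'
  exact ⟨this ▸ hfx', fun z hz hfz => hmax z (hfz ▸ hx) hz⟩

theorem rd_eq_of_hasRelDim [LocallyOfFiniteType f] {r : ℕ} (hr : Cyc.HasRelDim f r) {x : X}
    (hx : FibDim.FibMax f x) : FibDim.rd f x = r := by
  have hmax := (FibDim.fibMax_fiberι_iff f (f.asFiber x)).1 (by rwa [Scheme.Hom.fiberι_asFiber])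
  have h := hr (f x) _ (VarDim.closure_mem_irreducibleComponents hmax)
  rw [VarDim.topologicalKrullDim_closure_singleton (k := Y.residueField (f x))
    (f.fiberToSpecResidueField (f x))] at h
  have h' : VarDim.deg (k := Y.residueField (f x)) (f.fiberToSpecResidueField (f x)) (f.asFiber x) = r := by
    exact_mod_cast h
  exact h'

theorem hasRelDim_iff [LocallyOfFiniteType f] {r : ℕ} :
    Cyc.HasRelDim f r ↔ ∀ x : X, FibDim.FibMax f x → FibDim.rd f x = r := by
  refine ⟨fun h x hx => rd_eq_of_hasRelDim f h hx, fun h y T hT => ?_⟩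
  obtain ⟨a, rfl, hmax⟩ := VarDim.exists_generic_of_component hT
  rw [VarDim.topologicalKrullDim_closure_singleton (k := Y.residueField y) (f.fiberToSpecResidueField y),
    FibDim.deg_fiber f y a, h _ ((FibDim.fibMax_fiberι_iff f a).2 hmax)]
  rfl

theorem exists_lift_series [Flat f] (n : ℕ) : ∀ (l : LTSeries Y), l.length = n → ∀ z : X, f z = l.head →
    ∃ L : LTSeries X, L.head = z ∧ L.length = n ∧ f L.last = l.last := by
  induction n with
  | zero =>
    intro l hl z hz
    refine ⟨RelSeries.singleton _ z, RelSeries.head_singleton _, rfl, ?_⟩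
    rw [RelSeries.last_singleton, hz]
    simp only [RelSeries.head, RelSeries.last]
    congr 1
    exact Fin.ext (by simp [hl])
  | succ n ih =>
    intro l hl z hz
    obtain ⟨L, h0, h1, h2⟩ := ih (l.take ⟨n, by omega⟩) (by simp [RelSeries.take]) z (by rw [hz]; rfl)
    have hlast : (l.take ⟨n, by omega⟩).last = l ⟨n, by omega⟩ := by simp [RelSeries.take, RelSeries.last]
    rw [hlast] at h2
    have hstep : l ⟨n, by omega⟩ < l.last := l.strictMono (by rw [Fin.lt_def]; simp; omega)
    obtain ⟨x', hx', hfx'⟩ := exists_generization f (x := L.last) (y := l.last) (h2 ▸ hstep.le)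
    have hlt : L.last < x' := lt_of_le_not_ge (α := X) hx' fun h' => hstep.not_ge (by
      have := Specializes.map (show L.last ⤳ x' from h') f.continuous
      rw [hfx', h2] at this
      exact this)
    exact ⟨L.snoc x' hlt, by rw [RelSeries.head_snoc, h0], by rw [RelSeries.snoc_length, h1],
      by rw [RelSeries.last_snoc, hfx']⟩

variable [Flat f] [LocallyOfFiniteType f] [IsLocallyNoetherian Y]

theorem codim_flat_le (z : X) :
    haveI := LocallyOfFiniteType.isLocallyNoetherian f
    DimFormula.codim (f z) ≤ DimFormula.codim z := by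
  haveI := LocallyOfFiniteType.isLocallyNoetherian f
  obtain ⟨l, hl0, hl⟩ := Order.exists_series_of_coheight_eq_coe (f z) (DimFormula.coe_codim (f z)).symm
  obtain ⟨L, h0, h1, -⟩ := exists_lift_series f _ l hl z hl0.symm
  have h := Order.length_le_coheight (p := L) (x := z) h0.ge
  rw [← DimFormula.coe_codim, h1] at h
  exact_mod_cast h

theorem rd_eq_generic [IrreducibleSpace X] [IrreducibleSpace Y] {z : X} (hz : FibDim.FibMax f z)
    (huc : CAlg.IsUniversallyCatenary (Y.presheaf.stalk (f z))) :
    FibDim.rd f z = FibDim.rd f (genericPoint X) := by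
  haveI := LocallyOfFiniteType.isLocallyNoetherian f
  have hgen : f (genericPoint X) = genericPoint Y := by
    obtain ⟨x', hx', hfx'⟩ := exists_generization f (x := genericPoint X) (y := genericPoint Y)
      ((genericPoint_spec Y).specializes (Set.mem_univ _))
    rw [← hfx', hx'.antisymm ((genericPoint_spec X).specializes (Set.mem_univ x')) |>.eq]
  have hsp : genericPoint X ⤳ z := (genericPoint_spec X).specializes (Set.mem_univ z)
  have h1 := (DimFormula.cd_formula f hsp).2 huc
  rw [hgen, DimFormula.cd_eq_codim_of_irreducible, DimFormula.cd_eq_codim_of_irreducible] at h1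
  have h2 := codim_flat_le f z
  have h3 := DimFormula.codim_le_add f z
  rw [(DimFormula.fb_eq_zero_iff f z).2 hz, add_zero] at h3
  omega

end Groth.Agent.CycLib
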