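import Groth.Agent.CycLib.Flat
import Groth.Agent.MorLib.WeightFlat

/-! Functoriality of flat pull-back. -/

set_option autoImplicit false

universe u

open AlgebraicGeometry CategoryTheory

namespace Groth.Agent.CycLib

variable {X Y Z : Scheme.{u}}

theorem rd_le_of_hasRelDim (f : X ⟶ Y) [LocallyOfFiniteType f] {r : ℕ} (hr : Cyc.HasRelDim f r) (x : X) :
    FibDim.rd f x ≤ r := by
  obtain ⟨b, hb, hbmax⟩ := FibDim.exists_maximal_generization (f.asFiber x)
  have h1 := VarDim.deg_le_of_specializes (k := Y.residueField (f x)) (f.fiberToSpecResidueField (f x)) hb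
  rw [FibDim.deg_fiber f (f x) b, rd_eq_of_hasRelDim f hr ((FibDim.fibMax_fiberι_iff f b).2 hbmax)] at h1
  exact h1

theorem rd_comp (f : X ⟶ Y) (g : Y ⟶ Z) [LocallyOfFiniteType f] [LocallyOfFiniteType g] (x : X) :
    FibDim.rd (f ≫ g) x = FibDim.rd g (f x) + FibDim.rd f x := by
  have h := VarDim.rdeg_comp f g x
  rw [← FibDim.rd_eq_rdeg, ← FibDim.rd_eq_rdeg, ← FibDim.rd_eq_rdeg] at h
  exact_mod_cast h

theorem hasRelDim_comp (f : X ⟶ Y) (g : Y ⟶ Z) [Flat f] [LocallyOfFiniteType f] [LocallyOfFiniteType g]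
    {r s : ℕ} (hr : Cyc.HasRelDim f r) (hs : Cyc.HasRelDim g s) : Cyc.HasRelDim (f ≫ g) (r + s) := by
  refine (hasRelDim_iff (f ≫ g)).2 fun z hz => ?_
  have hzf : FibDim.FibMax f z := fun z' h' he => hz z' h' (by rw [Scheme.Hom.comp_apply, he, Scheme.Hom.comp_apply])
  have hzg : FibDim.FibMax g (f z) := fun w hw he => by
    obtain ⟨z', hz', rfl⟩ := exists_generization f hw
    rw [hz z' hz' (by rw [Scheme.Hom.comp_apply, he, Scheme.Hom.comp_apply])]
  rw [rd_comp, rd_eq_of_hasRelDim f hr hzf, rd_eq_of_hasRelDim g hs hzg, add_comm]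

set_option backward.isDefEq.respectTransparency.types false in
theorem length_fibre_comp (f : X ⟶ Y) [Flat f] (g : Y ⟶ Z) (x : X) :
    Module.length (X.presheaf.stalk x) (X.presheaf.stalk x ⧸ Ideal.map ((f ≫ g).stalkMap x).hom
      (IsLocalRing.maximalIdeal (Z.presheaf.stalk ((f ≫ g) x)))) =
    Module.length (Y.presheaf.stalk (f x)) (Y.presheaf.stalk (f x) ⧸ Ideal.map (g.stalkMap (f x)).hom
      (IsLocalRing.maximalIdeal (Z.presheaf.stalk (g (f x))))) *
    Module.length (X.presheaf.stalk x) (X.presheaf.stalk x ⧸ Ideal.map (f.stalkMap x).hom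
      (IsLocalRing.maximalIdeal (Y.presheaf.stalk (f x)))) := by
  show Module.length (X.presheaf.stalk x) (X.presheaf.stalk x ⧸ MorLib.WT.fibreIdeal (f ≫ g) x) = _
  rw [MorLib.WT.fibreIdeal_comp]
  have hflat : (f.stalkMap x).hom.Flat := Flat.stalkMap f x
  algebraize [(f.stalkMap x).hom]
  haveI : IsLocalHom (algebraMap (Y.presheaf.stalk (f x)) (X.presheaf.stalk x)) :=
    inferInstanceAs <| IsLocalHom (f.stalkMap x).hom
  have key := IsLocalRing.length_baseChange (Y.presheaf.stalk (f x)) (X.presheaf.stalk x)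
    (Y.presheaf.stalk (f x) ⧸ MorLib.WT.fibreIdeal g (f x))
  rw [← (Algebra.TensorProduct.quotIdealMapEquivTensorQuot (X.presheaf.stalk x)
    (MorLib.WT.fibreIdeal g (f x))).toLinearEquiv.length_eq] at key
  exact key

theorem pullFun_comp (f : X ⟶ Y) (g : Y ⟶ Z) [Flat f] [LocallyOfFiniteType f] [LocallyOfFiniteType g]
    {δX : X → ℤ} {δY : Y → ℤ} {δZ : Z → ℤ} (hf : Cyc.DeltaCompat f δX δY) (hg : Cyc.DeltaCompat g δY δZ)
    {r s : ℕ} (hr : Cyc.HasRelDim f r) (hs : Cyc.HasRelDim g s) (α : Z → ℤ) :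
    Cyc.pullFun f δX δY r (Cyc.pullFun g δY δZ s α) = Cyc.pullFun (f ≫ g) δX δZ ((r : ℤ) + s) α := by
  funext x
  have h1 := rd_le_of_hasRelDim f hr x
  have h2 := rd_le_of_hasRelDim g hs (f x)
  have e1 := deltaCompat_eq f hf x
  have e2 := deltaCompat_eq g hg (f x)
  simp only [Cyc.pullFun]
  rw [show δZ ((f ≫ g) x) = δZ (g (f x)) from rfl, show α ((f ≫ g) x) = α (g (f x)) from rfl,
    length_fibre_comp f g x, ENat.toNat_mul]
  split_ifs with a b c c <;> first | (exfalso; omega) | (push_cast; ring) | simp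

end Groth.Agent.CycLib
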