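import Groth.Agent.CycLib.LFT
import Groth.Agent.DimFormula.Fibre
import Mathlib.AlgebraicGeometry.ZariskisMainTheorem

/-! Properness and finiteness in codimension one. -/

set_option autoImplicit false

universe u

open AlgebraicGeometry CategoryTheory TopologicalSpace

namespace Groth.Agent.CycLib

theorem rd_eq_zero_of_finite {X Y : Scheme.{u}} (f : X ⟶ Y) [LocallyOfFiniteType f] (x : X)
    (h : (f.residueFieldMap x).hom.Finite) : FibDim.rd f x = 0 := by
  letI := (f.residueFieldMap x).hom.toAlgebra
  haveI : Module.Finite (Y.residueField (f x)) (X.residueField x) := h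
  have h2 : Algebra.trdeg (Y.residueField (f x)) (X.residueField x) = 0 := trdeg_eq_zero
  have h1 := FibDim.rd_eq_rdeg f x
  rw [VarDim.rdeg] at h1
  exact_mod_cast h1.trans h2

theorem finite_of_forall_maximal {T : Type*} [TopologicalSpace T] [NoetherianSpace T] [QuasiSober T] [T0Space T]
    (h : ∀ x z : T, z ⤳ x → z = x) : Finite T := by
  haveI : Finite (irreducibleComponents T) := NoetherianSpace.finite_irreducibleComponents.to_subtype
  refine Finite.of_injective (fun x : T => (⟨irreducibleComponent x, irreducibleComponent_mem_irreducibleComponents x⟩ :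
    irreducibleComponents T)) fun x y hxy => ?_
  obtain ⟨η, hη⟩ := QuasiSober.sober isIrreducible_irreducibleComponent (isClosed_irreducibleComponent (x := x))
  have h1 := h x η (hη.specializes mem_irreducibleComponent)
  have h2 := h y η (hη.specializes (by
    rw [show irreducibleComponent x = irreducibleComponent y from congrArg Subtype.val hxy]
    exact mem_irreducibleComponent))
  exact h1.symm.trans h2

theorem finite_fibre_of_cd_one {X Y : Scheme.{u}} [IsIntegral X] [IsLocallyNoetherian Y]
    (f : X ⟶ Y) [LocallyOfFiniteType f] [QuasiCompact f]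
    (hfin : (f.residueFieldMap (genericPoint X)).hom.Finite) {ξ : Y}
    (hcd : DimFormula.cd (f (genericPoint X)) ξ = 1) :
    (f ⁻¹' {ξ}).Finite := by
  haveI := LocallyOfFiniteType.isLocallyNoetherian f
  have hη : ∀ x : X, genericPoint X ⤳ x := fun x => (genericPoint_spec X).specializes (Set.mem_univ x)
  have h0 : FibDim.rd f (genericPoint X) = 0 := rd_eq_zero_of_finite f _ hfin
  have hle : ∀ x, f x = ξ → DimFormula.cd (genericPoint X) x ≤ 1 := fun x hx => by
    have := (DimFormula.cd_formula f (hη x)).1
    rw [hx, hcd, h0] at this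
    omega
  have hne : ∀ x, f x = ξ → genericPoint X ≠ x := fun x hx he => by
    rw [← he] at hx
    rw [← hx, DimFormula.cd_self] at hcd
    omega
  have hmax : ∀ x z, f x = ξ → f z = ξ → z ⤳ x → z = x := fun x z hx hz hzx => by
    by_contra hzne
    have h1 := DimFormula.cd_add_cd_le hzx (hη z)
    have h2 : DimFormula.cd (genericPoint X) z ≠ 0 := fun h => hne z hz ((DimFormula.cd_eq_zero_iff (hη z)).1 h)
    have h3 : DimFormula.cd z x ≠ 0 := fun h => hzne ((DimFormula.cd_eq_zero_iff hzx).1 h)
    have := hle x hx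
    omega
  haveI := DimFormula.isLocallyNoetherian_fiber f ξ
  haveI : CompactSpace ↥(f ⁻¹' {ξ}) := isCompact_iff_compactSpace.1 (f.isCompact_preimage_singleton ξ)
  haveI : CompactSpace ↥(f.fiber ξ) := (f.fiberHomeo ξ).symm.compactSpace
  haveI : IsNoetherian (f.fiber ξ) := ⟨⟩
  have hfib : Finite ↥(f.fiber ξ) := finite_of_forall_maximal fun a b hab =>
    (f.fiberι ξ).isEmbedding.injective (hmax _ _ (FibDim.fiber_apply_fiberι f a) (FibDim.fiber_apply_fiberι f b)
      (hab.map (f.fiberι ξ).continuous))
  exact Set.finite_coe_iff.1 ((f.fiberHomeo ξ).finite_iff.1 hfib)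

theorem exists_isFinite_nhd {X Y : Scheme.{u}} [IsIntegral X] [IsIntegral Y] [IsLocallyNoetherian Y]
    (f : X ⟶ Y) [IsProper f] (hgen : f (genericPoint X) = genericPoint Y)
    (hfin : (f.residueFieldMap (genericPoint X)).hom.Finite) {ξ : Y} (hξ : DimFormula.codim ξ = 1) :
    ∃ V : Y.Opens, ξ ∈ V ∧ IsFinite (f ∣_ V) :=
  exists_isFinite_morphismRestrict_of_finite_preimage_singleton f ξ (finite_fibre_of_cd_one f hfin (by rw [hgen]; exact (DimFormula.cd_eq_codim_of_irreducible ξ).trans hξ))

theorem finite_residueFieldMap_of_rd_eq_zero {X Y : Scheme.{u}} (f : X ⟶ Y) [LocallyOfFiniteType f] (x : X)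
    (h : FibDim.rd f x = 0) : (f.residueFieldMap x).hom.Finite := by
  letI aAB : Algebra (Y.presheaf.stalk (f x)) (X.presheaf.stalk x) := (f.stalkMap x).hom.toAlgebra
  letI ak : Algebra (Y.residueField (f x)) (X.residueField x) := (f.residueFieldMap x).hom.toAlgebra
  letI aAk : Algebra (Y.presheaf.stalk (f x)) (Y.residueField (f x)) := (Y.residue (f x)).hom.toAlgebra
  letI aBL : Algebra (X.presheaf.stalk x) (X.residueField x) := (X.residue x).hom.toAlgebra
  letI aAL : Algebra (Y.presheaf.stalk (f x)) (X.residueField x) := ((f.stalkMap x) ≫ X.residue x).hom.toAlgebra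
  haveI : IsScalarTower (Y.presheaf.stalk (f x)) (X.presheaf.stalk x) (X.residueField x) :=
    IsScalarTower.of_algebraMap_eq fun _ => rfl
  haveI : IsScalarTower (Y.presheaf.stalk (f x)) (Y.residueField (f x)) (X.residueField x) :=
    IsScalarTower.of_algebraMap_eq' (congrArg CommRingCat.Hom.hom (Scheme.residue_residueFieldMap f x)).symm
  haveI : Algebra.EssFiniteType (Y.presheaf.stalk (f x)) (X.presheaf.stalk x) := LocallyOfFiniteType.stalkMap f x
  haveI : Algebra.EssFiniteType (Y.presheaf.stalk (f x)) (X.residueField x) :=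
    Algebra.EssFiniteType.of_surjective (IsScalarTower.toAlgHom _ (X.presheaf.stalk x) (X.residueField x))
      (X.residue_surjective x)
  haveI : Algebra.EssFiniteType (Y.residueField (f x)) (X.residueField x) :=
    Algebra.EssFiniteType.of_comp (Y.presheaf.stalk (f x)) (Y.residueField (f x)) (X.residueField x)
  haveI : Algebra.IsAlgebraic (Y.residueField (f x)) (X.residueField x) := by
    refine trdeg_eq_zero_iff.1 ?_
    have h1 := FibDim.rd_eq_rdeg f x
    rw [h, VarDim.rdeg, Nat.cast_zero] at h1
    exact h1.symm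
  exact Algebra.finite_of_essFiniteType_of_isAlgebraic

end Groth.Agent.CycLib
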