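import Groth.Agent.CycLib.Div

/-! Locally finite sums of principal divisors. -/

set_option autoImplicit false

universe u

open AlgebraicGeometry CategoryTheory TopologicalSpace

namespace Groth.Agent.CycLib

variable {X : Scheme.{u}} {δ : X → ℤ}

theorem mem_closure_of_divFun_ne_zero {ξ x : X} {f : X.residueField ξ} (h : Cyc.divFun δ ξ f x ≠ 0) :
    x ∈ closure ({ξ} : Set X) :=
  specializes_iff_mem_closure.1 (by_contra fun hc => h (divFun_eq_zero_of_not_specializes δ f hc))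

theorem finite_index {ι : Type*} (ξ : ι → X) (f : (i : ι) → X.residueField (ξ i))
    (hloc : ∀ x : X, ∃ U : Set X, IsOpen U ∧ x ∈ U ∧ {i | (closure {ξ i} ∩ U).Nonempty}.Finite) (x : X) :
    (Function.support fun i => Cyc.divFun δ (ξ i) (f i) x).Finite := by
  obtain ⟨U, -, hxU, hfin⟩ := hloc x
  exact hfin.subset fun i hi => ⟨x, mem_closure_of_divFun_ne_zero hi, hxU⟩

/-- A locally finite sum of principal divisors, as a cycle. -/
noncomputable def sumDiv [IsLocallyNoetherian X] (hd : Cyc.IsDimFun X δ) {ι : Type*} (ξ : ι → X)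
    (f : (i : ι) → X.residueField (ξ i)) (hf : ∀ i, f i ≠ 0)
    (hloc : ∀ x : X, ∃ U : Set X, IsOpen U ∧ x ∈ U ∧ {i | (closure {ξ i} ∩ U).Nonempty}.Finite) :
    AlgebraicCycle X ℤ where
  toFun x := ∑ᶠ i, Cyc.divFun δ (ξ i) (f i) x
  supportWithinDomain' := fun _ _ => trivial
  supportLocallyFiniteWithinDomain' := fun z _ => by
    obtain ⟨U, hUo, hzU, hfin⟩ := hloc z
    obtain ⟨_, ⟨V, hV, rfl⟩, hz, -⟩ :=
      X.isBasis_affineOpens.exists_subset_of_mem_open (Set.mem_univ z) isOpen_univ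
    refine ⟨U ∩ (V : Set X), Filter.inter_mem (hUo.mem_nhds hzU) (V.2.mem_nhds hz),
      (hfin.biUnion fun i _ => finite_divFun_support hd hV (hf i)).subset ?_⟩
    rintro x ⟨⟨hxU, hxV⟩, hx⟩
    obtain ⟨i, hi⟩ : ∃ i, Cyc.divFun δ (ξ i) (f i) x ≠ 0 :=
      not_forall.1 fun h => hx (finsum_eq_zero_of_forall_eq_zero h)
    exact Set.mem_biUnion (show (closure {ξ i} ∩ U).Nonempty from ⟨x, mem_closure_of_divFun_ne_zero hi, hxU⟩) ⟨hxV, hi⟩

@[simp] theorem sumDiv_apply [IsLocallyNoetherian X] (hd : Cyc.IsDimFun X δ) {ι : Type*} (ξ : ι → X)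
    (f : (i : ι) → X.residueField (ξ i)) (hf : ∀ i, f i ≠ 0)
    (hloc : ∀ x : X, ∃ U : Set X, IsOpen U ∧ x ∈ U ∧ {i | (closure {ξ i} ∩ U).Nonempty}.Finite) (x : X) :
    sumDiv hd ξ f hf hloc x = ∑ᶠ i, Cyc.divFun δ (ξ i) (f i) x := rfl

end Groth.Agent.CycLib
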