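import Groth.Agent.CycLib.CurveDegree
import Groth.Agent.CycLib.RatSum

/-! Proper push-forward of principal divisors in general. -/

set_option autoImplicit false

universe u

open AlgebraicGeometry CategoryTheory TopologicalSpace

namespace Groth.Agent.CycLib

variable {X Y : Scheme.{u}}

theorem residueDegree_fiberι (f : X ⟶ Y) (y : Y) (z : ↥(f.fiber y)) :
    f.residueDegree (f.fiberι y z) = (f.fiberToSpecResidueField y).residueDegree z := by
  have h1 := residueDegree_comp (f.fiberι y) f z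
  have h2 := residueDegree_comp (f.fiberToSpecResidueField y) (Y.fromSpecResidueField y) z
  rw [residueDegree_preimmersion (f.fiberι y), mul_one] at h1
  rw [residueDegree_preimmersion (Y.fromSpecResidueField y), one_mul] at h2
  have e : f.fiberι y ≫ f = f.fiberToSpecResidueField y ≫ Y.fromSpecResidueField y := Limits.pullback.condition
  have hcongr : ∀ {W Y' : Scheme.{u}} (a b : W ⟶ Y'), a = b → ∀ w, a.residueDegree w = b.residueDegree w := by
    rintro W Y' a b rfl w; rfl
  exact h1.symm.trans ((hcongr _ _ e z).trans h2)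

/-- Push-forward of a principal divisor when the dimension drops. -/
theorem map_divFun_of_lt (f : X ⟶ Y) [IsProper f] [IsLocallyNoetherian X] [IsLocallyNoetherian Y]
    {δX : X → ℤ} {δY : Y → ℤ} (hdY : Cyc.IsDimFun Y δY) (hδ : Cyc.DeltaCompat f δX δY)
    {ξ : X} (hξ : δY (f ξ) < δX ξ) {g : X.residueField ξ} (hg : g ≠ 0) (y : Y) :
    ∑ᶠ x ∈ f ⁻¹' {y}, Cyc.divFun δX ξ g x * (AlgebraicCycle.mapCoeff f δX δY x : ℤ) = 0 := by
  by_cases hy : f ξ = y ∧ δX ξ = δY y + 1
  swap
  · refine finsum_mem_eq_zero_of_forall_eq_zero fun x hx => by_contra fun hne => hy ?_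
    obtain ⟨-, h2, h3, h4, h5⟩ := mapCoeff_divFun_zero f hdY hne
    rw [show f x = y from hx] at h3 h4 h5
    have h6 := eq_of_delta_le hdY h4 (by omega)
    exact ⟨h6, by omega⟩
  obtain ⟨rfl, hy'⟩ := hy
  let ι := f.fiberι (f ξ)
  let c : f.fiber (f ξ) ⟶ Spec (CommRingCat.of (Y.residueField (f ξ))) := f.fiberToSpecResidueField (f ξ)
  haveI : IsProper c := MorphismProperty.pullback_snd (P := @IsProper) f (Y.fromSpecResidueField (f ξ)) inferInstance
  haveI : IsLocallyNoetherian (f.fiber (f ξ)) := DimFormula.isLocallyNoetherian_fiber f (f ξ)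
  have hfz : ∀ z, f (ι z) = f ξ := fun z => FibDim.fiber_apply_fiberι f z
  have hrd : ∀ z, (FibDim.rd c z : ℤ) = δX (ι z) + -δY (f ξ) := fun z => by
    have h := deltaCompat_eq f hδ (ι z)
    rw [hfz] at h
    rw [DimFormula.rd_fiberToSpec]
    show (FibDim.rd f (ι z) : ℤ) = _
    omega
  obtain ⟨z, hz⟩ : ξ ∈ Set.range ι := by rw [Scheme.Hom.range_fiberι]; rfl
  have key : ∀ (g' : X.residueField (ι z)), g' ≠ 0 →
      ∑ᶠ x ∈ f ⁻¹' {f ξ}, Cyc.divFun δX (ι z) g' x * (AlgebraicCycle.mapCoeff f δX δY x : ℤ) = 0 := by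
    intro g' hg'
    have hg'' : ι.residueFieldMap z g' ≠ 0 := (map_ne_zero (ι.residueFieldMap z).hom).2 hg'
    have h0 := sum_divFun_eq_zero c (deltaCompat_rd c) (ξ := z) (by
      show (FibDim.rd c z : ℤ) = 1
      rw [hrd, hz]
      omega) hg''
    rw [← finsum_mem_preimage_eq ι (f.fiberι (f ξ)).isEmbedding.injective
      (fun x => Cyc.divFun δX (ι z) g' x * (AlgebraicCycle.mapCoeff f δX δY x : ℤ)) (f ⁻¹' {f ξ}) fun x hx _ => by
        rw [Scheme.Hom.range_fiberι]; exact hx]
    rw [show ι ⁻¹' (f ⁻¹' {f ξ}) = Set.univ from Set.eq_univ_of_forall hfz, finsum_mem_univ]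
    refine Eq.trans (finsum_congr fun w => ?_) h0
    show Cyc.divFun δX (ι z) g' (ι w) * _ = _
    rw [divFun_preimmersion ι (-δY (f ξ)) hrd]
    congr 2
    show (if δX (ι w) = δY (f (ι w)) then f.residueDegree (ι w) else 0) =
      if (FibDim.rd c w : ℤ) = 0 then c.residueDegree w else 0
    rw [residueDegree_fiberι, hfz, hrd]
    congr 1
    exact propext ⟨fun h => by omega, fun h => by omega⟩
  have := key ((X.residueFieldCongr hz).inv g) ((map_ne_zero (X.residueFieldCongr hz).inv.hom).2 hg)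
  rw [Scheme.residueFieldCongr_inv] at this
  simpa only [divFun_congr] using this

/-- The push-forward of a locally finite sum of principal divisors is one. -/
theorem ratEquivZero_map (f : X ⟶ Y) [IsProper f] {δX : X → ℤ} {δY : Y → ℤ} (hX : Cyc.IsSetup X δX)
    (hY : Cyc.IsSetup Y δY) (hδ : Cyc.DeltaCompat f δX δY) {k : ℤ} {α : AlgebraicCycle X ℤ}
    (h : Cyc.RatEquivZero δX k α) : Cyc.RatEquivZero δY k (AlgebraicCycle.map f δX δY α) := by
  classical
  haveI := hX.1
  haveI := hY.1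
  obtain ⟨ι, ξ, g, hξ, hg, hloc, hsum⟩ := h
  let J := {i : ι // δX (ξ i) = δY (f (ξ i))}
  have hnorm : ∀ i : J, Cyc.normGen f (ξ i.1) (g i.1) ≠ 0 := fun i => by
    letI := (f.residueFieldMap (ξ i.1)).hom.toAlgebra
    haveI : FiniteDimensional (Y.residueField (f (ξ i.1))) (X.residueField (ξ i.1)) :=
      finite_residueFieldMap_of_rd_eq_zero f (ξ i.1) (by
        have h1 := deltaCompat_eq f hδ (ξ i.1)
        have h2 := i.2
        omega)
    exact Algebra.norm_ne_zero_iff.2 (hg i.1)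
  choose W hWo hWmem hWfin using hloc
  have hcomp : ∀ {K : Set X}, IsCompact K → {i | (closure {ξ i} ∩ K).Nonempty}.Finite := fun {K} hK => by
    obtain ⟨t, -, hts⟩ := hK.elim_nhds_subcover W fun u _ => (hWo u).mem_nhds (hWmem u)
    refine (t.finite_toSet.biUnion fun u _ => hWfin u).subset ?_
    rintro i ⟨a, ha, haK⟩
    obtain ⟨u, hu, hau⟩ := Set.mem_iUnion₂.1 (hts haK)
    exact Set.mem_biUnion hu ⟨a, ha, hau⟩
  refine ⟨J, fun i => f (ξ i.1), fun i => Cyc.normGen f (ξ i.1) (g i.1), fun i => by rw [← i.2]; exact hξ i.1, hnorm,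
    fun y => ?_, fun y => ?_⟩
  · obtain ⟨U, hU, hy, -⟩ := exists_isAffineOpen_mem_and_subset (x := y) (U := ⊤) trivial
    refine ⟨(U : Set Y), U.2, hy, ?_⟩
    refine (((hcomp (QuasiCompact.isCompact_preimage (f := f) U U.isOpen hU.isCompact))).preimage
      Subtype.val_injective.injOn).subset ?_
    rintro i ⟨b, hb, hbU⟩
    exact ⟨ξ i.1, subset_closure rfl,
      show f (ξ i.1) ∈ U from (specializes_iff_mem_closure.2 hb).mem_open U.2 hbU⟩
  · obtain ⟨U, hU, hy, -⟩ := exists_isAffineOpen_mem_and_subset (x := y) (U := ⊤) trivial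
    have hIfin := hcomp (QuasiCompact.isCompact_preimage (f := f) U U.isOpen hU.isCompact)
    have hout : ∀ i ∉ hIfin.toFinset, ∀ x, f x ∈ U → Cyc.divFun δX (ξ i) (g i) x = 0 := fun i hi x hx =>
      by_contra fun hne => hi (hIfin.mem_toFinset.2 ⟨x, mem_closure_of_divFun_ne_zero hne, hx⟩)
    have hα : ∀ x, f x ∈ U → α x = ∑ i ∈ hIfin.toFinset, Cyc.divFun δX (ξ i) (g i) x := fun x hx => by
      rw [hsum, finsum_eq_sum_of_support_subset]
      exact fun i hi => by_contra fun hn => hi (hout i hn x hx)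
    rw [map_apply', finsum_mem_congr rfl (fun x (hx : x ∈ f ⁻¹' {y}) => by
      rw [hα x (show f x ∈ U by rw [show f x = y from hx]; exact hy), Finset.sum_mul])]
    have hfin : ∀ i ∈ hIfin.toFinset, (f ⁻¹' {y} ∩ Function.support fun x =>
        Cyc.divFun δX (ξ i) (g i) x * (AlgebraicCycle.mapCoeff f δX δY x : ℤ)).Finite := fun i _ =>
      (finite_support_inter_fibre f (divCycle hX.2.2 (ξ i) (g i) (hg i)) y).subset fun x hx =>
        ⟨left_ne_zero_of_mul hx.2, hx.1⟩
    have hswap : ∑ᶠ x ∈ f ⁻¹' {y}, ∑ i ∈ hIfin.toFinset,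
        Cyc.divFun δX (ξ i) (g i) x * (AlgebraicCycle.mapCoeff f δX δY x : ℤ) =
      ∑ i ∈ hIfin.toFinset, ∑ᶠ x ∈ f ⁻¹' {y},
        Cyc.divFun δX (ξ i) (g i) x * (AlgebraicCycle.mapCoeff f δX δY x : ℤ) := by
      simp only [finsum_mem_def]
      rw [← finsum_sum_comm]
      · refine finsum_congr fun x => ?_
        by_cases hx : x ∈ f ⁻¹' {y} <;> simp [hx]
      · intro i hi
        exact (hfin i hi).subset fun x hx => by
          rw [Function.mem_support] at hx
          by_cases hxy : x ∈ f ⁻¹' {y}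
          · exact ⟨hxy, by simpa [hxy] using hx⟩
          · simp [hxy] at hx
    rw [hswap]
    let T : Finset J := hIfin.toFinset.subtype _
    rw [finsum_eq_sum_of_support_subset (s := T)]
    swap
    · intro i hi
      rw [Finset.mem_coe, Finset.mem_subtype]
      by_contra hn
      apply hi
      show Cyc.divFun δY (f (ξ i.1)) _ y = 0
      refine divFun_eq_zero_of_not_specializes δY _ fun hsp => hn (hIfin.mem_toFinset.2
        ⟨ξ i.1, subset_closure rfl, show f (ξ i.1) ∈ U from hsp.mem_open U.2 hy⟩)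
    rw [← Finset.sum_filter_add_sum_filter_not hIfin.toFinset (fun i => δX (ξ i) = δY (f (ξ i))),
      Finset.sum_eq_zero (s := hIfin.toFinset.filter fun i => ¬δX (ξ i) = δY (f (ξ i))) fun i hi => ?_, add_zero,
      ← Finset.sum_subtype_eq_sum_filter]
    · exact Finset.sum_congr rfl fun i _ => map_divFun_of_eq f hX.2.2 hY.2.2 hδ i.2 (hg i.1) y
    · refine map_divFun_of_lt f hY.2.2 hδ ?_ (hg i) y
      have h1 := le_of_deltaCompat f hδ (ξ i)
      have h2 := (Finset.mem_filter.1 hi).2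
      omega

end Groth.Agent.CycLib

namespace Groth.Agent.CycLib

variable {X Y : Scheme.{u}}

theorem map_sub' (f : X ⟶ Y) [QuasiCompact f] (δX : X → ℤ) (δY : Y → ℤ) (a b : AlgebraicCycle X ℤ) :
    AlgebraicCycle.map f δX δY (a - b) = AlgebraicCycle.map f δX δY a - AlgebraicCycle.map f δX δY b := by
  ext y
  rw [Function.locallyFinsuppWithin.coe_sub, Pi.sub_apply, map_apply', map_apply', map_apply']
  rw [eq_sub_iff_add_eq, ← finsum_mem_add_distrib'
    ((finite_support_inter_fibre f (a - b) y).subset fun x hx => ⟨left_ne_zero_of_mul hx.2, hx.1⟩)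
    ((finite_support_inter_fibre f b y).subset fun x hx => ⟨left_ne_zero_of_mul hx.2, hx.1⟩)]
  exact finsum_mem_congr rfl fun x _ => by
    rw [← add_mul, Function.locallyFinsuppWithin.coe_sub, Pi.sub_apply, sub_add_cancel]

theorem ratEquiv_map (f : X ⟶ Y) [IsProper f] {δX : X → ℤ} {δY : Y → ℤ} (hX : Cyc.IsSetup X δX)
    (hY : Cyc.IsSetup Y δY) (hδ : Cyc.DeltaCompat f δX δY) {k : ℤ} {α β : AlgebraicCycle X ℤ}
    (h : Cyc.RatEquiv δX k α β) : Cyc.RatEquiv δY k (AlgebraicCycle.map f δX δY α) (AlgebraicCycle.map f δX δY β) := by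
  rw [Cyc.RatEquiv, ← map_sub']
  exact ratEquivZero_map f hX hY hδ h

end Groth.Agent.CycLib
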