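import Groth.Prelude.Def_Cyc
import Groth.Agent.DimFormula.Stalk
import Groth.Agent.CDiv6.Factorial
import Groth.Agent.SchTop.Closed

/-! Dimension functions: codimensions, local rings of closures. -/

set_option autoImplicit false

universe u

open AlgebraicGeometry CategoryTheory

namespace Groth.Agent.CycLib

variable {X : Scheme.{u}} {δ : X → ℤ}

theorem delta_lt (hd : Cyc.IsDimFun X δ) {x y : X} (h : x ⤳ y) (hne : x ≠ y) : δ y < δ x := (hd x y h hne).1

theorem delta_le (hd : Cyc.IsDimFun X δ) {x y : X} (h : x ⤳ y) : δ y ≤ δ x := by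
  rcases eq_or_ne x y with rfl | hne
  · rfl
  · exact (delta_lt hd h hne).le

theorem eq_of_delta_le (hd : Cyc.IsDimFun X δ) {x y : X} (h : x ⤳ y) (hle : δ x ≤ δ y) : x = y :=
  by_contra fun hne => (delta_lt hd h hne).not_ge hle

/-- A point immediately above `x` inside the generalizations of `x` below `η`. -/
theorem exists_immediate (hd : Cyc.IsDimFun X δ) {η x : X} (h : η ⤳ x) (hne : η ≠ x) :
    ∃ z, η ⤳ z ∧ z ⤳ x ∧ z ≠ x ∧ δ z = δ x + 1 := by
  classical
  have hex : ∃ n : ℕ, ∃ z, η ⤳ z ∧ z ⤳ x ∧ z ≠ x ∧ (δ z - δ x).toNat = n := ⟨_, η, specializes_rfl, h, hne, rfl⟩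
  obtain ⟨z, hηz, hzx, hzne, hz⟩ := Nat.find_spec hex
  refine ⟨z, hηz, hzx, hzne, (hd z x hzx hzne).2 fun w hzw hwx => ?_⟩
  by_contra hw
  push Not at hw
  have h1 := delta_lt hd hzw hw.1.symm
  have h2 := delta_lt hd hwx hw.2
  have := Nat.find_min' hex ⟨w, hηz.trans hzw, hwx, hw.2, rfl⟩
  omega

/-- The codimension of closures is the drop of the dimension function. -/
theorem cd_eq [IsLocallyNoetherian X] (hd : Cyc.IsDimFun X δ) {η x : X} (h : η ⤳ x) :
    (DimFormula.cd η x : ℤ) = δ η - δ x := by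
  refine le_antisymm ?_ ?_
  · obtain ⟨l, h0, h1, hl⟩ := DimFormula.exists_cd_series h
    have key : ∀ i : Fin (l.length + 1), δ l.head + (i : ℕ) ≤ δ (l i) := by
      intro i
      induction i using Fin.induction with
      | zero => simp [RelSeries.head]
      | succ j ih =>
        have hlt : l j.castSucc < l j.succ := l.step j
        have hsp : l j.succ ⤳ l j.castSucc := hlt.le
        have := delta_lt hd hsp fun e => hlt.ne e.symm
        simp only [Fin.val_succ, Fin.val_castSucc, Nat.cast_add, Nat.cast_one] at ih ⊢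
        omega
    have := key (Fin.last _)
    have h2 := delta_le hd h1
    rw [h0] at this
    simp only [Fin.val_last, RelSeries.last] at this h2
    omega
  · obtain ⟨n, hn⟩ : ∃ n : ℕ, δ η - δ x ≤ n := ⟨(δ η - δ x).toNat, Int.self_le_toNat _⟩
    induction n generalizing x with
    | zero => omega
    | succ n ih =>
      rcases eq_or_ne η x with rfl | hne
      · omega
      obtain ⟨z, hηz, hzx, hzne, hz⟩ := exists_immediate hd h hne
      have h1 := DimFormula.cd_add_cd_le hzx hηz
      have h2 := ih hηz (by omega)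
      have h3 : DimFormula.cd z x ≠ 0 := fun h0 => hzne ((DimFormula.cd_eq_zero_iff hzx).1 h0)
      omega

theorem ker_specMap {x ξ : X} (h : ξ ⤳ x) :
    RingHom.ker (Cyc.specMap x ξ h) = (CDiv6.primeOf h).asIdeal := by
  ext g
  show (X.presheaf.stalkSpecializes h ≫ X.residue ξ).hom g = 0 ↔
    (X.presheaf.stalkSpecializes h).hom g ∈ IsLocalRing.maximalIdeal _
  exact Ideal.Quotient.eq_zero_iff_mem

theorem ringKrullDim_locQuot [IsLocallyNoetherian X] {x ξ : X} (h : ξ ⤳ x) :
    ringKrullDim (Cyc.LocQuot x ξ h) = (DimFormula.cd ξ x : WithBot ℕ∞) := by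
  show ringKrullDim (X.presheaf.stalk x ⧸ RingHom.ker (Cyc.specMap x ξ h)) = _
  rw [ringKrullDim_eq_of_ringEquiv (Ideal.quotEquivOfEq (ker_specMap h)),
    DimFormula.ringKrullDim_stalk_quotient, CDiv6.fromSpecStalk_primeOf]

theorem ringKrullDim_stalk_eq [IsIntegral X] [IsLocallyNoetherian X] (hd : Cyc.IsDimFun X δ) (x : X) :
    ringKrullDim (X.presheaf.stalk x) = ((δ (genericPoint X) - δ x).toNat : WithBot ℕ∞) := by
  rw [DimFormula.ringKrullDim_stalk, ← DimFormula.cd_eq_codim_of_irreducible x,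
    ← cd_eq hd ((genericPoint_spec X).specializes (Set.mem_univ x)), Int.toNat_natCast]

theorem stalk_dim_zero_of_maximal [IsLocallyNoetherian X] {x : X} (h : ∀ z, z ⤳ x → z = x) :
    ringKrullDim (X.presheaf.stalk x) = 0 := by
  rw [DimFormula.ringKrullDim_stalk, DimFormula.codim_eq_zero_iff.2 h]
  rfl

end Groth.Agent.CycLib
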