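import Groth.Agent.CycLib.Basic
import Groth.Agent.IntThLib.Lattice

/-! The local rings of closures of points and principal divisors. -/

set_option autoImplicit false

universe u

open AlgebraicGeometry CategoryTheory TopologicalSpace

namespace Groth.Agent.CycLib

variable {X : Scheme.{u}}

/-- `O_{X,x}/p_ξ` at a point `x` of the closure of `ξ`, inside `κ(ξ)`. -/
theorem algebraMap_locQuot_mk {x ξ : X} (h : ξ ⤳ x) (a : X.presheaf.stalk x) :
    algebraMap (Cyc.LocQuot x ξ h) (X.residueField ξ) (Ideal.Quotient.mk _ a) = Cyc.specMap x ξ h a := rfl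

instance faithfulSMul_locQuot {x ξ : X} (h : ξ ⤳ x) :
    FaithfulSMul (Cyc.LocQuot x ξ h) (X.residueField ξ) := by
  rw [faithfulSMul_iff_algebraMap_injective, injective_iff_map_eq_zero]
  intro a ha
  obtain ⟨a, rfl⟩ := Ideal.Quotient.mk_surjective a
  exact Ideal.Quotient.eq_zero_iff_mem.2 ha

instance isDomain_locQuot {x ξ : X} (h : ξ ⤳ x) : IsDomain (Cyc.LocQuot x ξ h) :=
  (FaithfulSMul.algebraMap_injective (Cyc.LocQuot x ξ h) (X.residueField ξ)).isDomain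

theorem specMap_germ {x ξ : X} (h : ξ ⤳ x) (U : X.Opens) (hx : x ∈ U) (a : Γ(X, U)) :
    Cyc.specMap x ξ h (X.presheaf.germ U x hx a) = X.evaluation U ξ (h.mem_open U.isOpen hx) a :=
  congrArg (X.residue ξ) (TopCat.Presheaf.germ_stalkSpecializes_apply X.presheaf hx h a)

theorem exists_eval_div {U : X.Opens} (hU : IsAffineOpen U) {ξ : X} (hξ : ξ ∈ U) (z : X.residueField ξ) :
    ∃ a s : Γ(X, U), X.evaluation U ξ hξ s ≠ 0 ∧ z = X.evaluation U ξ hξ a / X.evaluation U ξ hξ s := by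
  obtain ⟨g, rfl⟩ := X.residue_surjective ξ z
  letI := X.presheaf.algebra_section_stalk ⟨ξ, hξ⟩
  haveI := hU.isLocalization_stalk ⟨ξ, hξ⟩
  obtain ⟨⟨a, s⟩, has⟩ := IsLocalization.surj (hU.primeIdealOf ⟨ξ, hξ⟩).asIdeal.primeCompl g
  have hs : X.evaluation U ξ hξ s.1 ≠ 0 := by
    have hu : IsUnit (algebraMap Γ(X, U) (X.presheaf.stalk ξ) s.1) := IsLocalization.map_units _ s
    exact (hu.map (X.residue ξ).hom).ne_zero
  refine ⟨a, s.1, hs, ?_⟩
  rw [eq_div_iff hs]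
  exact ((map_mul (X.residue ξ).hom g _).symm.trans (congrArg (X.residue ξ).hom has) : _)

instance isFractionRing_locQuot {x ξ : X} (h : ξ ⤳ x) :
    IsFractionRing (Cyc.LocQuot x ξ h) (X.residueField ξ) := by
  refine IsFractionRing.of_field _ _ fun z => ?_
  obtain ⟨_, ⟨U, hU, rfl⟩, hx, -⟩ :=
    X.isBasis_affineOpens.exists_subset_of_mem_open (Set.mem_univ x) isOpen_univ
  obtain ⟨a, s, -, hz⟩ := exists_eval_div hU (h.mem_open U.2 hx) z
  refine ⟨Ideal.Quotient.mk _ (X.presheaf.germ U x hx a), Ideal.Quotient.mk _ (X.presheaf.germ U x hx s), ?_⟩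
  rw [algebraMap_locQuot_mk, algebraMap_locQuot_mk, specMap_germ, specMap_germ]
  exact hz

instance isLocalRing_locQuot {x ξ : X} (h : ξ ⤳ x) : IsLocalRing (Cyc.LocQuot x ξ h) :=
  IsLocalRing.of_surjective' (Ideal.Quotient.mk (RingHom.ker (Cyc.specMap x ξ h))) Ideal.Quotient.mk_surjective

instance isNoetherianRing_locQuot [IsLocallyNoetherian X] {x ξ : X} (h : ξ ⤳ x) :
    IsNoetherianRing (Cyc.LocQuot x ξ h) :=
  isNoetherianRing_of_surjective _ _ (Ideal.Quotient.mk (RingHom.ker (Cyc.specMap x ξ h))) Ideal.Quotient.mk_surjective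

theorem ringKrullDim_locQuot_eq_one [IsLocallyNoetherian X] {δ : X → ℤ} (hd : Cyc.IsDimFun X δ) {x ξ : X}
    (h : ξ ⤳ x) (hx : δ x + 1 = δ ξ) : ringKrullDim (Cyc.LocQuot x ξ h) = 1 := by
  have h1 : DimFormula.cd ξ x = 1 := by
    have := cd_eq hd h
    omega
  rw [ringKrullDim_locQuot h, h1]
  rfl

theorem krullDimLE_locQuot [IsLocallyNoetherian X] {δ : X → ℤ} (hd : Cyc.IsDimFun X δ) {x ξ : X}
    (h : ξ ⤳ x) (hx : δ x + 1 = δ ξ) : Ring.KrullDimLE 1 (Cyc.LocQuot x ξ h) := by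
  rw [Ring.KrullDimLE, Order.krullDimLE_iff]
  exact (ringKrullDim_locQuot_eq_one hd h hx).le

theorem ordAt_mul [IsLocallyNoetherian X] {δ : X → ℤ} (hd : Cyc.IsDimFun X δ) {x ξ : X}
    (h : ξ ⤳ x) (hx : δ x + 1 = δ ξ) {f g : X.residueField ξ} (hf : f ≠ 0) (hg : g ≠ 0) :
    Cyc.ordAt x ξ h (f * g) = Cyc.ordAt x ξ h f + Cyc.ordAt x ξ h g := by
  haveI := krullDimLE_locQuot hd h hx
  exact IntThLib.ordFrac_mul hf hg

theorem ordAt_one [IsLocallyNoetherian X] {δ : X → ℤ} (hd : Cyc.IsDimFun X δ) {x ξ : X}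
    (h : ξ ⤳ x) (hx : δ x + 1 = δ ξ) : Cyc.ordAt x ξ h 1 = 0 := by
  have := ordAt_mul hd h hx (one_ne_zero (α := X.residueField ξ)) one_ne_zero
  rw [mul_one] at this
  omega

theorem ordAt_inv [IsLocallyNoetherian X] {δ : X → ℤ} (hd : Cyc.IsDimFun X δ) {x ξ : X}
    (h : ξ ⤳ x) (hx : δ x + 1 = δ ξ) {f : X.residueField ξ} (hf : f ≠ 0) :
    Cyc.ordAt x ξ h f⁻¹ = - Cyc.ordAt x ξ h f := by
  have := ordAt_mul hd h hx hf (inv_ne_zero hf)
  rw [mul_inv_cancel₀ hf, ordAt_one hd h hx] at this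
  omega

theorem ordAt_algebraMap [IsLocallyNoetherian X] {δ : X → ℤ} (hd : Cyc.IsDimFun X δ) {x ξ : X}
    (h : ξ ⤳ x) (hx : δ x + 1 = δ ξ) {a : Cyc.LocQuot x ξ h} (ha : a ≠ 0) :
    Cyc.ordAt x ξ h (algebraMap _ (X.residueField ξ) a) = ((Ring.ord (Cyc.LocQuot x ξ h) a).toNat : ℤ) := by
  haveI := krullDimLE_locQuot hd h hx
  exact IntThLib.ordFrac_algebraMap ha

theorem ordAt_eq_zero_of_isUnit [IsLocallyNoetherian X] {δ : X → ℤ} (hd : Cyc.IsDimFun X δ) {x ξ : X}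
    (h : ξ ⤳ x) (hx : δ x + 1 = δ ξ) {a : X.presheaf.stalk x} (ha : IsUnit a) :
    Cyc.ordAt x ξ h (Cyc.specMap x ξ h a) = 0 := by
  have hu : IsUnit (Ideal.Quotient.mk (RingHom.ker (Cyc.specMap x ξ h)) a) := ha.map _
  rw [← algebraMap_locQuot_mk, ordAt_algebraMap hd h hx hu.ne_zero, Ring.ord_of_isUnit hu]
  rfl

theorem divFun_eq (δ : X → ℤ) {ξ x : X} (f : X.residueField ξ) (h : ξ ⤳ x) (hx : δ x + 1 = δ ξ) :
    Cyc.divFun δ ξ f x = Cyc.ordAt x ξ h f := dif_pos ⟨h, hx⟩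

theorem divFun_eq_zero_of_not_specializes (δ : X → ℤ) {ξ x : X} (f : X.residueField ξ) (h : ¬ ξ ⤳ x) :
    Cyc.divFun δ ξ f x = 0 := dif_neg fun h' => h h'.1

theorem divFun_eq_zero_of_delta (δ : X → ℤ) {ξ x : X} (f : X.residueField ξ) (h : δ x + 1 ≠ δ ξ) :
    Cyc.divFun δ ξ f x = 0 := dif_neg fun h' => h h'.2

theorem divFun_mul [IsLocallyNoetherian X] {δ : X → ℤ} (hd : Cyc.IsDimFun X δ) {ξ : X}
    {f g : X.residueField ξ} (hf : f ≠ 0) (hg : g ≠ 0) :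
    Cyc.divFun δ ξ (f * g) = Cyc.divFun δ ξ f + Cyc.divFun δ ξ g := by
  funext x
  by_cases h : ξ ⤳ x ∧ δ x + 1 = δ ξ
  · rw [Pi.add_apply, divFun_eq δ _ h.1 h.2, divFun_eq δ _ h.1 h.2, divFun_eq δ _ h.1 h.2, ordAt_mul hd h.1 h.2 hf hg]
  · simp [Cyc.divFun, h]

theorem divFun_inv [IsLocallyNoetherian X] {δ : X → ℤ} (hd : Cyc.IsDimFun X δ) {ξ : X}
    {f : X.residueField ξ} (hf : f ≠ 0) : Cyc.divFun δ ξ f⁻¹ = - Cyc.divFun δ ξ f := by
  funext x
  by_cases h : ξ ⤳ x ∧ δ x + 1 = δ ξ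
  · rw [Pi.neg_apply, divFun_eq δ _ h.1 h.2, divFun_eq δ _ h.1 h.2, ordAt_inv hd h.1 h.2 hf]
  · simp [Cyc.divFun, h]

/-- Only finitely many points of an affine open carry a principal divisor. -/
theorem finite_divFun_support [IsLocallyNoetherian X] {δ : X → ℤ} (hd : Cyc.IsDimFun X δ) {U : X.Opens}
    (hU : IsAffineOpen U) {ξ : X} {f : X.residueField ξ} (hf : f ≠ 0) :
    ((U : Set X) ∩ Function.support (Cyc.divFun δ ξ f)).Finite := by
  classical
  haveI : IsNoetherianRing Γ(X, U) := IsLocallyNoetherian.component_noetherian ⟨U, hU⟩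
  by_cases hξ : ξ ∈ U
  swap
  · refine Set.Finite.subset Set.finite_empty ?_
    rintro x ⟨hxU, hx⟩
    exact hx (divFun_eq_zero_of_not_specializes δ f fun h => hξ (h.mem_open U.isOpen hxU))
  obtain ⟨a, s, hs, rfl⟩ := exists_eval_div hU hξ f
  have ha : X.evaluation U ξ hξ a ≠ 0 := fun h0 => hf (by rw [h0, zero_div])
  let p := hU.primeIdealOf ⟨ξ, hξ⟩
  let I : Ideal Γ(X, U) := p.asIdeal ⊔ Ideal.span {a * s}
  refine ((I.finite_minimalPrimes_of_isNoetherianRing.preimage (f := PrimeSpectrum.asIdeal)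
    fun _ _ _ _ h => PrimeSpectrum.ext h).image hU.fromSpec).subset ?_
  rintro x ⟨hxU : x ∈ U, hx⟩
  by_cases h : ξ ⤳ x ∧ δ x + 1 = δ ξ
  swap
  · exact absurd (dif_neg h) hx
  have hnotunit : ¬ IsUnit (X.presheaf.germ U x hxU (a * s)) := fun hu => hx (by
    rw [map_mul] at hu
    rw [divFun_eq δ _ h.1 h.2, div_eq_mul_inv, ordAt_mul hd h.1 h.2 ha (inv_ne_zero hs), ordAt_inv hd h.1 h.2 hs,
      ← specMap_germ h.1 U hxU, ← specMap_germ h.1 U hxU, ordAt_eq_zero_of_isUnit hd h.1 h.2 (isUnit_of_mul_isUnit_left hu),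
      ordAt_eq_zero_of_isUnit hd h.1 h.2 (isUnit_of_mul_isUnit_right hu)]
    simp)
  let q := hU.primeIdealOf ⟨x, hxU⟩
  have hq : hU.fromSpec q = x := hU.fromSpec_primeIdealOf ⟨x, hxU⟩
  have hp : hU.fromSpec p = ξ := hU.fromSpec_primeIdealOf ⟨ξ, hξ⟩
  have hpq : p ≤ q := (VarDim.fromSpec_specializes_iff hU p q).1 (by rw [hp, hq]; exact h.1)
  have hasq : a * s ∈ q.asIdeal := by
    by_contra hc
    letI := X.presheaf.algebra_section_stalk ⟨x, hxU⟩
    haveI := hU.isLocalization_stalk ⟨x, hxU⟩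
    exact hnotunit (IsLocalization.map_units (X.presheaf.stalk x) (⟨a * s, hc⟩ : q.asIdeal.primeCompl))
  have hIq : I ≤ q.asIdeal := sup_le hpq ((Ideal.span_singleton_le_iff_mem _).2 hasq)
  refine ⟨q, ⟨⟨q.isPrime, hIq⟩, fun r ⟨hr, hIr⟩ hrq => ?_⟩, hq⟩
  let r' : PrimeSpectrum Γ(X, U) := ⟨r, hr⟩
  have h1 : ξ ⤳ hU.fromSpec r' := by
    rw [← hp]; exact (VarDim.fromSpec_specializes_iff hU p r').2 (show p.asIdeal ≤ r from le_sup_left.trans hIr)
  have h2 : hU.fromSpec r' ⤳ x := by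
    rw [← hq]; exact (VarDim.fromSpec_specializes_iff hU r' q).2 hrq
  have h3 : ξ ≠ hU.fromSpec r' := fun e => by
    have hpr : p = r' := hU.fromSpec.isOpenEmbedding.injective (hp.trans e)
    have has : a * s ∈ p.asIdeal := by
      rw [congrArg PrimeSpectrum.asIdeal hpr]
      exact hIr (Ideal.mem_sup_right (Ideal.mem_span_singleton_self _))
    have hnu : ¬ IsUnit (X.presheaf.germ U ξ hξ (a * s)) := by
      letI := X.presheaf.algebra_section_stalk ⟨ξ, hξ⟩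
      haveI := hU.isLocalization_stalk ⟨ξ, hξ⟩
      exact fun hu => (IsLocalization.AtPrime.isUnit_to_map_iff (X.presheaf.stalk ξ) p.asIdeal (a * s)).1 hu has
    refine mul_ne_zero ha hs ?_
    rw [← map_mul]
    exact Ideal.Quotient.eq_zero_iff_mem.2 ((IsLocalRing.mem_maximalIdeal _).2 hnu)
  have h4 := delta_lt hd h1 h3
  have h5 := eq_of_delta_le hd h2 (by omega)
  have : r' = q := hU.fromSpec.isOpenEmbedding.injective (h5.trans hq.symm)
  exact (congrArg PrimeSpectrum.asIdeal this).ge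

/-- The principal divisor as a cycle. -/
noncomputable def divCycle [IsLocallyNoetherian X] {δ : X → ℤ} (hd : Cyc.IsDimFun X δ) (ξ : X)
    (f : X.residueField ξ) (hf : f ≠ 0) : AlgebraicCycle X ℤ where
  toFun := Cyc.divFun δ ξ f
  supportWithinDomain' := fun _ _ => trivial
  supportLocallyFiniteWithinDomain' := fun z _ => by
    obtain ⟨_, ⟨U, hU, rfl⟩, hz, -⟩ :=
      X.isBasis_affineOpens.exists_subset_of_mem_open (Set.mem_univ z) isOpen_univ
    exact ⟨(U : Set X), U.2.mem_nhds hz, finite_divFun_support hd hU hf⟩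

@[simp] theorem coe_divCycle [IsLocallyNoetherian X] {δ : X → ℤ} (hd : Cyc.IsDimFun X δ) (ξ : X)
    (f : X.residueField ξ) (hf : f ≠ 0) : ⇑(divCycle hd ξ f hf) = Cyc.divFun δ ξ f := rfl

end Groth.Agent.CycLib
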