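import Groth.Agent.CycLib.Supp
import Groth.Agent.QCoh.Extension
import Mathlib.RingTheory.Length

/-! Stalks of short exact sequences of quasi-coherent modules, as linear maps. -/

set_option autoImplicit false

universe u

open CategoryTheory AlgebraicGeometry TopologicalSpace Opposite

namespace Groth.Agent.CycLib

variable {X : Scheme.{u}} {M N : X.Modules}

/-- The map on stalks as an additive map. -/
noncomputable def stalkAdd (φ : M ⟶ N) (x : X) : M.presheaf.stalk x →+ N.presheaf.stalk x :=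
  ((TopCat.Presheaf.stalkFunctor _ x).map ((Scheme.Modules.toPresheaf X).map φ)).hom

theorem stalkAdd_germ (φ : M ⟶ N) {U : X.Opens} (x : X) (hx : x ∈ U) (m : Γ(M, U)) :
    stalkAdd φ x (M.presheaf.germ U x hx m) = N.presheaf.germ U x hx (φ.app U m) :=
  TopCat.Presheaf.stalkFunctor_map_germ_apply U x hx ((Scheme.Modules.toPresheaf X).map φ) m

theorem stalkAdd_smul (φ : M ⟶ N) (x : X) (r : X.presheaf.stalk x) (m : M.presheaf.stalk x) :
    stalkAdd φ x (r • m) = r • stalkAdd φ x m := by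
  obtain ⟨U, hxU, a, rfl⟩ := X.presheaf.exists_germ_eq r
  obtain ⟨V, hxV, n, rfl⟩ := M.presheaf.exists_germ_eq m
  have hW : x ∈ U ⊓ V := ⟨hxU, hxV⟩
  rw [← X.presheaf.germ_res_apply (homOfLE (inf_le_left : U ⊓ V ≤ U)) x hW a,
    ← TopCat.Presheaf.germ_res_apply (F := M.presheaf) (homOfLE (inf_le_right : U ⊓ V ≤ V)) x hW n,
    ← QCoh.germ_smul', stalkAdd_germ, stalkAdd_germ, Scheme.Modules.Hom.app_smul, QCoh.germ_smul']

/-- The map on stalks as a linear map. -/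
noncomputable def stalkLin (φ : M ⟶ N) (x : X) :
    M.presheaf.stalk x →ₗ[X.presheaf.stalk x] N.presheaf.stalk x :=
  { stalkAdd φ x with map_smul' := stalkAdd_smul φ x }

theorem exists_germ_affine (M : X.Modules) {x : X} (t : M.presheaf.stalk x) :
    ∃ (U : X.Opens) (_ : IsAffineOpen U) (hx : x ∈ U) (m : Γ(M, U)), M.presheaf.germ U x hx m = t := by
  obtain ⟨V, hxV, n, rfl⟩ := M.presheaf.exists_germ_eq t
  obtain ⟨_, ⟨U, hU, rfl⟩, hxU, hle⟩ := X.isBasis_affineOpens.exists_subset_of_mem_open hxV V.isOpen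
  exact ⟨U, hU, hxU, _, TopCat.Presheaf.germ_res_apply (F := M.presheaf) (homOfLE hle) x hxU n⟩

theorem stalk_shortExact {T : ShortComplex X.Modules} (hT : T.ShortExact) (h₁ : Coh.IsQCoh T.X₁)
    (h₂ : Coh.IsQCoh T.X₂) (h₃ : Coh.IsQCoh T.X₃) (x : X) :
    Function.Injective (stalkLin T.f x) ∧ Function.Exact (stalkLin T.f x) (stalkLin T.g x) ∧
      Function.Surjective (stalkLin T.g x) := by
  haveI := hT.mono_f
  haveI := hT.epi_g
  refine ⟨(injective_iff_map_eq_zero _).2 fun t ht => ?_, fun t => ⟨fun ht => ?_, ?_⟩, fun t => ?_⟩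
  · obtain ⟨U, hU, hx, n, rfl⟩ := exists_germ_affine T.X₁ t
    obtain ⟨a, ha, h0⟩ := (QCoh.germ_eq_zero_iff h₂ hU hx _).1 ((stalkAdd_germ T.f x hx n).symm.trans ht)
    exact (QCoh.germ_eq_zero_iff h₁ hU hx _).2
      ⟨a, ha, QCoh.app_injective T.f U (((Scheme.Modules.Hom.app_smul T.f a n).trans h0).trans (map_zero _).symm)⟩
  · obtain ⟨U, hU, hx, n, rfl⟩ := exists_germ_affine T.X₂ t
    obtain ⟨a, ha, h0⟩ := (QCoh.germ_eq_zero_iff h₃ hU hx _).1 ((stalkAdd_germ T.g x hx n).symm.trans ht)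
    obtain ⟨n', hn'⟩ := QCoh.exists_app_f_eq hT U (a • n) ((Scheme.Modules.Hom.app_smul T.g a n).trans h0)
    obtain ⟨c, hc⟩ := ((X.mem_basicOpen _ x hx).1 ha).exists_left_inv
    refine ⟨c • T.X₁.presheaf.germ U x hx n', ?_⟩
    rw [map_smul, show stalkLin T.f x (T.X₁.presheaf.germ U x hx n') = _ from stalkAdd_germ T.f x hx n', hn',
      QCoh.germ_smul', ← mul_smul, hc, one_smul]
  · rintro ⟨s, rfl⟩
    obtain ⟨U, hU, hx, n, rfl⟩ := exists_germ_affine T.X₁ s
    show stalkAdd T.g x (stalkAdd T.f x _) = 0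
    rw [stalkAdd_germ, stalkAdd_germ,
      show T.g.app U (T.f.app U n) = 0 from congr(($(T.zero)).app U n), map_zero]
  · obtain ⟨U, hU, hx, n, rfl⟩ := exists_germ_affine T.X₃ t
    obtain ⟨n', rfl⟩ := QCoh.app_surjective_of_epi h₂ h₃ T.g hU n
    exact ⟨T.X₂.presheaf.germ U x hx n', stalkAdd_germ T.g x hx n'⟩

theorem length_stalk_shortExact {T : ShortComplex X.Modules} (hT : T.ShortExact) (h₁ : Coh.IsQCoh T.X₁)
    (h₂ : Coh.IsQCoh T.X₂) (h₃ : Coh.IsQCoh T.X₃) (x : X) :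
    Module.length (X.presheaf.stalk x) (T.X₂.presheaf.stalk x) =
      Module.length (X.presheaf.stalk x) (T.X₁.presheaf.stalk x) +
        Module.length (X.presheaf.stalk x) (T.X₃.presheaf.stalk x) := by
  obtain ⟨hi, he, hs⟩ := stalk_shortExact hT h₁ h₂ h₃ x
  exact Module.length_eq_add_of_exact _ _ hi hs he

theorem sheafFun_shortExact [IsLocallyNoetherian X] {δ : X → ℤ} (hd : Cyc.IsDimFun X δ) {k : ℤ}
    {T : ShortComplex X.Modules} (hT : T.ShortExact) (h₁ : Coh.IsCoh T.X₁) (h₂ : Coh.IsCoh T.X₂)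
    (h₃ : Coh.IsCoh T.X₃) (hdim : ∀ x : X, Nontrivial (T.X₂.presheaf.stalk x) → δ x ≤ k) :
    Cyc.sheafFun δ k T.X₂ = Cyc.sheafFun δ k T.X₁ + Cyc.sheafFun δ k T.X₃ := by
  funext x
  simp only [Cyc.sheafFun, Pi.add_apply]
  split_ifs with hx
  · have e := length_stalk_shortExact hT h₁.1 h₂.1 h₃.1 x
    have hfin := length_stalk_lt_top T.X₂ h₂ (ξ := x) fun y hy hyx =>
      eq_of_delta_le hd hyx ((hdim y hy).trans hx.ge)
    rw [e] at hfin
    have hlt := WithTop.add_ne_top.1 hfin.ne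
    rw [e, ENat.toNat_add hlt.1 hlt.2, Nat.cast_add]
  · simp

end Groth.Agent.CycLib
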