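import Groth.Prelude.Def_Cyc
import Mathlib.AlgebraicGeometry.AlgebraicCycle.Basic
import Mathlib.AlgebraicGeometry.Morphisms.QuasiCompact
import Mathlib.LinearAlgebra.Dimension.Free

/-! Functoriality of the push-forward of cycles. -/

set_option autoImplicit false

universe u

open AlgebraicGeometry CategoryTheory

namespace Groth.Agent.CycLib

variable {X Y Z : Scheme.{u}}

theorem residueDegree_comp (f : X ⟶ Y) (g : Y ⟶ Z) (x : X) :
    (f ≫ g).residueDegree x = g.residueDegree (f x) * f.residueDegree x := by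
  letI a1 : Algebra (Z.residueField (g (f x))) (Y.residueField (f x)) := (g.residueFieldMap (f x)).hom.toAlgebra
  letI a2 : Algebra (Y.residueField (f x)) (X.residueField x) := (f.residueFieldMap x).hom.toAlgebra
  letI a3 : Algebra (Z.residueField (g (f x))) (X.residueField x) :=
    ((g.residueFieldMap (f x)) ≫ f.residueFieldMap x).hom.toAlgebra
  haveI : IsScalarTower (Z.residueField (g (f x))) (Y.residueField (f x)) (X.residueField x) :=
    IsScalarTower.of_algebraMap_eq fun _ => rfl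
  rw [Scheme.Hom.residueDegree, Scheme.residueFieldMap_comp]
  exact (Module.finrank_mul_finrank (Z.residueField (g (f x))) (Y.residueField (f x)) (X.residueField x)).symm

theorem le_of_deltaCompat (f : X ⟶ Y) {δX : X → ℤ} {δY : Y → ℤ} (hf : Cyc.DeltaCompat f δX δY) (x : X) :
    δY (f x) ≤ δX x := by
  obtain ⟨n, -, h⟩ := hf x
  omega

theorem finite_support_inter_fibre (f : X ⟶ Y) [QuasiCompact f] (c : AlgebraicCycle X ℤ) (y : Y) :
    (Function.support ⇑c ∩ f ⁻¹' {y}).Finite := by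
  obtain ⟨U, hU, hy, -⟩ := exists_isAffineOpen_mem_and_subset (x := y) (U := ⊤) trivial
  have hc : IsCompact (f ⁻¹' (U : Set Y)) := (quasiCompact_iff f).1 inferInstance U U.isOpen hU.isCompact
  refine (c.locallyFiniteSupport.finite_inter_support_of_isCompact hc).subset ?_
  rintro x ⟨hx, (rfl : f x = y)⟩
  exact ⟨hy, hx⟩

theorem map_apply' (f : X ⟶ Y) [QuasiCompact f] (δX : X → ℤ) (δY : Y → ℤ) (c : AlgebraicCycle X ℤ) (y : Y) :
    AlgebraicCycle.map f δX δY c y =
      ∑ᶠ x ∈ f ⁻¹' {y}, c x * (AlgebraicCycle.mapCoeff f δX δY x : ℤ) := rfl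

theorem mapCoeff_comp (f : X ⟶ Y) (g : Y ⟶ Z) {δX : X → ℤ} {δY : Y → ℤ} {δZ : Z → ℤ}
    (hf : Cyc.DeltaCompat f δX δY) (hg : Cyc.DeltaCompat g δY δZ) (x : X) :
    AlgebraicCycle.mapCoeff (f ≫ g) δX δZ x =
      AlgebraicCycle.mapCoeff g δY δZ (f x) * AlgebraicCycle.mapCoeff f δX δY x := by
  have h1 := le_of_deltaCompat f hf x
  have h2 := le_of_deltaCompat g hg (f x)
  simp only [AlgebraicCycle.mapCoeff]
  have he : (f ≫ g).base x = g.base (f.base x) := rfl
  rw [residueDegree_comp, he]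
  split_ifs with h3 h4 h5 <;> first | rfl | omega | simp

theorem map_map (f : X ⟶ Y) (g : Y ⟶ Z) [QuasiCompact f] [QuasiCompact g] {δX : X → ℤ} {δY : Y → ℤ}
    {δZ : Z → ℤ} (hf : Cyc.DeltaCompat f δX δY) (hg : Cyc.DeltaCompat g δY δZ) (c : AlgebraicCycle X ℤ) :
    AlgebraicCycle.map g δY δZ (AlgebraicCycle.map f δX δY c) = AlgebraicCycle.map (f ≫ g) δX δZ c := by
  classical
  ext z
  rw [map_apply', map_apply']
  let S : Finset X := (finite_support_inter_fibre (f ≫ g) c z).toFinset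
  have hS : ∀ x, x ∈ S ↔ c x ≠ 0 ∧ g (f x) = z := fun x => by
    simp only [S, Set.Finite.mem_toFinset, Set.mem_inter_iff, Function.mem_support, Set.mem_preimage,
      Set.mem_singleton_iff]
    rfl
  rw [finsum_mem_eq_sum_of_inter_support_eq (t := S) _ (by
    ext x
    simp only [Set.mem_inter_iff, Set.mem_preimage, Set.mem_singleton_iff, Function.mem_support, Finset.mem_coe, hS,
      Scheme.Hom.comp_apply]
    refine ⟨fun h => ⟨⟨left_ne_zero_of_mul h.2, h.1⟩, h.2⟩, fun h => ⟨h.1.2, h.2⟩⟩)]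
  have hinner : ∀ y, g y = z → ∑ᶠ x ∈ f ⁻¹' {y}, c x * (AlgebraicCycle.mapCoeff f δX δY x : ℤ) =
      ∑ x ∈ S.filter (fun x => f x = y), c x * (AlgebraicCycle.mapCoeff f δX δY x : ℤ) := fun y hy => by
    refine finsum_mem_eq_sum_of_inter_support_eq _ ?_
    ext x
    simp only [Set.mem_inter_iff, Set.mem_preimage, Set.mem_singleton_iff, Function.mem_support, Finset.mem_coe,
      Finset.mem_filter, hS]
    exact ⟨fun h => ⟨⟨⟨left_ne_zero_of_mul h.2, h.1 ▸ hy⟩, h.1⟩, h.2⟩, fun h => ⟨h.1.2, h.2⟩⟩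
  have houter : ∀ y, g y = z → (AlgebraicCycle.map f δX δY c) y * (AlgebraicCycle.mapCoeff g δY δZ y : ℤ) =
      ∑ x ∈ S.filter (fun x => f x = y), c x * (AlgebraicCycle.mapCoeff (f ≫ g) δX δZ x : ℤ) := fun y hy => by
    rw [map_apply', hinner y hy, Finset.sum_mul]
    refine Finset.sum_congr rfl fun x hx => ?_
    rw [mapCoeff_comp f g hf hg, ← (Finset.mem_filter.1 hx).2]
    push_cast
    ring
  rw [finsum_mem_eq_sum_of_inter_support_eq (t := S.image fun x => f x) _ (by
    ext y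
    simp only [Set.mem_inter_iff, Set.mem_preimage, Set.mem_singleton_iff, Function.mem_support, Finset.mem_coe,
      Finset.mem_image, hS]
    constructor
    · rintro ⟨hy, hne⟩
      refine ⟨?_, hne⟩
      rw [houter y hy] at hne
      obtain ⟨x, hx, -⟩ := Finset.exists_ne_zero_of_sum_ne_zero hne
      obtain ⟨hx1, hx2⟩ := Finset.mem_filter.1 hx
      exact ⟨x, (hS x).1 hx1, hx2⟩
    · rintro ⟨⟨x, ⟨-, hx⟩, rfl⟩, hne⟩
      exact ⟨hx, hne⟩)]
  rw [← Finset.sum_fiberwise_of_maps_to (g := fun x => f x) (s := S) (t := S.image fun x => f x)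
    (fun x hx => Finset.mem_image_of_mem _ hx)]
  refine Finset.sum_congr rfl fun y hy => houter y ?_
  obtain ⟨x, hx, rfl⟩ := Finset.mem_image.1 hy
  exact ((hS x).1 hx).2

end Groth.Agent.CycLib
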