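import Groth.Agent.CycLib.Basic
import Groth.Agent.QCoh.Support
import Groth.Agent.QCoh.Stalk
import Groth.Agent.QCoh.DevissageP
import Groth.Agent.FibDim.Top
import Mathlib.RingTheory.Artinian.Module

/-! Supports of coherent modules: components, lengths at generic points, finite direct images. -/

set_option autoImplicit false

universe u

open AlgebraicGeometry CategoryTheory Topology TopologicalSpace

namespace Groth.Agent.CycLib

variable {X : Scheme.{u}}

theorem setOf_nontrivial (F : X.Modules) : {x : X | Nontrivial (F.presheaf.stalk x)} = CohB1.support F :=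
  Set.ext fun _ => (not_subsingleton_iff_nontrivial).symm

theorem isClosed_nontrivial (F : X.Modules) (hF : Coh.IsCoh F) :
    IsClosed {x : X | Nontrivial (F.presheaf.stalk x)} := by
  rw [setOf_nontrivial]; exact QCoh.isClosed_support_of_isFT hF.1 hF.2

/-- The irreducible components of a closed subset of a locally Noetherian scheme are locally finite. -/
theorem locallyFinite_components [IsLocallyNoetherian X] {T : Set X} (hT : IsClosed T) :
    LocallyFinite (fun Z : irreducibleComponents ↥T => ((↑) '' (Z : Set ↥T) : Set X)) := by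
  intro x
  obtain ⟨U, hU, hx, -⟩ := exists_isAffineOpen_mem_and_subset (x := x) (U := ⊤) trivial
  haveI : IsNoetherianRing Γ(X, U) := IsLocallyNoetherian.component_noetherian ⟨U, hU⟩
  haveI : QuasiSober ↥T := hT.isClosedEmbedding_subtypeVal.quasiSober
  obtain ⟨I, hI⟩ := (PrimeSpectrum.isClosed_iff_zeroLocus_ideal (hU.fromSpec ⁻¹' T)).mp
    (hT.preimage hU.fromSpec.continuous)
  have hfin : (hU.fromSpec '' {p : PrimeSpectrum Γ(X, U) | p.asIdeal ∈ I.minimalPrimes}).Finite :=
    (I.finite_minimalPrimes_of_isNoetherianRing.preimage (f := PrimeSpectrum.asIdeal)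
      fun a _ b _ h => PrimeSpectrum.ext h).image _
  have hfin' : ((fun z : ↥T => closure ({z} : Set ↥T)) ''
      (Subtype.val ⁻¹' (hU.fromSpec '' {p : PrimeSpectrum Γ(X, U) | p.asIdeal ∈ I.minimalPrimes}))).Finite :=
    (hfin.preimage Subtype.val_injective.injOn).image _
  refine ⟨U, U.isOpen.mem_nhds hx, (hfin'.preimage Subtype.val_injective.injOn).subset ?_⟩
  rintro ⟨Z, hZ⟩ ⟨z, ⟨w, hw, rfl⟩, hzU⟩
  obtain ⟨η, hη⟩ := QuasiSober.sober hZ.1 (isClosed_of_mem_irreducibleComponents Z hZ)
  have hηw : η ⤳ w := hη.specializes hw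
  have hηU : (η : X) ∈ U := (hηw.map continuous_subtype_val).mem_open U.isOpen hzU
  obtain ⟨(p : PrimeSpectrum Γ(X, U)), hp⟩ : (η : X) ∈ Set.range hU.fromSpec := by rw [hU.range_fromSpec]; exact hηU
  refine ⟨η, ⟨p, ⟨⟨p.isPrime, ?_⟩, fun q hq hle => ?_⟩, hp⟩, hη.def⟩
  · exact hI.le (show hU.fromSpec p ∈ T from hp ▸ η.2)
  · have hqT : hU.fromSpec ⟨q, hq.1⟩ ∈ T := hI.ge (show I ≤ q from hq.2)
    have hsp : (⟨_, hqT⟩ : ↥T) ⤳ η := (subtype_specializes_iff _ _).2
      (hp ▸ (VarDim.fromSpec_specializes_iff hU (⟨q, hq.1⟩ : PrimeSpectrum Γ(X, U)) p).2 hle)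
    have hmem : Z ⊆ closure {(⟨_, hqT⟩ : ↥T)} := by
      rw [← hη.def]; exact closure_minimal (Set.singleton_subset_iff.2 (specializes_iff_mem_closure.1 hsp)) isClosed_closure
    have heq := hZ.2 (isIrreducible_singleton.closure) hmem
    have hsp' : η ⤳ (⟨_, hqT⟩ : ↥T) := hη.specializes (heq (subset_closure rfl))
    have : p ≤ ⟨q, hq.1⟩ := (VarDim.fromSpec_specializes_iff hU p ⟨q, hq.1⟩).1 (hp ▸ hsp'.map continuous_subtype_val)
    exact this

theorem length_stalk_lt_top [IsLocallyNoetherian X] (F : X.Modules) (hF : Coh.IsCoh F) {ξ : X}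
    (h : ∀ x : X, Nontrivial (F.presheaf.stalk x) → x ⤳ ξ → x = ξ) :
    Module.length (X.presheaf.stalk ξ) (F.presheaf.stalk ξ) < ⊤ := by
  haveI := QCoh.finite_stalk_of_isFT hF.1 hF.2 ξ
  let R := X.presheaf.stalk ξ
  let M := F.presheaf.stalk ξ
  obtain ⟨_, ⟨U, hU, rfl⟩, hξ, -⟩ :=
    X.isBasis_affineOpens.exists_subset_of_mem_open (Set.mem_univ ξ) isOpen_univ
  have hU' : IsAffineOpen U := hU
  let q := hU'.primeIdealOf ⟨ξ, hξ⟩
  have hbot : ∀ P : PrimeSpectrum R, P ∈ Module.support R M → P = IsLocalRing.closedPoint R := by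
    intro P hP
    letI := QCoh.stalkAlg (X := X) hξ
    letI := QCoh.stalkModule F hξ
    haveI := QCoh.isScalarTower_stalk F hξ
    haveI := QCoh.isLocalization_stalk' hU' hξ
    haveI := QCoh.isLocalizedModule_germLin hF.1 hU' hξ
    let p : PrimeSpectrum Γ(X, U) := PrimeSpectrum.comap (algebraMap Γ(X, U) R) P
    obtain ⟨y, hy, hyp⟩ := QCoh.exists_point hU' p
    have hpq : p ≤ q := fun a ha => by_contra fun hc => P.isPrime.ne_top (Ideal.eq_top_of_isUnit_mem _ ha
      (IsLocalization.map_units R (⟨a, hc⟩ : q.asIdeal.primeCompl)))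
    have hyξ : y ⤳ ξ := by
      have h' := (VarDim.fromSpec_specializes_iff hU' p q).2 hpq
      rw [← hyp, hU'.fromSpec_primeIdealOf, hU'.fromSpec_primeIdealOf] at h'
      exact h'
    have hsupp : Nontrivial (F.presheaf.stalk y) := by
      obtain ⟨m, hm⟩ := Module.mem_support_iff_exists_annihilator.1 hP
      obtain ⟨⟨n, t⟩, hnt⟩ := IsLocalizedModule.surj q.asIdeal.primeCompl (QCoh.germLin F hξ) m
      rw [← not_subsingleton_iff_nontrivial]
      refine (QCoh.mem_support_iff hF.1 hU' hy).2 ⟨n, fun f hf h0 => ?_⟩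
      have hfp : f ∉ p.asIdeal := hyp ▸ (QCoh.mem_basicOpen_iff_notMem hU' hy f).1 hf
      refine hfp (hm ?_)
      rw [Submodule.mem_annihilator_span_singleton]
      have h1 : QCoh.germLin F hξ (f • n) = 0 := by rw [h0, map_zero]
      rw [map_smul, ← hnt, Submonoid.smul_def, smul_comm] at h1
      rw [algebraMap_smul]
      exact (IsLocalizedModule.map_units (QCoh.germLin F hξ) t |> fun hu => ((Module.End.isUnit_iff _).1 hu).1)
        (show (t : Γ(X, U)) • (f • m) = (t : Γ(X, U)) • (0 : M) by rw [smul_zero]; exact h1)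
    have hp : p = q := hyp.symm.trans (by
      obtain rfl := h y hsupp hyξ
      rfl)
    refine PrimeSpectrum.ext ?_
    have := congrArg PrimeSpectrum.asIdeal hp
    rw [show P.asIdeal = (P.asIdeal.comap (algebraMap Γ(X, U) R)).map (algebraMap Γ(X, U) R) from
      (IsLocalization.map_comap q.asIdeal.primeCompl R P.asIdeal).symm,
      show P.asIdeal.comap (algebraMap Γ(X, U) R) = q.asIdeal from this,
      IsLocalization.AtPrime.map_eq_maximalIdeal q.asIdeal R]
    rfl
  haveI : IsNoetherianRing R := inferInstance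
  have hle : Ring.KrullDimLE 0 (R ⧸ Module.annihilator R M) := by
    rw [Ring.krullDimLE_iff, Nat.cast_zero, ← Module.supportDim_eq_ringKrullDim_quotient_annihilator]
    refine iSup_le fun l => ?_
    rcases Nat.eq_zero_or_pos l.length with h0 | h0
    · simp [h0]
    · exact absurd ((hbot _ (l ⟨1, by omega⟩).2).trans (hbot _ (l 0).2).symm)
        (fun e => (l.strictMono (show (0 : Fin (l.length + 1)) < ⟨1, by omega⟩ by rw [Fin.lt_def]; simp)).ne
          (Subtype.ext e.symm))
  haveI : IsArtinianRing (R ⧸ Module.annihilator R M) :=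
    isArtinianRing_iff_isNoetherianRing_krullDimLE_zero.2 ⟨inferInstance, hle⟩
  letI := (Module.isTorsionBySet_annihilator R M).module
  haveI : IsScalarTower R (R ⧸ Module.annihilator R M) M := (Module.isTorsionBySet_annihilator R M).isScalarTower
  haveI : Module.Finite (R ⧸ Module.annihilator R M) M := Module.Finite.of_restrictScalars_finite R _ _
  have e : Module.length R M = Module.length (R ⧸ Module.annihilator R M) M :=
    Module.length_eq_of_surjective (S := R) (R := R ⧸ Module.annihilator R M) Ideal.Quotient.mk_surjective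
  rw [e]
  exact lt_top_iff_ne_top.2 Module.length_ne_top

theorem cohLe_push_finite {Y : Scheme.{u}} (π : X ⟶ Y) [IsFinite π] {F : X.Modules} (hF : Coh.IsCoh F)
    {y : Y} (hy : Nontrivial (((Coh.push π).obj F).presheaf.stalk y)) :
    ∃ x, π x = y ∧ Nontrivial (F.presheaf.stalk x) := by
  by_contra hc
  push Not at hc
  have hclosed : IsClosed (π '' {x : X | Nontrivial (F.presheaf.stalk x)}) :=
    π.isClosedMap _ (isClosed_nontrivial F hF)
  obtain ⟨_, ⟨U, hU, rfl⟩, hyU, hsub⟩ := Y.isBasis_affineOpens.exists_subset_of_mem_open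
    (show y ∈ (π '' {x : X | Nontrivial (F.presheaf.stalk x)})ᶜ from fun ⟨x, hx, he⟩ =>
      not_nontrivial_iff_subsingleton.2 (hc x he) hx) hclosed.isOpen_compl
  obtain ⟨m, hm⟩ := (QCoh.mem_support_iff (QCoh.isQCoh_pushforward π hF.1) hU hyU).1
    (not_subsingleton_iff_nontrivial.2 hy : ¬ Subsingleton _)
  refine hm 1 (by rw [Scheme.basicOpen_of_isUnit _ isUnit_one]; exact hyU) ?_
  rw [one_smul]
  refine TopCat.Presheaf.section_ext (show TopCat.Sheaf AddCommGrpCat.{u} X.toPresheafedSpace.carrier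
    from ⟨F.presheaf, F.isSheaf⟩) (π ⁻¹ᵁ U) (show Γ(F, π ⁻¹ᵁ U) from m) 0 fun x hx => ?_
  haveI : Subsingleton (F.presheaf.stalk x) := not_nontrivial_iff_subsingleton.1 fun hn =>
    hsub (show π x ∈ U from hx) ⟨x, hn, rfl⟩
  exact Subsingleton.elim (α := F.presheaf.stalk x) _ _

end Groth.Agent.CycLib
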