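import Groth.Agent.CycLib.Div
import Mathlib.AlgebraicGeometry.Morphisms.Preimmersion

/-! Principal divisors along preimmersions. -/

set_option autoImplicit false

universe u

open AlgebraicGeometry CategoryTheory TopologicalSpace

namespace Groth.Agent.CycLib

theorem ord_ringEquiv {R R' : Type u} [CommRing R] [CommRing R'] (e : R ≃+* R') (x : R) :
    Ring.ord R' (e x) = Ring.ord R x := by
  letI := e.toRingHom.toAlgebra
  have h : Function.Surjective (algebraMap R R') := e.surjective
  rw [Ring.ord, Ring.ord, ← Module.length_eq_of_surjective (S := R) (R := R') h]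
  have hI : Ideal.span {e x} = (Ideal.span {x}).map e.toRingHom := by
    rw [Ideal.map_span, Set.image_singleton]; rfl
  let f : R ⧸ Ideal.span {x} ≃+* R' ⧸ Ideal.span {e x} := Ideal.quotientEquiv _ _ e hI
  refine (LinearEquiv.length_eq (R := R) (M := R' ⧸ Ideal.span {e x}) (N := R ⧸ Ideal.span {x}) ?_)
  refine (LinearEquiv.symm { f.toAddEquiv with map_smul' := ?_ })
  intro r y
  obtain ⟨y, rfl⟩ := Ideal.Quotient.mk_surjective y
  show Ideal.Quotient.mk (Ideal.span {e x}) (e (r * y)) = Ideal.Quotient.mk (Ideal.span {e x}) (e r * e y)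
  rw [map_mul]

theorem ordFrac_congr {R R' K K' : Type u} [CommRing R] [CommRing R'] [Field K] [Field K'] [Algebra R K]
    [Algebra R' K'] [IsDomain R] [IsDomain R'] [IsNoetherianRing R] [IsNoetherianRing R'] [IsFractionRing R K]
    [IsFractionRing R' K'] (e : R ≃+* R') (φ : K →+* K')
    (hφ : ∀ a, φ (algebraMap R K a) = algebraMap R' K' (e a)) (f : K) :
    CycAlg.ordFrac R' K' (φ f) = CycAlg.ordFrac R K f := by
  by_cases hdim : Ring.KrullDimLE 1 R
  · haveI : Ring.KrullDimLE 1 R' := by
      rw [Ring.KrullDimLE, Order.krullDimLE_iff] at hdim ⊢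
      exact le_trans (ringKrullDim_eq_of_ringEquiv e).ge hdim
    rcases eq_or_ne f 0 with rfl | hf
    · simp [CycAlg.ordFrac]
    obtain ⟨a, b, hb, rfl⟩ := IsFractionRing.div_surjective (A := R) f
    have hb0 : b ≠ 0 := nonZeroDivisors.ne_zero hb
    have ha0 : a ≠ 0 := fun h => hf (by rw [h, map_zero, zero_div])
    have key : ∀ c : R, c ≠ 0 → CycAlg.ordFrac R' K' (φ (algebraMap R K c)) = CycAlg.ordFrac R K (algebraMap R K c) :=
      fun c hc => by
        rw [hφ, IntThLib.ordFrac_algebraMap hc, IntThLib.ordFrac_algebraMap (by simpa using hc), ord_ringEquiv]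
    have h1 := key a ha0
    have h2 := key b hb0
    have hB : algebraMap R K b ≠ 0 := by simpa using hb0
    have h3 := IntThLib.ordFrac_mul (A := R) (K := K) (f := algebraMap R K a / algebraMap R K b) hf hB
    have h4 := IntThLib.ordFrac_mul (A := R') (K := K') (f := φ (algebraMap R K a / algebraMap R K b))
      ((map_ne_zero φ).2 hf) ((map_ne_zero φ).2 hB)
    rw [← map_mul, div_mul_cancel₀ _ hB] at h4
    rw [div_mul_cancel₀ _ hB] at h3
    omega
  · have hdim' : ¬ Ring.KrullDimLE 1 R' := fun h => hdim (by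
      rw [Ring.KrullDimLE, Order.krullDimLE_iff] at h ⊢
      exact le_trans (ringKrullDim_eq_of_ringEquiv e).le h)
    simp [CycAlg.ordFrac, hdim, hdim']

variable {W X : Scheme.{u}} (j : W ⟶ X)

theorem residueFieldMap_bijective [IsPreimmersion j] (ξ : W) : Function.Bijective (j.residueFieldMap ξ) := by
  refine ⟨RingHom.injective (j.residueFieldMap ξ).hom, fun z => ?_⟩
  obtain ⟨g, rfl⟩ := W.residue_surjective ξ z
  obtain ⟨g, rfl⟩ := j.stalkMap_surjective ξ g
  exact ⟨X.residue (j ξ) g, congrArg (fun m : X.presheaf.stalk (j ξ) ⟶ W.residueField ξ => m.hom g)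
    (Scheme.residue_residueFieldMap j ξ)⟩

theorem residueDegree_preimmersion [IsPreimmersion j] (ξ : W) : j.residueDegree ξ = 1 := by
  letI := (j.residueFieldMap ξ).hom.toAlgebra
  exact (LinearEquiv.finrank_eq (LinearEquiv.ofBijective (Algebra.linearMap (X.residueField (j ξ)) (W.residueField ξ))
    (residueFieldMap_bijective j ξ))).symm.trans (Module.finrank_self _)

theorem specMap_naturality {z ξ : W} (h : ξ ⤳ z) (a : X.presheaf.stalk (j z)) :
    Cyc.specMap z ξ h (j.stalkMap z a) =
      j.residueFieldMap ξ (Cyc.specMap (j z) (j ξ) (h.map j.continuous) a) := by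
  have e1 := congrArg (fun m : X.presheaf.stalk (j z) ⟶ W.presheaf.stalk ξ => m.hom a)
    (j.stalkSpecializes_stalkMap ξ z h)
  have e2 := congrArg (fun m : X.presheaf.stalk (j ξ) ⟶ W.residueField ξ =>
    m.hom (X.presheaf.stalkSpecializes (h.map j.continuous) a)) (Scheme.residue_residueFieldMap j ξ)
  exact (congrArg (W.residue ξ).hom e1).symm.trans e2.symm

theorem ordAt_preimmersion [IsPreimmersion j] [IsLocallyNoetherian W] [IsLocallyNoetherian X] {z ξ : W}
    (h : ξ ⤳ z) (f : X.residueField (j ξ)) :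
    Cyc.ordAt z ξ h (j.residueFieldMap ξ f) = Cyc.ordAt (j z) (j ξ) (h.map j.continuous) f := by
  let g : Cyc.LocQuot (j z) (j ξ) (h.map j.continuous) →+* Cyc.LocQuot z ξ h :=
    Ideal.quotientMap _ (j.stalkMap z).hom fun a ha => by
      rw [Ideal.mem_comap, RingHom.mem_ker, specMap_naturality, RingHom.mem_ker.1 ha, map_zero]
  have hg : ∀ a, j.residueFieldMap ξ (algebraMap _ (X.residueField (j ξ)) a) =
      algebraMap _ (W.residueField ξ) (g a) := fun a => by
    obtain ⟨a, rfl⟩ := Ideal.Quotient.mk_surjective a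
    exact (specMap_naturality j h a).symm
  have hb : Function.Bijective g := ⟨fun a b hab => by
      apply FaithfulSMul.algebraMap_injective _ (X.residueField (j ξ))
      apply (residueFieldMap_bijective j ξ).1
      rw [hg, hg, hab],
    Ideal.quotientMap_surjective (j.stalkMap_surjective z)⟩
  exact ordFrac_congr (RingEquiv.ofBijective g hb) (j.residueFieldMap ξ).hom hg f

theorem divFun_preimmersion [IsPreimmersion j] [IsLocallyNoetherian W] [IsLocallyNoetherian X]
    {δX : X → ℤ} {δW : W → ℤ} (c : ℤ) (hδ : ∀ z, δW z = δX (j z) + c) (ξ : W) (f : X.residueField (j ξ)) (z : W) :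
    Cyc.divFun δW ξ (j.residueFieldMap ξ f) z = Cyc.divFun δX (j ξ) f (j z) := by
  by_cases h : ξ ⤳ z ∧ δW z + 1 = δW ξ
  · rw [divFun_eq _ _ h.1 h.2, divFun_eq δX f (h.1.map j.continuous) (by have := h.2; simp only [hδ] at this; omega),
      ordAt_preimmersion]
  · rw [Cyc.divFun, dif_neg h, Cyc.divFun, dif_neg]
    rintro ⟨h1, h2⟩
    exact h ⟨j.isEmbedding.isInducing.specializes_iff.1 h1, by simp only [hδ]; omega⟩

theorem divFun_preimmersion_of_not_range (hj : IsClosed (Set.range j)) {δX : X → ℤ} (ξ : W) (f : X.residueField (j ξ))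
    {x : X} (hx : x ∉ Set.range j) : Cyc.divFun δX (j ξ) f x = 0 :=
  divFun_eq_zero_of_not_specializes δX f fun h => hx (h.mem_closed hj ⟨ξ, rfl⟩)

theorem divFun_congr {δ : X → ℤ} {ξ ξ' : X} (e : ξ = ξ') (f : X.residueField ξ) :
    Cyc.divFun δ ξ' ((X.residueFieldCongr e).hom f) = Cyc.divFun δ ξ f := by
  subst e
  simp

end Groth.Agent.CycLib
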