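import Mathlib.RingTheory.LocalRing.Length
import Mathlib.RingTheory.OrderOfVanishing.Basic
import Mathlib.RingTheory.HopkinsLevitzki
import Mathlib.RingTheory.KrullDimension.Zero
import Mathlib.RingTheory.Localization.AtPrime.Basic

/-! Length of `B/rB` over a local ring below a semilocal ring `B`. -/

set_option autoImplicit false

universe u

open IsLocalRing

namespace Groth.Agent.CycLib

section OneFactor

variable {B : Type u} [CommRing B] (m : Ideal B) [m.IsMaximal] (Bi : Type u) [CommRing Bi] [IsLocalRing Bi]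
  [Algebra B Bi] [IsLocalization.AtPrime Bi m] (r : B)

theorem exists_pow_eq_zero (hord : Ring.ord Bi (algebraMap B Bi r) ≠ ⊤) {z : Bi} (hz : ¬ IsUnit z) :
    ∃ n : ℕ, z ^ n ∈ Ideal.span {algebraMap B Bi r} := by
  by_cases htop : Ideal.span {algebraMap B Bi r} = ⊤
  · exact ⟨0, htop ▸ Submodule.mem_top⟩
  let Q := Bi ⧸ Ideal.span {algebraMap B Bi r}
  haveI : Nontrivial Q := Ideal.Quotient.nontrivial_iff.2 htop
  haveI : IsArtinianRing Q :=
    haveI : IsArtinian Bi Q := (isFiniteLength_iff_isNoetherian_isArtinian.1 (Module.length_ne_top_iff.1 hord)).2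
    isArtinian_of_tower Bi (inferInstance : IsArtinian Bi Q)
  haveI : IsLocalRing Q := IsLocalRing.of_surjective' (Ideal.Quotient.mk _) Ideal.Quotient.mk_surjective
  obtain ⟨n, hn⟩ := Ring.KrullDimLE.isNilpotent_iff_mem_nonunits.2
    (show Ideal.Quotient.mk _ z ∈ nonunits Q from fun hu => by
      obtain ⟨w, hw⟩ := Ideal.Quotient.mk_surjective (↑hu.unit⁻¹ : Q)
      have h1 : Ideal.Quotient.mk (Ideal.span {algebraMap B Bi r}) (z * w) = 1 := by
        rw [map_mul, hw, IsUnit.mul_val_inv]
      rw [← map_one (Ideal.Quotient.mk _), Ideal.Quotient.eq] at h1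
      rcases IsLocalRing.isUnit_or_isUnit_one_sub_self (z * w) with h | h
      · exact hz (isUnit_of_mul_isUnit_left h)
      · refine (IsLocalRing.le_maximalIdeal htop h1) ?_
        rw [← neg_sub]
        exact h.neg)
  exact ⟨n, Ideal.Quotient.eq_zero_iff_mem.1 ((map_pow _ z n).trans hn)⟩

include m in
theorem exists_inverse (hord : Ring.ord Bi (algebraMap B Bi r) ≠ ⊤) {c : B} (hc : c ∉ m) :
    ∃ d : B, algebraMap B Bi (c * d) - 1 ∈ Ideal.span {algebraMap B Bi r} := by
  obtain ⟨d, w, hw, he⟩ := Ideal.IsMaximal.exists_inv (I := m) ‹_› hc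
  have hu : ¬ IsUnit (algebraMap B Bi w) := fun h =>
    (IsLocalization.AtPrime.isUnit_to_map_iff Bi m w).1 h hw
  obtain ⟨n, hn⟩ := exists_pow_eq_zero Bi r hord hu
  refine ⟨d * ∑ i ∈ Finset.range n, w ^ i, ?_⟩
  have h1 : c * (d * ∑ i ∈ Finset.range n, w ^ i) = 1 - w ^ n := by
    rw [← mul_assoc, show c * d = 1 - w by linear_combination he, mul_neg_geom_sum]
  rw [h1, map_sub, map_one, map_pow, sub_sub_cancel_left]
  exact neg_mem hn

include m in
theorem exists_lift_semilocal (hord : Ring.ord Bi (algebraMap B Bi r) ≠ ⊤) (z : Bi) :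
    ∃ b : B, algebraMap B Bi b - z ∈ Ideal.span {algebraMap B Bi r} := by
  obtain ⟨⟨a, s⟩, has⟩ := IsLocalization.surj m.primeCompl z
  obtain ⟨d, hd⟩ := exists_inverse m Bi r hord s.2
  refine ⟨a * d, ?_⟩
  have : algebraMap B Bi (a * d) - z = z * (algebraMap B Bi ((s : B) * d) - 1) := by
    rw [map_mul, map_mul, ← has]; ring
  rw [this]
  exact Ideal.mul_mem_left _ _ hd

end OneFactor

theorem length_quotient_eq_sum {A B : Type u} [CommRing A] [IsLocalRing A] [CommRing B] [Algebra A B]
    {ι : Type*} [Fintype ι] (Bi : ι → Type u) [∀ i, CommRing (Bi i)] [∀ i, IsLocalRing (Bi i)]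
    [∀ i, Algebra B (Bi i)] [∀ i, Algebra A (Bi i)] [∀ i, IsScalarTower A B (Bi i)]
    [∀ i, IsLocalHom (algebraMap A (Bi i))] (m : ι → Ideal B) [∀ i, (m i).IsMaximal]
    [∀ i, IsLocalization.AtPrime (Bi i) (m i)] (hinj : Function.Injective m)
    (hall : ∀ M : Ideal B, M.IsMaximal → ∃ i, m i = M) (r : B)
    (hord : ∀ i, Ring.ord (Bi i) (algebraMap B (Bi i) r) ≠ ⊤) :
    Module.length A (B ⧸ Ideal.span {r}) =
      ∑ i, Ring.ord (Bi i) (algebraMap B (Bi i) r) *
        Module.length (ResidueField A) (ResidueField (Bi i)) := by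
  classical
  let I : ∀ i, Ideal (Bi i) := fun i => Ideal.span {algebraMap B (Bi i) r}
  let φ : B →ₗ[A] ((i : ι) → Bi i ⧸ I i) :=
    LinearMap.pi fun i => ((Ideal.Quotient.mkₐ A (I i)).comp (IsScalarTower.toAlgHom A B (Bi i))).toLinearMap
  have hφ : ∀ b i, φ b i = Ideal.Quotient.mk (I i) (algebraMap B (Bi i) b) := fun b i => rfl
  have hker : LinearMap.ker φ = (Ideal.span {r}).restrictScalars A := by
    ext b
    rw [LinearMap.mem_ker, Submodule.restrictScalars_mem]
    constructor
    · intro hb
      by_contra hne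
      let J : Ideal B := { carrier := {c | c * b ∈ Ideal.span {r}}
                           add_mem' := fun {x y} hx hy => by
                             simpa only [Set.mem_setOf_eq, add_mul] using add_mem hx hy
                           zero_mem' := by simp
                           smul_mem' := fun t x hx => by
                             simpa only [smul_eq_mul, Set.mem_setOf_eq, mul_assoc] using Ideal.mul_mem_left _ t hx }
      obtain ⟨M, hM, hJM⟩ := Ideal.exists_le_maximal J ((Ideal.ne_top_iff_one _).2 fun h1 =>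
        hne (by simpa using (show (1 : B) * b ∈ Ideal.span {r} from h1)))
      obtain ⟨i, rfl⟩ := hall M hM
      have hbi : algebraMap B (Bi i) b ∈ (Ideal.span {r}).map (algebraMap B (Bi i)) := by
        rw [Ideal.map_span, Set.image_singleton, ← Ideal.Quotient.eq_zero_iff_mem]
        exact congrFun hb i
      obtain ⟨⟨a, s⟩, has⟩ := (IsLocalization.mem_map_algebraMap_iff (m i).primeCompl (Bi i)).1 hbi
      rw [← map_mul] at has
      obtain ⟨t, ht⟩ := (IsLocalization.eq_iff_exists (m i).primeCompl (Bi i)).1 has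
      refine ((m i).primeCompl.mul_mem t.2 s.2) (hJM ?_)
      show (t : B) * (s : B) * b ∈ Ideal.span {r}
      rw [mul_assoc, mul_comm (s : B) b, ht]
      exact Ideal.mul_mem_left _ _ a.2
    · intro hb
      funext i
      obtain ⟨c, rfl⟩ := Ideal.mem_span_singleton'.1 hb
      rw [hφ, Pi.zero_apply, Ideal.Quotient.eq_zero_iff_mem, map_mul]
      exact Ideal.mul_mem_left _ _ (Ideal.mem_span_singleton_self _)
  have hsurj : Function.Surjective φ := by
    intro z
    have hone : ∀ i, ∃ e : B, φ e = Pi.single i (Ideal.Quotient.mk (I i) 1) := by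
      intro i
      have hex : ∀ j, j ≠ i → ∃ t, t ∉ m i ∧ algebraMap B (Bi j) t ∈ I j := fun j hj => by
        obtain ⟨t, htj, hti⟩ := SetLike.not_le_iff_exists.1
          (fun hle : m j ≤ m i => hj (hinj (Ideal.IsMaximal.eq_of_le inferInstance (Ideal.IsPrime.ne_top inferInstance) hle)))
        obtain ⟨n, hn⟩ := exists_pow_eq_zero (Bi j) r (hord j) (fun h : IsUnit (algebraMap B (Bi j) t) =>
          (IsLocalization.AtPrime.isUnit_to_map_iff (Bi j) (m j) t).1 h htj)
        exact ⟨t ^ n, fun h => hti (Ideal.IsPrime.mem_of_pow_mem inferInstance n h), by rw [map_pow]; exact hn⟩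
      choose t ht htI using hex
      let e := ∏ j ∈ (Finset.univ.erase i).attach, t j.1 (Finset.mem_erase.1 j.2).1
      have he : e ∉ m i := fun h => by
        obtain ⟨j, -, hj⟩ := (Ideal.IsPrime.prod_mem_iff (p := m i)).1 h
        exact ht _ _ hj
      obtain ⟨d, hd⟩ := exists_inverse (m i) (Bi i) r (hord i) he
      refine ⟨e * d, funext fun j => ?_⟩
      rcases eq_or_ne j i with rfl | hj
      · rw [Pi.single_eq_same, hφ]
        exact Ideal.Quotient.eq.2 hd
      · rw [Pi.single_eq_of_ne hj, hφ, Ideal.Quotient.eq_zero_iff_mem, map_mul, map_prod]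
        exact Ideal.mul_mem_right _ _ (Ideal.prod_mem (I j) (Finset.mem_attach _ ⟨j, Finset.mem_erase.2 ⟨hj, Finset.mem_univ j⟩⟩) (htI j hj))
    choose e he using hone
    choose w hw using fun i => Ideal.Quotient.mk_surjective (z i)
    choose b hb using fun i => exists_lift_semilocal (m i) (Bi i) r (hord i) (w i)
    refine ⟨∑ i, e i * b i, ?_⟩
    rw [map_sum]
    funext j
    rw [Finset.sum_apply, Finset.sum_eq_single j]
    · rw [hφ, map_mul, map_mul, ← hφ (e j), he, Pi.single_eq_same, map_one, one_mul, ← hw j]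
      exact Ideal.Quotient.eq.2 (hb j)
    · intro i _ hi
      rw [hφ, map_mul, map_mul, ← hφ (e i), he, Pi.single_eq_of_ne hi.symm, zero_mul]
    · exact fun h => absurd (Finset.mem_univ j) h
  rw [((Submodule.Quotient.restrictScalarsEquiv A (Ideal.span {r})).symm.trans
    ((Submodule.quotEquivOfEq _ _ hker.symm).trans (φ.quotKerEquivOfSurjective hsurj))).length_eq,
    Module.length_pi_of_fintype]
  exact Finset.sum_congr rfl fun i _ => IsLocalRing.length_restrictScalars A (Bi i) (Bi i ⧸ I i)

end Groth.Agent.CycLib
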