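import Groth.Agent.IntThLib.Norm
import Groth.Agent.CycLib.SemiLen
import Mathlib.RingTheory.Ideal.GoingUp

/-! The order of a norm over a one-dimensional local domain as a sum over the local rings above it. -/

set_option autoImplicit false

universe u

open IsLocalRing

namespace Groth.Agent.CycLib

theorem ordFrac_norm_eq_sum (A K L : Type u) [CommRing A] [IsDomain A] [IsLocalRing A] [IsNoetherianRing A]
    [Ring.KrullDimLE 1 A] [Field K] [Field L] [Algebra A K] [IsFractionRing A K] [Algebra K L] [Algebra A L]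
    [IsScalarTower A K L] [FiniteDimensional K L]
    {C : Type u} [CommRing C] (ev : C →+* L)
    {ι : Type*} [Fintype ι] (R : ι → Type u) [∀ i, CommRing (R i)] [∀ i, IsDomain (R i)] [∀ i, IsLocalRing (R i)]
    [∀ i, IsNoetherianRing (R i)] [∀ i, Ring.KrullDimLE 1 (R i)]
    [∀ i, Algebra (R i) L] [∀ i, IsFractionRing (R i) L] [∀ i, Algebra A (R i)] [∀ i, IsScalarTower A (R i) L]
    [∀ i, IsLocalHom (algebraMap A (R i))] [∀ i, Module.Finite (ResidueField A) (ResidueField (R i))]
    (e : ∀ i, C →+* R i) (he : ∀ i c, algebraMap (R i) L (e i c) = ev c)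
    (hR : ∀ i (z : R i), ∃ a s, IsUnit (e i s) ∧ z * e i s = e i a)
    (hfrac : ∀ z : L, ∃ a s, z = ev a / ev s)
    (hfin : Module.Finite A (Algebra.adjoin A (Set.range ev)))
    (hB : ∀ b ∈ Algebra.adjoin A (Set.range ev), ∃ c, ∃ v : Aˣ, b * algebraMap A L v = ev c)
    (hinj : ∀ i j, (∀ c, IsUnit (e i c) ↔ IsUnit (e j c)) → i = j)
    (hall : ∀ M : Ideal (Algebra.adjoin A (Set.range ev)), M.IsMaximal → ∃ i, ∀ c,
      (⟨ev c, Algebra.subset_adjoin ⟨c, rfl⟩⟩ : Algebra.adjoin A (Set.range ev)) ∈ M ↔ ¬ IsUnit (e i c))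
    (z : L) (hz : z ≠ 0) :
    CycAlg.ordFrac A K (Algebra.norm K z) =
      ∑ i, CycAlg.ordFrac (R i) L z * (Module.finrank (ResidueField A) (ResidueField (R i)) : ℤ) := by
  classical
  let B := Algebra.adjoin A (Set.range ev)
  let evB : C → B := fun c => ⟨ev c, Algebra.subset_adjoin ⟨c, rfl⟩⟩
  haveI : IsFractionRing B L := IsFractionRing.of_field _ _ fun w => by
    obtain ⟨a, s, rfl⟩ := hfrac w
    exact ⟨evB a, evB s, rfl⟩
  let j : ∀ i, R i →ₐ[A] L := fun i => IsScalarTower.toAlgHom A (R i) L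
  have hj : ∀ i, Function.Injective (j i) := fun i => IsFractionRing.injective (R i) L
  have hle : ∀ i, B ≤ (j i).range := fun i => Algebra.adjoin_le fun w ⟨c, hc⟩ => ⟨e i c, (he i c).trans hc⟩
  let ψ : ∀ i, B →ₐ[A] R i := fun i =>
    (AlgEquiv.ofInjective (j i) (hj i)).symm.toAlgHom.comp (Subalgebra.inclusion (hle i))
  have hψ : ∀ i (b : B), algebraMap (R i) L (ψ i b) = b := fun i b => by
    show j i _ = _
    rw [← AlgEquiv.ofInjective_apply (j i) (hj i)]
    simp [ψ]
  have hψe : ∀ i c, ψ i (evB c) = e i c := fun i c => hj i ((hψ i _).trans (he i c).symm)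
  letI algB : ∀ i, Algebra B (R i) := fun i => (ψ i).toRingHom.toAlgebra
  haveI : ∀ i, IsScalarTower A B (R i) := fun i => IsScalarTower.of_algebraMap_eq fun a => ((ψ i).commutes a).symm
  let m : ι → Ideal B := fun i => (maximalIdeal (R i)).comap (ψ i).toRingHom
  have hm : ∀ i (b : B), b ∈ m i ↔ ¬ IsUnit (ψ i b) := fun i b => by
    show ψ i b ∈ maximalIdeal (R i) ↔ _
    rw [IsLocalRing.mem_maximalIdeal, mem_nonunits_iff]
  haveI : ∀ i, (m i).IsPrime := fun i => Ideal.comap_isPrime _ _
  haveI : ∀ i, (m i).IsMaximal := fun i => by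
    refine Ideal.isMaximal_of_isIntegral_of_isMaximal_comap (R := A) (m i) ?_
    have : (m i).comap (algebraMap A B) = maximalIdeal A := by
      ext a
      rw [Ideal.mem_comap, hm, AlgHom.commutes, IsLocalRing.mem_maximalIdeal, mem_nonunits_iff,
        isUnit_map_iff (algebraMap A (R i))]
    rw [this]
    infer_instance
  haveI : ∀ i, IsLocalization.AtPrime (R i) (m i) := fun i =>
    { map_units := fun b => by
        by_contra hb
        exact b.2 ((hm i b.1).2 hb)
      surj := fun w => by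
        obtain ⟨a, s, hs, has⟩ := hR i w
        refine ⟨⟨evB a, ⟨evB s, fun hmem => ((hm i _).1 hmem) (by rw [hψe]; exact hs)⟩⟩, ?_⟩
        show w * ψ i (evB s) = ψ i (evB a)
        rw [hψe, hψe, has]
      exists_of_eq := fun {x y} hxy => ⟨1, by
        have : x = y := Subtype.ext (((hψ i x).symm.trans (congrArg (algebraMap (R i) L) hxy)).trans (hψ i y))
        rw [this]⟩ }
  have hkey : ∀ (b : B), ∃ c, ∃ v : Bˣ, b * (v : B) = evB c ∧ ∀ i, ψ i b * ψ i (v : B) = e i c := fun b => by
    obtain ⟨c, v, hv⟩ := hB b b.2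
    refine ⟨c, Units.map (algebraMap A B).toMonoidHom v, Subtype.ext hv, fun i => ?_⟩
    rw [← map_mul, ← hψe]
    exact congrArg (ψ i) (Subtype.ext hv)
  have minj : Function.Injective m := fun i k hik => hinj i k fun c => by
    have h1 := hm i (evB c)
    have h2 := hm k (evB c)
    rw [hψe] at h1 h2
    rw [hik] at h1
    exact not_iff_not.1 (h1.symm.trans h2)
  have mall : ∀ M : Ideal B, M.IsMaximal → ∃ i, m i = M := fun M hM => by
    obtain ⟨i, hi⟩ := hall M hM
    refine ⟨i, Ideal.ext fun b => ?_⟩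
    obtain ⟨c, v, hv, hv'⟩ := hkey b
    rw [hm]
    have hu : IsUnit (ψ i b) ↔ IsUnit (e i c) := by
      rw [← hv' i, IsUnit.mul_iff]
      exact (and_iff_left (v.isUnit.map (ψ i))).symm
    have hb : b ∈ M ↔ evB c ∈ M := by
      rw [← hv]
      refine ⟨fun h => M.mul_mem_right _ h, fun h => ?_⟩
      have := M.mul_mem_right ((v⁻¹ : Bˣ) : B) h
      rwa [Units.mul_inv_cancel_right] at this
    rw [hb, hi, hu]
  have key : ∀ r : B, r ≠ 0 → CycAlg.ordFrac A K (Algebra.norm K (r : L)) =
      ∑ i, CycAlg.ordFrac (R i) L (r : L) * (Module.finrank (ResidueField A) (ResidueField (R i)) : ℤ) := by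
    intro r hr
    have hr' : ∀ i, ψ i r ≠ 0 := fun i h0 => hr (Subtype.ext (by rw [← hψ i r, h0, map_zero]; rfl))
    have hord : ∀ i, Ring.ord (R i) (algebraMap B (R i) r) ≠ ⊤ :=
      fun i => Ring.ord_ne_top (mem_nonZeroDivisors_of_ne_zero (hr' i))
    have h1 := (IntThLib.length_quotient_eq_ordFrac_norm A B K L r hr).2
    have h2 := length_quotient_eq_sum (A := A) R m minj mall r hord
    rw [show algebraMap B L r = (r : L) from rfl] at h1
    rw [← h1, h2, ENat.toNat_sum]
    · push_cast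
      refine Finset.sum_congr rfl fun i _ => ?_
      rw [ENat.toNat_mul, Module.length_eq_finrank, ENat.toNat_natCast]
      push_cast
      congr 1
      rw [show (r : L) = algebraMap (R i) L (ψ i r) from (hψ i r).symm, IntThLib.ordFrac_algebraMap (hr' i)]
      rfl
    · intro i _
      rw [Module.length_eq_finrank]
      exact WithTop.mul_ne_top (hord i) (ENat.coe_ne_top _)
  obtain ⟨a, s, rfl⟩ := hfrac z
  have ha : ev a ≠ 0 := fun h => hz (by rw [h, zero_div])
  have hs : ev s ≠ 0 := fun h => hz (by rw [h, div_zero])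
  have k1 := key (evB a) (fun h => ha (congrArg Subtype.val h))
  have k2 := key (evB s) (fun h => hs (congrArg Subtype.val h))
  have hn : ∀ w : L, w ≠ 0 → Algebra.norm K w ≠ 0 := fun w hw => Algebra.norm_ne_zero_iff.2 hw
  have h3 := IntThLib.ordFrac_mul (A := A) (K := K) (hn _ hz) (hn _ hs)
  rw [← map_mul, div_mul_cancel₀ _ hs] at h3
  have h4 : ∀ i, CycAlg.ordFrac (R i) L (ev a) = CycAlg.ordFrac (R i) L (ev a / ev s) + CycAlg.ordFrac (R i) L (ev s) :=
    fun i => by
      have := IntThLib.ordFrac_mul (A := R i) (K := L) hz hs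
      rwa [div_mul_cancel₀ _ hs] at this
  have k1' : CycAlg.ordFrac A K (Algebra.norm K (ev a)) =
      ∑ i, CycAlg.ordFrac (R i) L (ev a) * (Module.finrank (ResidueField A) (ResidueField (R i)) : ℤ) := k1
  have k2' : CycAlg.ordFrac A K (Algebra.norm K (ev s)) =
      ∑ i, CycAlg.ordFrac (R i) L (ev s) * (Module.finrank (ResidueField A) (ResidueField (R i)) : ℤ) := k2
  simp_rw [h4, add_mul, Finset.sum_add_distrib] at k1'
  linarith

end Groth.Agent.CycLib
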