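import Groth.Agent.CycLib.DivMap
import Groth.Agent.CycLib.Finite
import Groth.Agent.CycLib.NormLocal
import Groth.Agent.CycLib.Push
import Groth.Agent.QCoh.Support
import Groth.Agent.QCoh.Stalk

/-! Push-forward of principal divisors along maps finite over a point of codimension one. -/

set_option autoImplicit false

universe u

open AlgebraicGeometry CategoryTheory TopologicalSpace Opposite

namespace Groth.Agent.CycLib

variable {X Y : Scheme.{u}}

theorem eq_of_basicOpen_iff {U : X.Opens} (hU : IsAffineOpen U) {x x' : X} (hx : x ∈ U) (hx' : x' ∈ U)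
    (h : ∀ c : Γ(X, U), x ∈ X.basicOpen c ↔ x' ∈ X.basicOpen c) : x = x' := by
  have : hU.primeIdealOf ⟨x, hx⟩ = hU.primeIdealOf ⟨x', hx'⟩ := PrimeSpectrum.ext (Ideal.ext fun c => by
    have := h c
    rw [QCoh.mem_basicOpen_iff_notMem hU hx, QCoh.mem_basicOpen_iff_notMem hU hx'] at this
    exact not_iff_not.1 this)
  exact (hU.fromSpec_primeIdealOf ⟨x, hx⟩).symm.trans
    ((congrArg hU.fromSpec this).trans (hU.fromSpec_primeIdealOf ⟨x', hx'⟩))

theorem isUnit_mk_locQuot {x ξ : X} (h : ξ ⤳ x) (g : X.presheaf.stalk x) :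
    IsUnit (Ideal.Quotient.mk (RingHom.ker (Cyc.specMap x ξ h)) g) ↔ IsUnit g := by
  refine ⟨fun hu => ?_, fun hu => hu.map _⟩
  obtain ⟨w, hw⟩ := Ideal.Quotient.mk_surjective (↑hu.unit⁻¹ : Cyc.LocQuot x ξ h)
  have h1 : Ideal.Quotient.mk (RingHom.ker (Cyc.specMap x ξ h)) (g * w) = 1 := by
    rw [map_mul, hw, IsUnit.mul_val_inv]
  rw [← map_one (Ideal.Quotient.mk _), Ideal.Quotient.eq] at h1
  rcases IsLocalRing.isUnit_or_isUnit_one_sub_self (g * w) with h2 | h2
  · exact isUnit_of_mul_isUnit_left h2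
  · refine absurd ?_ ((IsLocalRing.le_maximalIdeal (RingHom.ker_ne_top _) h1))
    rw [← neg_sub]
    exact h2.neg

theorem specMap_comp (f : X ⟶ Y) {x ξ : X} (h : ξ ⤳ x) {y : Y} (hxy : f x = y) (hy : f ξ ⤳ y)
    (g : Y.presheaf.stalk y) :
    Cyc.specMap x ξ h (f.stalkMap x (Y.presheaf.stalkSpecializes (specializes_of_eq hxy) g)) =
      f.residueFieldMap ξ (Cyc.specMap y (f ξ) hy g) := by
  subst hxy
  rw [TopCat.Presheaf.stalkSpecializes_refl]
  exact specMap_naturality f h g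

/-- The map of local rings of closures induced by a morphism. -/
noncomputable def locQuotMap (f : X ⟶ Y) {x ξ : X} (h : ξ ⤳ x) {y : Y} (hxy : f x = y) (hy : f ξ ⤳ y) :
    Cyc.LocQuot y (f ξ) hy →+* Cyc.LocQuot x ξ h :=
  Ideal.quotientMap _ ((f.stalkMap x).hom.comp (Y.presheaf.stalkSpecializes (specializes_of_eq hxy)).hom) fun a ha => by
    rw [Ideal.mem_comap, RingHom.mem_ker, RingHom.comp_apply]
    rw [RingHom.mem_ker] at ha
    exact (specMap_comp f h hxy hy a).trans (by rw [ha, map_zero])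

theorem isLocalHom_locQuotMap (f : X ⟶ Y) {x ξ : X} (h : ξ ⤳ x) {y : Y} (hxy : f x = y) (hy : f ξ ⤳ y) :
    IsLocalHom (locQuotMap f h hxy hy) := by
  subst hxy
  refine ⟨fun a ha => ?_⟩
  obtain ⟨a, rfl⟩ := Ideal.Quotient.mk_surjective a
  rw [locQuotMap, Ideal.quotientMap_mk, isUnit_mk_locQuot, RingHom.comp_apply,
    TopCat.Presheaf.stalkSpecializes_refl] at ha
  exact (isUnit_mk_locQuot hy a).2 ((isUnit_map_iff (f.stalkMap x).hom a).1 ha)

theorem residueDegree_eq_finrank (f : X ⟶ Y) {x ξ : X} (h : ξ ⤳ x) {y : Y} (hxy : f x = y) (hy : f ξ ⤳ y)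
    (hfin : (f.residueFieldMap x).hom.Finite) :
    letI := (locQuotMap f h hxy hy).toAlgebra
    haveI : IsLocalHom (algebraMap (Cyc.LocQuot y (f ξ) hy) (Cyc.LocQuot x ξ h)) := isLocalHom_locQuotMap f h hxy hy
    Module.Finite (IsLocalRing.ResidueField (Cyc.LocQuot y (f ξ) hy)) (IsLocalRing.ResidueField (Cyc.LocQuot x ξ h)) ∧
      Module.finrank (IsLocalRing.ResidueField (Cyc.LocQuot y (f ξ) hy))
        (IsLocalRing.ResidueField (Cyc.LocQuot x ξ h)) = f.residueDegree x := by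
  subst hxy
  letI := (locQuotMap f h rfl hy).toAlgebra
  haveI : IsLocalHom (algebraMap (Cyc.LocQuot (f x) (f ξ) hy) (Cyc.LocQuot x ξ h)) := isLocalHom_locQuotMap f h rfl hy
  haveI hq1 : IsLocalHom (Ideal.Quotient.mk (RingHom.ker (Cyc.specMap (f x) (f ξ) hy))) :=
    ⟨fun a ha => (isUnit_mk_locQuot hy a).1 ha⟩
  haveI hq2 : IsLocalHom (Ideal.Quotient.mk (RingHom.ker (Cyc.specMap x ξ h))) :=
    ⟨fun a ha => (isUnit_mk_locQuot h a).1 ha⟩
  let i : Y.residueField (f x) ≃+* IsLocalRing.ResidueField (Cyc.LocQuot (f x) (f ξ) hy) :=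
    RingEquiv.ofBijective (IsLocalRing.ResidueField.map (Ideal.Quotient.mk (RingHom.ker (Cyc.specMap (f x) (f ξ) hy))))
      ⟨RingHom.injective _, fun z => by
        obtain ⟨z, rfl⟩ := IsLocalRing.residue_surjective z
        obtain ⟨z, rfl⟩ := Ideal.Quotient.mk_surjective z
        exact ⟨IsLocalRing.residue _ z, IsLocalRing.ResidueField.map_residue _ z⟩⟩
  let j : X.residueField x ≃+* IsLocalRing.ResidueField (Cyc.LocQuot x ξ h) :=
    RingEquiv.ofBijective (IsLocalRing.ResidueField.map (Ideal.Quotient.mk (RingHom.ker (Cyc.specMap x ξ h))))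
      ⟨RingHom.injective _, fun z => by
        obtain ⟨z, rfl⟩ := IsLocalRing.residue_surjective z
        obtain ⟨z, rfl⟩ := Ideal.Quotient.mk_surjective z
        exact ⟨IsLocalRing.residue _ z, IsLocalRing.ResidueField.map_residue _ z⟩⟩
  letI := (f.residueFieldMap x).hom.toAlgebra
  have hc : (algebraMap (IsLocalRing.ResidueField (Cyc.LocQuot (f x) (f ξ) hy))
      (IsLocalRing.ResidueField (Cyc.LocQuot x ξ h))).comp i.toRingHom =
      j.toRingHom.comp (algebraMap (Y.residueField (f x)) (X.residueField x)) := by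
    refine RingHom.ext fun z => ?_
    obtain ⟨a, rfl⟩ := IsLocalRing.residue_surjective z
    show algebraMap _ _ (i (IsLocalRing.residue _ a)) = j (f.residueFieldMap x (Y.residue (f x) a))
    rw [show f.residueFieldMap x (Y.residue (f x) a) = X.residue x (f.stalkMap x a) from
      congrArg (fun m : Y.presheaf.stalk (f x) ⟶ X.residueField x => m.hom a) (Scheme.residue_residueFieldMap f x)]
    show algebraMap _ _ (IsLocalRing.residue _ (Ideal.Quotient.mk _ a)) = IsLocalRing.residue _ (Ideal.Quotient.mk _ (f.stalkMap x a))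
    rw [IsLocalRing.ResidueField.algebraMap_residue]
    show IsLocalRing.residue _ (locQuotMap f h rfl hy (Ideal.Quotient.mk _ a)) = _
    rw [locQuotMap, Ideal.quotientMap_mk, RingHom.comp_apply, TopCat.Presheaf.stalkSpecializes_refl]
    rfl
  haveI : Module.Finite (Y.residueField (f x)) (X.residueField x) := hfin
  exact ⟨Module.Finite.of_equiv_equiv i j hc, (Algebra.finrank_eq_of_equiv_equiv i j hc).symm⟩

theorem finite_app_of_restrict (f : X ⟶ Y) {V : Y.Opens} (hV : IsAffineOpen V) [IsFinite (f ∣_ V)] :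
    IsAffineOpen (f ⁻¹ᵁ V) ∧ (f.app V).hom.Finite := by
  haveI : IsAffine (V : Scheme.{u}) := hV
  refine ⟨isAffine_of_isAffineHom (f ∣_ V), ?_⟩
  have h := (f ∣_ V).finite_app ⊤ (isAffineOpen_top _)
  rw [morphismRestrict_app] at h
  have h' := (RingHom.finite_respectsIso.cancel_right_isIso (f.app (V.ι ''ᵁ ⊤))
    (X.presheaf.map (eqToHom (image_morphismRestrict_preimage f V ⊤)).op)).1 h
  rwa [Scheme.Opens.ι_image_top] at h'

/-- The norm formula for principal divisors at a point over which the morphism is finite. -/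
theorem sum_divFun_eq_ordAt_norm (f : X ⟶ Y) [LocallyOfFiniteType f] [IsLocallyNoetherian X] [IsLocallyNoetherian Y]
    {δX : X → ℤ} {δY : Y → ℤ} (hdX : Cyc.IsDimFun X δX) (hdY : Cyc.IsDimFun Y δY) (hδ : Cyc.DeltaCompat f δX δY)
    {ξ : X} (hξ : δX ξ = δY (f ξ)) {y : Y} (hy : f ξ ⤳ y) (hy1 : δY y + 1 = δY (f ξ))
    {V : Y.Opens} (hV : IsAffineOpen V) (hyV : y ∈ V) [IsFinite (f ∣_ V)]
    {g : X.residueField ξ} (hg : g ≠ 0) :
    ∑ᶠ x ∈ f ⁻¹' {y}, Cyc.divFun δX ξ g x * (AlgebraicCycle.mapCoeff f δX δY x : ℤ) =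
      Cyc.ordAt y (f ξ) hy (Cyc.normGen f ξ g) := by
  classical
  obtain ⟨hU, hfin⟩ := finite_app_of_restrict f hV
  have hrd : FibDim.rd f ξ = 0 := by
    have := deltaCompat_eq f hδ ξ
    omega
  letI aKL : Algebra (Y.residueField (f ξ)) (X.residueField ξ) := (f.residueFieldMap ξ).hom.toAlgebra
  haveI : FiniteDimensional (Y.residueField (f ξ)) (X.residueField ξ) := finite_residueFieldMap_of_rd_eq_zero f ξ hrd
  let A := Cyc.LocQuot y (f ξ) hy
  letI aAL : Algebra A (X.residueField ξ) :=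
    ((f.residueFieldMap ξ).hom.comp (algebraMap A (Y.residueField (f ξ)))).toAlgebra
  haveI : IsScalarTower A (Y.residueField (f ξ)) (X.residueField ξ) := IsScalarTower.of_algebraMap_eq fun _ => rfl
  haveI : Ring.KrullDimLE 1 A := krullDimLE_locQuot hdY hy hy1
  have hξV : f ξ ∈ V := hy.mem_open V.isOpen hyV
  have hξU : ξ ∈ f ⁻¹ᵁ V := hξV
  let ev : Γ(X, f ⁻¹ᵁ V) →+* X.residueField ξ := (X.evaluation (f ⁻¹ᵁ V) ξ hξU).hom
  have hnat : ∀ s : Γ(Y, V), algebraMap A (X.residueField ξ)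
      (Ideal.Quotient.mk _ (Y.presheaf.germ V y hyV s)) = ev (f.app V s) := fun s => by
    show f.residueFieldMap ξ (Cyc.specMap y (f ξ) hy _) = _
    rw [specMap_germ]
    exact Scheme.evaluation_naturality_apply f ξ hξV s
  let ι := {x : X // f x = y ∧ ξ ⤳ x}
  have hδx : ∀ i : ι, δX i.1 + 1 = δX ξ := fun i => by
    have h1 := le_of_deltaCompat f hδ i.1
    rw [i.2.1] at h1
    have hne : ξ ≠ i.1 := fun e => by
      have h2 := i.2.1
      rw [← e] at h2
      rw [h2] at hy1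
      omega
    have h3 := delta_lt hdX i.2.2 hne
    omega
  haveI : Finite ι := by
    have h1 := ((f ∣_ V).finite_preimage_singleton ⟨y, hyV⟩).image (f ⁻¹ᵁ V).ι
    refine Set.finite_coe_iff.2 (h1.subset fun x hx => ?_)
    refine ⟨⟨x, show f x ∈ V from hx.1 ▸ hyV⟩, Subtype.ext ?_, rfl⟩
    show V.ι ((f ∣_ V) _) = y
    rw [← Scheme.Hom.comp_apply, morphismRestrict_ι, Scheme.Hom.comp_apply]
    exact hx.1
  letI := Fintype.ofFinite ι
  let R := fun i : ι => Cyc.LocQuot i.1 ξ i.2.2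
  letI : ∀ i, Algebra A (R i) := fun i => (locQuotMap f i.2.2 i.2.1 hy).toAlgebra
  haveI : ∀ i, IsLocalHom (algebraMap A (R i)) := fun i => isLocalHom_locQuotMap f i.2.2 i.2.1 hy
  haveI : ∀ i, IsScalarTower A (R i) (X.residueField ξ) := fun i => IsScalarTower.of_algebraMap_eq fun a => by
    obtain ⟨a, rfl⟩ := Ideal.Quotient.mk_surjective a
    exact (specMap_comp f i.2.2 i.2.1 hy a).symm
  haveI : ∀ i, Ring.KrullDimLE 1 (R i) := fun i => krullDimLE_locQuot hdX i.2.2 (hδx i)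
  have hdeg : ∀ i : ι, (f.residueFieldMap i.1).hom.Finite := fun i => by
    refine finite_residueFieldMap_of_rd_eq_zero f i.1 ?_
    have h1 := deltaCompat_eq f hδ i.1
    have h2 := hδx i
    rw [i.2.1] at h1
    omega
  haveI : ∀ i, Module.Finite (IsLocalRing.ResidueField A) (IsLocalRing.ResidueField (R i)) :=
    fun i => (residueDegree_eq_finrank f i.2.2 i.2.1 hy (hdeg i)).1
  have hxU : ∀ i : ι, i.1 ∈ f ⁻¹ᵁ V := fun i => show f i.1 ∈ V from i.2.1.symm ▸ hyV
  let e : ∀ i, Γ(X, f ⁻¹ᵁ V) →+* R i := fun i =>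
    (Ideal.Quotient.mk _).comp (X.presheaf.germ (f ⁻¹ᵁ V) i.1 (hxU i)).hom
  have heu : ∀ i c, IsUnit (e i c) ↔ i.1 ∈ X.basicOpen c := fun i c => by
    refine (isUnit_mk_locQuot i.2.2 _).trans ?_
    rw [Scheme.mem_basicOpen _ _ _ (hxU i)]
  have hAu : ∀ s : Γ(Y, V), IsUnit (Ideal.Quotient.mk (RingHom.ker (Cyc.specMap y (f ξ) hy))
      (Y.presheaf.germ V y hyV s)) ↔ y ∈ Y.basicOpen s := fun s => by
    rw [isUnit_mk_locQuot, Scheme.mem_basicOpen _ _ _ hyV]
  have hgen : ∀ a : A, ∃ v s : Γ(Y, V), IsUnit (Ideal.Quotient.mk (RingHom.ker (Cyc.specMap y (f ξ) hy))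
      (Y.presheaf.germ V y hyV s)) ∧ a * Ideal.Quotient.mk _ (Y.presheaf.germ V y hyV s) =
        Ideal.Quotient.mk _ (Y.presheaf.germ V y hyV v) := fun a => by
    obtain ⟨a, rfl⟩ := Ideal.Quotient.mk_surjective a
    letI := Y.presheaf.algebra_section_stalk ⟨y, hyV⟩
    haveI := hV.isLocalization_stalk ⟨y, hyV⟩
    obtain ⟨⟨v, s⟩, hvs⟩ := IsLocalization.surj (hV.primeIdealOf ⟨y, hyV⟩).asIdeal.primeCompl a
    refine ⟨v, s.1, ((IsLocalization.map_units (Y.presheaf.stalk y) s).map _), ?_⟩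
    rw [← map_mul]
    exact congrArg _ hvs
  have hBmem : ∀ b ∈ Algebra.adjoin A (Set.range ev), ∃ c, ∃ v : Aˣ, b * algebraMap A (X.residueField ξ) v = ev c := by
    intro b hb
    induction hb using Algebra.adjoin_induction with
    | mem b hb => obtain ⟨c, rfl⟩ := hb; exact ⟨c, 1, by simp⟩
    | algebraMap a =>
      obtain ⟨v, s, hs, has⟩ := hgen a
      refine ⟨f.app V v, hs.unit, ?_⟩
      rw [← map_mul, IsUnit.unit_spec, has, hnat]
    | add b b' _ _ hb hb' =>
      obtain ⟨c, v, hc⟩ := hb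
      obtain ⟨c', v', hc'⟩ := hb'
      obtain ⟨t, s, hs, hts⟩ := hgen (v : A)
      obtain ⟨t', s', hs', hts'⟩ := hgen (v' : A)
      refine ⟨c * (f.app V s) * (f.app V t') + c' * (f.app V s') * (f.app V t), v * hs.unit * (v' * hs'.unit), ?_⟩
      rw [map_add ev, map_mul ev, map_mul ev, map_mul ev, map_mul ev, ← hnat, ← hnat, ← hnat, ← hnat, ← hc, ← hc', ← hts, ← hts']
      simp only [Units.val_mul, IsUnit.unit_spec, map_mul]
      ring
    | mul b b' _ _ hb hb' =>
      obtain ⟨c, v, hc⟩ := hb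
      obtain ⟨c', v', hc'⟩ := hb'
      refine ⟨c * c', v * v', ?_⟩
      rw [map_mul ev, ← hc, ← hc', Units.val_mul, map_mul]
      ring
  have hBfin : Module.Finite A (Algebra.adjoin A (Set.range ev)) := by
    letI := (f.app V).hom.toAlgebra
    haveI : Module.Finite Γ(Y, V) Γ(X, f ⁻¹ᵁ V) := hfin
    obtain ⟨n, cs, hcs⟩ := Module.Finite.exists_fin (R := Γ(Y, V)) (M := Γ(X, f ⁻¹ᵁ V))
    have hev : ∀ c, ev c ∈ Submodule.span A (Set.range (ev ∘ cs)) := fun c => by
      obtain ⟨r, rfl⟩ := (Submodule.mem_span_range_iff_exists_fun _).1 (hcs.ge (Submodule.mem_top (x := c)))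
      rw [map_sum]
      refine Submodule.sum_mem _ fun i _ => ?_
      rw [Algebra.smul_def, map_mul, show algebraMap Γ(Y, V) Γ(X, f ⁻¹ᵁ V) (r i) = f.app V (r i) from rfl, ← hnat,
        ← Algebra.smul_def]
      exact Submodule.smul_mem _ _ (Submodule.subset_span ⟨i, rfl⟩)
    show Module.Finite A (Subalgebra.toSubmodule (Algebra.adjoin A (Set.range ev)))
    refine Module.Finite.iff_fg.2 (Submodule.fg_def.2 ⟨Set.range (ev ∘ cs), Set.finite_range _, ?_⟩)
    refine le_antisymm (Submodule.span_le.2 ?_) fun b hb => ?_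
    · rintro _ ⟨i, rfl⟩
      exact Algebra.subset_adjoin ⟨cs i, rfl⟩
    · obtain ⟨c, v, hc⟩ := hBmem b hb
      have : b = ((v⁻¹ : Aˣ) : A) • ev c := by
        rw [← hc, Algebra.smul_def, mul_left_comm, ← map_mul, Units.inv_mul, map_one, mul_one]
      rw [this]
      exact Submodule.smul_mem _ _ (hev c)
  have key := ordFrac_norm_eq_sum A (Y.residueField (f ξ)) (X.residueField ξ) ev R e
    (fun i c => specMap_germ i.2.2 (f ⁻¹ᵁ V) (hxU i) c) (fun i z => by
      obtain ⟨z, rfl⟩ := Ideal.Quotient.mk_surjective z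
      letI := X.presheaf.algebra_section_stalk ⟨i.1, hxU i⟩
      haveI := hU.isLocalization_stalk ⟨i.1, hxU i⟩
      obtain ⟨⟨a, s⟩, has⟩ := IsLocalization.surj (hU.primeIdealOf ⟨i.1, hxU i⟩).asIdeal.primeCompl z
      refine ⟨a, s.1, (IsLocalization.map_units (X.presheaf.stalk i.1) s).map (Ideal.Quotient.mk (RingHom.ker (Cyc.specMap i.1 ξ i.2.2))), ?_⟩
      show Ideal.Quotient.mk _ z * Ideal.Quotient.mk _ (algebraMap _ _ s.1) = Ideal.Quotient.mk _ (algebraMap _ _ a)
      rw [← map_mul]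
      exact congrArg _ has)
    (fun z => by
      obtain ⟨a, s, -, h⟩ := exists_eval_div hU hξU z
      exact ⟨a, s, h⟩)
    hBfin hBmem
    (fun i k h => Subtype.ext (eq_of_basicOpen_iff hU (hxU i) (hxU k) fun c => by rw [← heu i, ← heu k]; exact h c))
    (fun M hM => by
      let evB : Γ(X, f ⁻¹ᵁ V) →+* Algebra.adjoin A (Set.range ev) :=
        ev.codRestrict _ fun c => Algebra.subset_adjoin ⟨c, rfl⟩
      haveI := hM.isPrime
      let q : PrimeSpectrum Γ(X, f ⁻¹ᵁ V) := ⟨M.comap evB, Ideal.comap_isPrime _ _⟩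
      obtain ⟨x, hx, hxq⟩ := QCoh.exists_point hU q
      have hmem : ∀ c, evB c ∈ M ↔ x ∉ X.basicOpen c := fun c => by
        rw [QCoh.mem_basicOpen_iff_notMem hU hx, hxq, not_not]
        rfl
      have hξx : ξ ⤳ x := by
        have hle : hU.primeIdealOf ⟨ξ, hξU⟩ ≤ hU.primeIdealOf ⟨x, hx⟩ := fun c hc => by
          rw [hxq]
          show evB c ∈ M
          have h0 : ev c = 0 := (Scheme.evaluation_eq_zero_iff_notMem_basicOpen _ ξ hξU c).2 fun hb =>
            (QCoh.mem_basicOpen_iff_notMem hU hξU c).1 hb hc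
          rw [show evB c = 0 from Subtype.ext h0]
          exact M.zero_mem
        have := (VarDim.fromSpec_specializes_iff hU _ _).2 hle
        rwa [hU.fromSpec_primeIdealOf, hU.fromSpec_primeIdealOf] at this
      haveI : Algebra.IsIntegral A (Algebra.adjoin A (Set.range ev)) := Algebra.IsIntegral.of_finite _ _
      have hMA : M.comap (algebraMap A (Algebra.adjoin A (Set.range ev))) = IsLocalRing.maximalIdeal A :=
        IsLocalRing.eq_maximalIdeal (Ideal.isMaximal_comap_of_isIntegral_of_isMaximal M)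
      have hxy : f x = y := eq_of_basicOpen_iff hV hx hyV fun s => by
        rw [← hAu s, ← not_iff_not, ← mem_nonunits_iff, ← IsLocalRing.mem_maximalIdeal, ← hMA, Ideal.mem_comap]
        rw [show algebraMap A (Algebra.adjoin A (Set.range ev)) (Ideal.Quotient.mk _ (Y.presheaf.germ V y hyV s)) =
          evB (f.app V s) from Subtype.ext (hnat s), hmem, ← Scheme.preimage_basicOpen]
        rfl
      exact ⟨⟨x, hxy, hξx⟩, fun c => by rw [heu]; exact hmem c⟩)
    g hg
  rw [Cyc.normGen, Cyc.ordAt, key]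
  refine (finsum_mem_eq_sum_of_inter_support_eq _ (t := (Finset.univ : Finset ι).map ⟨Subtype.val, Subtype.val_injective⟩) ?_).trans ?_
  · ext x
    simp only [Set.mem_inter_iff, Set.mem_preimage, Set.mem_singleton_iff, Function.mem_support, Finset.coe_map,
      Function.Embedding.coeFn_mk, Finset.coe_univ, Set.image_univ, Subtype.range_coe_subtype, Set.mem_setOf_eq]
    refine ⟨fun ⟨h1, h2⟩ => ⟨⟨h1, by_contra fun h3 => h2 ?_⟩, h2⟩, fun ⟨h1, h2⟩ => ⟨h1.1, h2⟩⟩
    rw [divFun_eq_zero_of_not_specializes δX g h3, zero_mul]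
  · rw [Finset.sum_map]
    refine Finset.sum_congr rfl fun i _ => ?_
    show Cyc.divFun δX ξ g i.1 * (AlgebraicCycle.mapCoeff f δX δY i.1 : ℤ) = _
    rw [divFun_eq δX g i.2.2 (hδx i), AlgebraicCycle.mapCoeff, if_pos]
    · rw [(residueDegree_eq_finrank f i.2.2 i.2.1 hy (hdeg i)).2]
      rfl
    · have := hδx i
      show δX i.1 = δY (f i.1)
      rw [i.2.1]
      omega

end Groth.Agent.CycLib

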