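import Groth.Agent.CycLib.DivPush
import Groth.Agent.DimFormula.ClosedSub
import Groth.Agent.QCoh.Devissage

/-! Proper push-forward of principal divisors, generically finite case. -/

set_option autoImplicit false

universe u

open AlgebraicGeometry CategoryTheory TopologicalSpace Opposite

namespace Groth.Agent.CycLib

variable {X Y : Scheme.{u}}

theorem isDimFun_closedImmersion {W : Scheme.{u}} (j : W ⟶ X) [IsClosedImmersion j] {δ : X → ℤ}
    (hd : Cyc.IsDimFun X δ) : Cyc.IsDimFun W (fun w => δ (j w)) := by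
  intro a b hab hne
  refine ⟨delta_lt hd (hab.map j.continuous) (j.isClosedEmbedding.injective.ne hne), fun h => ?_⟩
  refine (hd _ _ (hab.map j.continuous) (j.isClosedEmbedding.injective.ne hne)).2 fun z h1 h2 => ?_
  obtain ⟨z, rfl⟩ : z ∈ Set.range j := h1.mem_closed j.isClosedEmbedding.isClosed_range ⟨a, rfl⟩
  rcases h z (j.isClosedEmbedding.isInducing.specializes_iff.1 h1) (j.isClosedEmbedding.isInducing.specializes_iff.1 h2) with rfl | rfl
  exacts [Or.inl rfl, Or.inr rfl]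

theorem deltaCompat_closedImmersion_comp {W : Scheme.{u}} (j : W ⟶ X) [IsClosedImmersion j] (f : X ⟶ Y)
    [LocallyOfFiniteType f] {δX : X → ℤ} {δY : Y → ℤ} (hδ : Cyc.DeltaCompat f δX δY) :
    Cyc.DeltaCompat (j ≫ f) (fun w => δX (j w)) δY := fun w =>
  ⟨FibDim.rd (j ≫ f) w, (FibDim.rd_eq_rdeg (j ≫ f) w).symm, by
    show δX (j w) = δY ((j ≫ f) w) + _
    rw [deltaCompat_eq f hδ (j w), DimFormula.rd_closedSub]
    rfl⟩

theorem normGen_preimmersion_comp {W : Scheme.{u}} (j : W ⟶ X) [IsPreimmersion j] (f : X ⟶ Y) (w : W)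
    (g : X.residueField (j w)) :
    Cyc.normGen (j ≫ f) w (j.residueFieldMap w g) = Cyc.normGen f (j w) g := by
  letI a1 : Algebra (Y.residueField ((j ≫ f) w)) (X.residueField (j w)) := (f.residueFieldMap (j w)).hom.toAlgebra
  letI a2 : Algebra (Y.residueField ((j ≫ f) w)) (W.residueField w) :=
    ((j ≫ f).residueFieldMap w).hom.toAlgebra
  let e : X.residueField (j w) ≃+* W.residueField w := RingEquiv.ofBijective (j.residueFieldMap w).hom (residueFieldMap_bijective j w)
  exact (Algebra.norm_eq_of_algEquiv (AlgEquiv.ofRingEquiv (f := e) fun c => by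
    show j.residueFieldMap w (f.residueFieldMap (j w) c) = (j ≫ f).residueFieldMap w c
    rw [Scheme.residueFieldMap_comp]
    rfl) g)

theorem finsum_mem_preimage_eq {W : Scheme.{u}} (j : W ⟶ X) (hj : Function.Injective j) (F : X → ℤ) (S : Set X)
    (h : ∀ x ∈ S, F x ≠ 0 → x ∈ Set.range j) :
    ∑ᶠ w ∈ j ⁻¹' S, F (j w) = ∑ᶠ x ∈ S, F x := by
  rw [← finsum_mem_image (g := j) hj.injOn]
  refine finsum_mem_inter_support_eq' F _ _ fun x hx => ⟨fun hxS => ?_, fun hxS => ?_⟩
  · obtain ⟨w, hw, rfl⟩ := hxS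
    exact hw
  · obtain ⟨w, rfl⟩ := h x hxS hx
    exact ⟨w, hxS, rfl⟩

theorem mapCoeff_divFun_zero (f : X ⟶ Y) [LocallyOfFiniteType f] {δX : X → ℤ} {δY : Y → ℤ}
    (hdY : Cyc.IsDimFun Y δY) {ξ : X} {g : X.residueField ξ} {x : X}
    (hne : Cyc.divFun δX ξ g x * (AlgebraicCycle.mapCoeff f δX δY x : ℤ) ≠ 0) :
    ξ ⤳ x ∧ δX x + 1 = δX ξ ∧ δX x = δY (f x) ∧ f ξ ⤳ f x ∧ δY (f x) ≤ δY (f ξ) := by
  have h1 := left_ne_zero_of_mul hne
  have h2 := right_ne_zero_of_mul hne
  by_cases h : ξ ⤳ x ∧ δX x + 1 = δX ξ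
  swap
  · exact absurd (dif_neg h) h1
  refine ⟨h.1, h.2, by_contra fun hc => h2 ?_, h.1.map f.continuous, delta_le hdY (h.1.map f.continuous)⟩
  rw [AlgebraicCycle.mapCoeff, if_neg (show ¬ δX x = δY (f.base x) from hc)]
  rfl

theorem exists_closure_point (ξ : X) : ∃ (W : Scheme.{u}) (_ : IsIntegral W) (j : W ⟶ X),
    IsClosedImmersion j ∧ j (genericPoint W) = ξ ∧ Set.range j = closure {ξ} := by
  set J := Scheme.IdealSheafData.vanishingIdeal (Closeds.closure {ξ})
  haveI := QCoh.isIntegral_closure_point ξ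
  have hr : Set.range J.subschemeι = closure {ξ} := DimFormula.range_vanishingIdeal _
  obtain ⟨z, hz⟩ : ξ ∈ Set.range J.subschemeι := hr ▸ subset_closure rfl
  have h1 : ξ ⤳ J.subschemeι (genericPoint J.subscheme) :=
    specializes_iff_mem_closure.2 (hr ▸ Set.mem_range_self _)
  have h2 := ((genericPoint_spec J.subscheme).specializes (Set.mem_univ z)).map J.subschemeι.continuous
  rw [hz] at h2
  exact ⟨J.subscheme, inferInstance, J.subschemeι, inferInstance, (h2.antisymm h1).eq, hr⟩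

/-- Push-forward of a principal divisor when the residue extension at the generic point is finite. -/
theorem map_divFun_of_eq (f : X ⟶ Y) [IsProper f] [IsLocallyNoetherian X] [IsLocallyNoetherian Y]
    {δX : X → ℤ} {δY : Y → ℤ} (hdX : Cyc.IsDimFun X δX) (hdY : Cyc.IsDimFun Y δY) (hδ : Cyc.DeltaCompat f δX δY)
    {ξ : X} (hξ : δX ξ = δY (f ξ)) {g : X.residueField ξ} (hg : g ≠ 0) (y : Y) :
    ∑ᶠ x ∈ f ⁻¹' {y}, Cyc.divFun δX ξ g x * (AlgebraicCycle.mapCoeff f δX δY x : ℤ) =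
      Cyc.divFun δY (f ξ) (Cyc.normGen f ξ g) y := by
  by_cases hy : f ξ ⤳ y ∧ δY y + 1 = δY (f ξ)
  swap
  · rw [Cyc.divFun, dif_neg hy]
    refine finsum_mem_eq_zero_of_forall_eq_zero fun x hx => by_contra fun hne => hy ?_
    obtain ⟨-, h2, h3, h4, -⟩ := mapCoeff_divFun_zero f hdY hne
    rw [show f x = y from hx] at h3 h4
    exact ⟨h4, by omega⟩
  rw [divFun_eq δY _ hy.1 hy.2]
  obtain ⟨W, hW, j, hjc, hj, hr⟩ := exists_closure_point ξ
  subst hj
  obtain ⟨η, hη⟩ : ∃ η, η = genericPoint W := ⟨_, rfl⟩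
  revert g hg hξ hy hr
  rw [← hη]
  intro hξ g hg hy hr
  haveI : IsLocallyNoetherian W := LocallyOfFiniteType.isLocallyNoetherian j
  have hd := isDimFun_closedImmersion j hdX
  have hδ' := deltaCompat_closedImmersion_comp j f hδ
  have hfin : ((j ≫ f).residueFieldMap η).hom.Finite := by
    refine finite_residueFieldMap_of_rd_eq_zero _ _ ?_
    have h := deltaCompat_eq (j ≫ f) hδ' η
    have h' : δX (j η) = δY ((j ≫ f) η) + FibDim.rd (j ≫ f) η := h
    rw [Scheme.Hom.comp_apply] at h'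
    omega
  have hcd : DimFormula.cd ((j ≫ f) η) y = 1 := by
    have := cd_eq hdY hy.1
    rw [Scheme.Hom.comp_apply]
    omega
  obtain ⟨V, hyV, hVf⟩ := exists_isFinite_morphismRestrict_of_finite_preimage_singleton (j ≫ f) y
    (finite_fibre_of_cd_one (j ≫ f) (hη ▸ hfin) (hη ▸ hcd))
  obtain ⟨V', hV', hyV', hle⟩ := exists_isAffineOpen_mem_and_subset (x := y) (U := V) hyV
  haveI : IsFinite ((j ≫ f) ∣_ V') := by
    have := IsZariskiLocalAtTarget.restrict (P := @IsFinite) hVf (V.ι ⁻¹ᵁ V')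
    refine (MorphismProperty.arrow_mk_iso_iff @IsFinite (morphismRestrictEq (j ≫ f) ?_)).1
      ((MorphismProperty.arrow_mk_iso_iff @IsFinite (morphismRestrictRestrict (j ≫ f) V (V.ι ⁻¹ᵁ V'))).1 this)
    rw [Scheme.Hom.image_preimage_eq_opensRange_inf, Scheme.Opens.opensRange_ι, inf_eq_right.2 (show V' ≤ V from hle)]
  have hg' : j.residueFieldMap η g ≠ 0 := fun h => hg ((residueFieldMap_bijective j η).1 (h.trans (map_zero _).symm))
  have key := sum_divFun_eq_ordAt_norm (j ≫ f) hd hdY hδ' (ξ := η) hξ (y := y) hy.1 hy.2 hV' hyV' hg'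
  rw [normGen_preimmersion_comp] at key
  refine Eq.trans ?_ key
  rw [← finsum_mem_preimage_eq j j.isClosedEmbedding.injective
    (fun x => Cyc.divFun δX (j η) g x * (AlgebraicCycle.mapCoeff f δX δY x : ℤ)) (f ⁻¹' {y}) fun x _ hne => by
      rw [hr]
      exact specializes_iff_mem_closure.1 (mapCoeff_divFun_zero f hdY hne).1]
  refine finsum_mem_congr rfl fun w _ => ?_
  rw [divFun_preimmersion j 0 (fun z => (add_zero _).symm)]
  congr 2
  show (if δX (j w) = δY (f (j w)) then f.residueDegree (j w) else 0) = if δX (j w) = δY ((j ≫ f) w) then (j ≫ f).residueDegree w else 0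
  rw [residueDegree_comp, residueDegree_preimmersion j, mul_one]
  rfl

end Groth.Agent.CycLib
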