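import Groth.Agent.CycLib.Envelope

/-! Cycles and closed immersions. -/

set_option autoImplicit false

universe u

open AlgebraicGeometry CategoryTheory TopologicalSpace

namespace Groth.Agent.CycLib

variable {X W : Scheme.{u}}

theorem map_preimmersion_apply (j : W ⟶ X) [IsPreimmersion j] [QuasiCompact j] (δ : X → ℤ) (c : AlgebraicCycle W ℤ)
    (w : W) : AlgebraicCycle.map j (fun x => δ (j x)) δ c (j w) = c w := by
  rw [map_apply', show j ⁻¹' {j w} = {w} from Set.ext fun a => j.isEmbedding.injective.eq_iff, finsum_mem_singleton,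
    AlgebraicCycle.mapCoeff, if_pos rfl, residueDegree_preimmersion, Nat.cast_one, mul_one]

theorem map_apply_not_range (j : W ⟶ X) [QuasiCompact j] (δW : W → ℤ) (δ : X → ℤ) (c : AlgebraicCycle W ℤ) {x : X}
    (hx : x ∉ Set.range j) : AlgebraicCycle.map j δW δ c x = 0 := by
  rw [map_apply', show j ⁻¹' {x} = ∅ from Set.eq_empty_of_forall_notMem fun a ha => hx ⟨a, ha⟩, finsum_mem_empty]

/-- Restriction of a cycle along an injective morphism. -/
noncomputable def restrictCycle (j : W ⟶ X) (hj : Function.Injective j) (c : AlgebraicCycle X ℤ) :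
    AlgebraicCycle W ℤ where
  toFun w := c (j w)
  supportWithinDomain' := fun _ _ => trivial
  supportLocallyFiniteWithinDomain' := fun w _ => by
    obtain ⟨U, hU, hw, -⟩ := exists_isAffineOpen_mem_and_subset (x := j w) (U := ⊤) trivial
    exact ⟨j ⁻¹' (U : Set X), (j ⁻¹ᵁ U).2.mem_nhds hw,
      ((finite_support_inter_affine c hU).preimage hj.injOn).subset fun a ha => ⟨ha.1, ha.2⟩⟩

theorem restrictCycle_apply (j : W ⟶ X) (hj : Function.Injective j) (c : AlgebraicCycle X ℤ) (w : W) :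
    restrictCycle j hj c w = c (j w) := rfl

theorem exists_sumDiv_preimmersion (j : W ⟶ X) [IsPreimmersion j] [IsLocallyNoetherian W] [IsLocallyNoetherian X]
    {δ : X → ℤ} (hd : Cyc.IsDimFun W (fun w => δ (j w))) {ι : Type*} (ξ : ι → X)
    (g : (i : ι) → X.residueField (ξ i)) (hg : ∀ i, g i ≠ 0) (hmem : ∀ i, ξ i ∈ Set.range j)
    (hloc : ∀ x : X, ∃ U : Set X, IsOpen U ∧ x ∈ U ∧ {i | (closure {ξ i} ∩ U).Nonempty}.Finite) :
    ∃ (ζ : ι → W) (g' : (i : ι) → W.residueField (ζ i)), (∀ i, j (ζ i) = ξ i) ∧ (∀ i, g' i ≠ 0) ∧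
      (∀ w : W, ∃ U : Set W, IsOpen U ∧ w ∈ U ∧ {i | (closure {ζ i} ∩ U).Nonempty}.Finite) ∧
      ∀ i w, Cyc.divFun (fun w => δ (j w)) (ζ i) (g' i) w = Cyc.divFun δ (ξ i) (g i) (j w) := by
  choose ζ hζ using hmem
  refine ⟨ζ, fun i => j.residueFieldMap (ζ i) ((X.residueFieldCongr (hζ i).symm).hom (g i)), hζ, fun i =>
    (map_ne_zero (j.residueFieldMap (ζ i)).hom).2 ((map_ne_zero (X.residueFieldCongr (hζ i).symm).hom.hom).2 (hg i)),
    fun w => ?_, fun i w => ?_⟩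
  · obtain ⟨U, hUo, hwU, hfin⟩ := hloc (j w)
    refine ⟨j ⁻¹' U, hUo.preimage j.continuous, hwU, hfin.subset ?_⟩
    rintro i ⟨z, hz, hzU⟩
    refine ⟨j z, ?_, hzU⟩
    have := ((specializes_iff_mem_closure.2 hz).map j.continuous).mem_closure
    rwa [hζ] at this
  · rw [divFun_preimmersion j 0 (fun z => (add_zero _).symm), divFun_congr]

theorem ratEquivZero_neg_sumDiv [IsLocallyNoetherian X] {δ : X → ℤ} (hd : Cyc.IsDimFun X δ) {k : ℤ} {ι : Type u}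
    (ξ : ι → X) (f : (i : ι) → X.residueField (ξ i)) (hf : ∀ i, f i ≠ 0) (hξ : ∀ i, δ (ξ i) = k + 1)
    (hloc : ∀ x : X, ∃ U : Set X, IsOpen U ∧ x ∈ U ∧ {i | (closure {ξ i} ∩ U).Nonempty}.Finite) :
    Cyc.RatEquivZero δ k (-sumDiv hd ξ f hf hloc) := by
  refine ⟨ι, ξ, fun i => (f i)⁻¹, hξ, fun i => inv_ne_zero (hf i), hloc, fun x => ?_⟩
  show -(∑ᶠ i, Cyc.divFun δ (ξ i) (f i) x) = _
  rw [← finsum_neg_distrib]
  exact finsum_congr fun i => by rw [divFun_inv hd (hf i)]; rfl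

theorem finsum_split {ι : Type*} {M : Type*} [AddCommMonoid M] (P : ι → Prop) (F : ι → M)
    (hF : (Function.support F).Finite) :
    ∑ᶠ i, F i = (∑ᶠ i : {i // P i}, F i) + ∑ᶠ i : {i // ¬ P i}, F i := by
  have h1 : ∑ᶠ i : {i // P i}, F i = ∑ᶠ i ∈ {i | P i}, F i := finsum_set_coe_eq_finsum_mem {i | P i}
  have h2 : ∑ᶠ i : {i // ¬ P i}, F i = ∑ᶠ i ∈ {i | ¬ P i}, F i := finsum_set_coe_eq_finsum_mem {i | ¬ P i}
  rw [h1, h2, ← finsum_mem_union' (by rw [Set.disjoint_left]; exact fun a ha hb => hb ha)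
    (hF.subset Set.inter_subset_right) (hF.subset Set.inter_subset_right),
    show {i | P i} ∪ {i | ¬ P i} = Set.univ from Set.eq_univ_of_forall fun i => em (P i), finsum_mem_univ]

end Groth.Agent.CycLib

namespace Groth.Agent.CycLib

variable {X : Scheme.{u}}

theorem mayerVietoris {δ : X → ℤ} [IsLocallyNoetherian X] (hdX : Cyc.IsDimFun X δ) {X₁ X₂ Y : Scheme.{u}}
    (i₁ : X₁ ⟶ X) (i₂ : X₂ ⟶ X) [IsClosedImmersion i₁] [IsClosedImmersion i₂]
    (hcov : Set.range ⇑i₁ ∪ Set.range ⇑i₂ = Set.univ) (j₁ : Y ⟶ X₁) (j₂ : Y ⟶ X₂) [IsClosedImmersion j₁]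
    [IsClosedImmersion j₂] (hcomm : ∀ z, i₁ (j₁ z) = i₂ (j₂ z))
    (hY : ∀ x, x ∈ Set.range ⇑i₁ → x ∈ Set.range ⇑i₂ → ∃ z, i₁ (j₁ z) = x) (k : ℤ)
    (α₁ : AlgebraicCycle X₁ ℤ) (α₂ : AlgebraicCycle X₂ ℤ) (h₁ : α₁ ∈ Cyc.Zk X₁ (fun x => δ (i₁ x)) k)
    (h : Cyc.RatEquiv δ k (AlgebraicCycle.map i₁ (fun x => δ (i₁ x)) δ α₁)
      (AlgebraicCycle.map i₂ (fun x => δ (i₂ x)) δ α₂)) :
    ∃ β : AlgebraicCycle Y ℤ, β ∈ Cyc.Zk Y (fun z => δ (i₁ (j₁ z))) k ∧
      Cyc.RatEquiv (fun x => δ (i₁ x)) k α₁ (AlgebraicCycle.map j₁ (fun z => δ (i₁ (j₁ z))) (fun x => δ (i₁ x)) β) ∧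
      Cyc.RatEquiv (fun x => δ (i₂ x)) k α₂ (AlgebraicCycle.map j₂ (fun z => δ (i₁ (j₁ z))) (fun x => δ (i₂ x)) β) := by
  classical
  haveI : IsLocallyNoetherian X₁ := LocallyOfFiniteType.isLocallyNoetherian i₁
  haveI : IsLocallyNoetherian X₂ := LocallyOfFiniteType.isLocallyNoetherian i₂
  have hd1 := isDimFun_closedImmersion i₁ hdX
  have hd2 := isDimFun_closedImmersion i₂ hdX
  obtain ⟨ι, ξ, g, hξ, hg, hloc, hsum⟩ := h
  let P : ι → Prop := fun i => ξ i ∈ Set.range ⇑i₁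
  have hlocP : ∀ (Q : ι → Prop) (x : X),
      ∃ U : Set X, IsOpen U ∧ x ∈ U ∧ {i : {i // Q i} | (closure {ξ i.1} ∩ U).Nonempty}.Finite := fun Q x => by
    obtain ⟨U, hUo, hxU, hfin⟩ := hloc x
    exact ⟨U, hUo, hxU, Set.Finite.subset (hfin.preimage (f := Subtype.val (p := Q)) Subtype.val_injective.injOn)
      fun i hi => hi⟩
  obtain ⟨ζ₁, g₁, hζ₁, hg₁, hloc₁, hdiv₁⟩ := exists_sumDiv_preimmersion i₁ (δ := δ) hd1
    (fun i : {i // P i} => ξ i.1) (fun i => g i.1) (fun i => hg i.1) (fun i => i.2) (hlocP P)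
  obtain ⟨ζ₂, g₂, hζ₂, hg₂, hloc₂, hdiv₂⟩ := exists_sumDiv_preimmersion i₂ (δ := δ) hd2
    (fun i : {i // ¬ P i} => ξ i.1) (fun i => g i.1) (fun i => hg i.1)
    (fun i => ((Set.mem_union _ _ _).1 (hcov.symm ▸ Set.mem_univ (ξ i.1))).resolve_left i.2) (hlocP _)
  let γ₁ := sumDiv hd1 ζ₁ g₁ hg₁ hloc₁
  let γ₂ := sumDiv hd2 ζ₂ g₂ hg₂ hloc₂
  let A := α₁ - γ₁
  let B := α₂ + γ₂
  have hγ₁ : ∀ x, AlgebraicCycle.map i₁ (fun x => δ (i₁ x)) δ γ₁ x =
      ∑ᶠ i : {i // P i}, Cyc.divFun δ (ξ i.1) (g i.1) x := fun x => by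
    by_cases hx : x ∈ Set.range ⇑i₁
    · obtain ⟨w, rfl⟩ := hx
      rw [map_preimmersion_apply]
      exact finsum_congr fun i => hdiv₁ i w
    · rw [map_apply_not_range i₁ _ _ _ hx]
      refine (finsum_eq_zero_of_forall_eq_zero fun i => ?_).symm
      exact divFun_eq_zero_of_not_specializes δ _ fun hs =>
        hx (hs.mem_closed i₁.isClosedEmbedding.isClosed_range i.2)
  have hγ₂ : ∀ x, AlgebraicCycle.map i₂ (fun x => δ (i₂ x)) δ γ₂ x =
      ∑ᶠ i : {i // ¬ P i}, Cyc.divFun δ (ξ i.1) (g i.1) x := fun x => by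
    by_cases hx : x ∈ Set.range ⇑i₂
    · obtain ⟨w, rfl⟩ := hx
      rw [map_preimmersion_apply]
      exact finsum_congr fun i => hdiv₂ i w
    · rw [map_apply_not_range i₂ _ _ _ hx]
      refine (finsum_eq_zero_of_forall_eq_zero fun i => ?_).symm
      exact divFun_eq_zero_of_not_specializes δ _ fun hs =>
        hx (hs.mem_closed i₂.isClosedEmbedding.isClosed_range ⟨ζ₂ i, hζ₂ i⟩)
  have hAB : ∀ x, AlgebraicCycle.map i₁ (fun x => δ (i₁ x)) δ A x =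
      AlgebraicCycle.map i₂ (fun x => δ (i₂ x)) δ B x := fun x => by
    have h3 := hsum x
    rw [finsum_split P _ (finite_index ξ g hloc x), ← hγ₁, ← hγ₂,
      Function.locallyFinsuppWithin.coe_sub, Pi.sub_apply] at h3
    have hB : AlgebraicCycle.map i₂ (fun x => δ (i₂ x)) δ B x =
        AlgebraicCycle.map i₂ (fun x => δ (i₂ x)) δ α₂ x + AlgebraicCycle.map i₂ (fun x => δ (i₂ x)) δ γ₂ x := by
      have e := DFunLike.congr_fun (map_sub' i₂ (fun x => δ (i₂ x)) δ B γ₂) x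
      rw [show B - γ₂ = α₂ from add_sub_cancel_right _ _, Function.locallyFinsuppWithin.coe_sub, Pi.sub_apply] at e
      omega
    rw [hB, map_sub', Function.locallyFinsuppWithin.coe_sub, Pi.sub_apply]
    omega
  have hzero : ∀ w, δ (i₁ w) ≠ k → γ₁ w = 0 := fun w hw =>
    finsum_eq_zero_of_forall_eq_zero fun i => divFun_eq_zero_of_delta _ _ (by
      show δ (i₁ w) + 1 ≠ δ (i₁ (ζ₁ i))
      rw [hζ₁, hξ]; omega)
  refine ⟨restrictCycle j₁ j₁.isEmbedding.injective A,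
    fun z hz => ?_, ?_, ?_⟩
  · rw [restrictCycle_apply]
    show (α₁ - γ₁) _ = 0
    rw [Function.locallyFinsuppWithin.coe_sub, Pi.sub_apply, h₁ _ hz, hzero _ hz, sub_zero]
  · have e : AlgebraicCycle.map j₁ (fun z => δ (i₁ (j₁ z))) (fun x => δ (i₁ x))
        (restrictCycle j₁ j₁.isEmbedding.injective A) = A := by
      ext w
      by_cases hw : w ∈ Set.range ⇑j₁
      · obtain ⟨z, rfl⟩ := hw
        rw [map_preimmersion_apply j₁ (fun x => δ (i₁ x))]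
        rfl
      · rw [map_apply_not_range _ _ _ _ hw]
        have h2 : i₁ w ∉ Set.range ⇑i₂ := fun ⟨v, hv⟩ => by
          obtain ⟨z, hz⟩ := hY _ ⟨w, rfl⟩ ⟨v, hv⟩
          exact hw ⟨z, i₁.isEmbedding.injective hz⟩
        have := hAB (i₁ w)
        rw [map_preimmersion_apply, map_apply_not_range i₂ _ _ _ h2] at this
        exact this.symm
    show Cyc.RatEquivZero _ k (α₁ - _)
    rw [e, show α₁ - A = γ₁ from sub_sub_cancel _ _]
    exact ⟨_, ζ₁, g₁, fun i => by show δ (i₁ (ζ₁ i)) = k + 1; rw [hζ₁, hξ], hg₁, hloc₁, fun w => rfl⟩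
  · have hδeq : (fun z => δ (i₁ (j₁ z))) =
        fun z => (fun x => δ (i₂ x)) (j₂ z) := funext fun z => by rw [hcomm]
    have e : AlgebraicCycle.map j₂ (fun z => δ (i₁ (j₁ z))) (fun x => δ (i₂ x))
        (restrictCycle j₁ j₁.isEmbedding.injective A) = B := by
      ext w
      have hw' := hAB (i₂ w)
      rw [map_preimmersion_apply i₂ δ B w] at hw'
      by_cases hw : w ∈ Set.range ⇑j₂
      · obtain ⟨z, rfl⟩ := hw
        rw [hδeq, map_preimmersion_apply j₂ (fun x => δ (i₂ x))]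
        rw [← hcomm, map_preimmersion_apply] at hw'
        exact hw'
      · rw [map_apply_not_range _ _ _ _ hw]
        have h2 : i₂ w ∉ Set.range ⇑i₁ := fun ⟨v, hv⟩ => by
          obtain ⟨z, hz⟩ := hY _ ⟨v, hv⟩ ⟨w, rfl⟩
          exact hw ⟨z, i₂.isEmbedding.injective ((hcomm z).symm.trans hz)⟩
        rw [map_apply_not_range i₁ _ _ _ h2] at hw'
        exact hw'
    show Cyc.RatEquivZero _ k (α₂ - _)
    rw [e, show α₂ - B = -γ₂ from sub_add_cancel_left _ _]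
    exact ratEquivZero_neg_sumDiv hd2 ζ₂ g₂ hg₂
      (fun i => by show δ (i₂ (ζ₂ i)) = k + 1; rw [hζ₂, hξ]) hloc₂

theorem map_neg' {W : Scheme.{u}} (f : W ⟶ X) [QuasiCompact f] (δW : W → ℤ) (δ : X → ℤ) (a : AlgebraicCycle W ℤ) :
    AlgebraicCycle.map f δW δ (-a) = -AlgebraicCycle.map f δW δ a := by
  have h0 : AlgebraicCycle.map f δW δ (0 : AlgebraicCycle W ℤ) = 0 := by
    rw [show (0 : AlgebraicCycle W ℤ) = a - a from (sub_self a).symm, map_sub', sub_self]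
  rw [show -a = 0 - a from (zero_sub a).symm, map_sub', h0, zero_sub]

theorem exists_split_two {δ : X → ℤ} {X₁ X₂ : Scheme.{u}}
    (i₁ : X₁ ⟶ X) (i₂ : X₂ ⟶ X) [IsClosedImmersion i₁] [IsClosedImmersion i₂]
    (hcov : Set.range ⇑i₁ ∪ Set.range ⇑i₂ = Set.univ) (k : ℤ) (α : AlgebraicCycle X ℤ) (hα : α ∈ Cyc.Zk X δ k) :
    ∃ (α₁ : AlgebraicCycle X₁ ℤ) (α₂ : AlgebraicCycle X₂ ℤ),
      α₁ ∈ Cyc.Zk X₁ (fun x => δ (i₁ x)) k ∧ α₂ ∈ Cyc.Zk X₂ (fun x => δ (i₂ x)) k ∧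
      α = AlgebraicCycle.map i₁ (fun x => δ (i₁ x)) δ α₁ + AlgebraicCycle.map i₂ (fun x => δ (i₂ x)) δ α₂ := by
  classical
  let α₁ := restrictCycle i₁ i₁.isEmbedding.injective α
  let r := α - AlgebraicCycle.map i₁ (fun x => δ (i₁ x)) δ α₁
  let α₂ := restrictCycle i₂ i₂.isEmbedding.injective r
  have hr : ∀ x, x ∈ Set.range ⇑i₁ → r x = 0 := by
    rintro _ ⟨w, rfl⟩
    show (α - _) _ = 0
    rw [Function.locallyFinsuppWithin.coe_sub, Pi.sub_apply, map_preimmersion_apply]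
    exact sub_self _
  refine ⟨α₁, α₂, fun w hw => hα _ hw, fun w hw => ?_, ?_⟩
  · show r (i₂ w) = 0
    by_cases h : i₂ w ∈ Set.range ⇑i₁
    · exact hr _ h
    · show (α - _) _ = 0
      rw [Function.locallyFinsuppWithin.coe_sub, Pi.sub_apply, map_apply_not_range _ _ _ _ h, hα _ hw, sub_zero]
  · have : AlgebraicCycle.map i₂ (fun x => δ (i₂ x)) δ α₂ = r := by
      ext x
      by_cases h : x ∈ Set.range ⇑i₂
      · obtain ⟨w, rfl⟩ := h
        rw [map_preimmersion_apply]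
        rfl
      · rw [map_apply_not_range _ _ _ _ h]
        exact (hr x (((Set.mem_union _ _ _).1 (hcov.symm ▸ Set.mem_univ x)).resolve_right h)).symm
    rw [this]
    exact (add_sub_cancel _ _).symm

end Groth.Agent.CycLib
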