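import Groth.Agent.CycLib.Dim1Mod
import Groth.Agent.IntThLib.Dim1
import Mathlib.RingTheory.OrderOfVanishing.Basic

/-! `length M/xM - length M[x]` for a module of dimension at most one. -/

set_option linter.unusedSectionVars false

namespace Groth.Agent.CycLib

open IntThLib IsLocalRing

universe u

variable {R : Type u} [CommRing R] [IsNoetherianRing R] [IsLocalRing R]

open scoped Pointwise in
theorem range_lsmul {M : Type u} [AddCommGroup M] [Module R M] (x : R) :
    LinearMap.range (LinearMap.lsmul R M x) = x • (⊤ : Submodule R M) := by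
  rw [LinearMap.range_eq_map]
  rfl

theorem ord_eq_length (p : Ideal R) (x : R) :
    Ring.ord (R ⧸ p) (Ideal.Quotient.mk p x) = Module.length R (R ⧸ (p ⊔ Ideal.span {x})) := by
  rw [Ring.ord, ← Module.length_eq_of_surjective (S := R) (R := R ⧸ p) Ideal.Quotient.mk_surjective]
  have h : Ideal.span {Ideal.Quotient.mk p x} = (p ⊔ Ideal.span {x}).map (Ideal.Quotient.mk p) := by
    rw [Ideal.map_sup, Ideal.map_quotient_self, bot_sup_eq, Ideal.map_span, Set.image_singleton]
  rw [h]
  exact (DoubleQuot.quotQuotEquivQuotOfLEₐ R (le_sup_left : p ≤ p ⊔ Ideal.span {x})).toLinearEquiv.length_eq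

variable {M : Type u} [AddCommGroup M] [Module R M] [Module.Finite R M]

theorem eq_of_le_of_ne_max (h1 : Module.supportDim R M ≤ 1) {p q : PrimeSpectrum R}
    (hq : q ∈ Module.support R M) (hqp : q ≤ p) (hp : p.asIdeal ≠ maximalIdeal R) : q = p := by
  have hpM := Module.mem_support_mono hqp hq
  have hlt : (⟨p, hpM⟩ : Module.support R M) <
      ⟨closedPoint R, Module.mem_support_mono (le_maximalIdeal p.2.ne_top) hpM⟩ :=
    lt_of_le_of_ne (le_maximalIdeal p.2.ne_top) fun h => hp (congrArg (fun z => (Subtype.val z).asIdeal) h)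
  have hmin : IsMin (⟨p, hpM⟩ : Module.support R M) :=
    ((Order.krullDim_le_one_iff (α := Module.support R M)).mp h1 _).resolve_right hlt.not_isMax
  exact le_antisymm hqp (hmin (b := ⟨q, hq⟩) hqp)

theorem finite_support_ne_max (h1 : Module.supportDim R M ≤ 1) :
    {p : PrimeSpectrum R | p ∈ Module.support R M ∧ p.asIdeal ≠ maximalIdeal R}.Finite := by
  refine (((Module.annihilator R M).finite_minimalPrimes_of_isNoetherianRing R).preimage
    (f := PrimeSpectrum.asIdeal) fun _ _ _ _ h => PrimeSpectrum.ext h).subset fun p hp => ?_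
  refine ⟨⟨p.2, Module.annihilator_le_of_mem_support hp.1⟩, fun J hJ hJp => ?_⟩
  have hJM : (⟨J, hJ.1⟩ : PrimeSpectrum R) ∈ Module.support R M := by
    rw [Module.support_eq_zeroLocus]
    exact hJ.2
  exact (congrArg PrimeSpectrum.asIdeal (eq_of_le_of_ne_max h1 hJM hJp hp.2)).ge

theorem notMem_of_support (x : R) (hx : Module.support R (M ⧸ LinearMap.range (LinearMap.lsmul R M x)) ⊆
    {closedPoint R}) {p : PrimeSpectrum R} (hpM : p ∈ Module.support R M)
    (hp : p.asIdeal ≠ maximalIdeal R) : x ∉ p.asIdeal := fun hxp => hp (congrArg PrimeSpectrum.asIdeal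
  (hx (by
    rw [show Module.support R (M ⧸ LinearMap.range (LinearMap.lsmul R M x)) = _ from
      (Submodule.quotEquivOfEq _ _ (range_lsmul x)).support_eq.trans (Module.support_quotSMulTop x)]
    exact ⟨hpM, by simpa [PrimeSpectrum.mem_zeroLocus] using hxp⟩)))

theorem euler_dim_one (h1 : Module.supportDim R M ≤ 1) (x : R)
    (hx : Module.support R (M ⧸ LinearMap.range (LinearMap.lsmul R M x)) ⊆ {closedPoint R})
    (s : Finset (PrimeSpectrum R))
    (hs : ∀ p, p ∈ s ↔ p ∈ Module.support R M ∧ p.asIdeal ≠ maximalIdeal R) :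
    ∀ (N : Type u) [AddCommGroup N] [Module R N] [Module.Finite R N], Module.support R N ⊆ Module.support R M →
      EulerFin (LinearMap.lsmul R N x) ∧ eul (LinearMap.lsmul R N x) =
        ∑ p ∈ s, ((Module.length (Localization.AtPrime p.asIdeal)
            (LocalizedModule p.asIdeal.primeCompl N)).toNat : ℤ) *
          ((Module.length R (R ⧸ (p.asIdeal ⊔ Ideal.span {x}))).toNat : ℤ) := by
  classical
  intro N _ _ hN
  have hfinloc : ∀ (N : Type u) [AddCommGroup N] [Module R N] [Module.Finite R N],
      Module.support R N ⊆ Module.support R M → ∀ p ∈ s,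
        Module.length (Localization.AtPrime p.asIdeal) (LocalizedModule p.asIdeal.primeCompl N) ≠ ⊤ :=
    fun N _ _ _ hN p hp => length_localized_ne_top_of_minimal p fun q hq hle =>
      eq_of_le_of_ne_max h1 (hN hq) hle ((hs p).mp hp).2
  refine IsNoetherianRing.induction_on_isQuotientEquivQuotientPrime (A := R) (M := N) hN
    (motive := fun N _ _ _ => Module.support R N ⊆ Module.support R M →
      EulerFin (LinearMap.lsmul R N x) ∧ eul (LinearMap.lsmul R N x) =
        ∑ p ∈ s, ((Module.length (Localization.AtPrime p.asIdeal)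
            (LocalizedModule p.asIdeal.primeCompl N)).toNat : ℤ) *
          ((Module.length R (R ⧸ (p.asIdeal ⊔ Ideal.span {x}))).toNat : ℤ)) ?_ ?_ ?_
  · intro N _ _ _ _ _
    have h0 : Module.length R N ≠ ⊤ := by simp [Module.length_eq_zero]
    refine ⟨(euler_of_finite_length _ h0).1, ?_⟩
    rw [(euler_of_finite_length _ h0).2]
    symm
    refine Finset.sum_eq_zero fun p _ => ?_
    simp
  · intro N _ _ _ q e hsupp
    have hqM : q ∈ Module.support R M := hsupp (by
      rw [e.support_eq, Module.support_eq_zeroLocus, Ideal.annihilator_quotient]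
      exact fun _ h => h)
    have hloc : ∀ p : PrimeSpectrum R,
        Module.length (Localization.AtPrime p.asIdeal) (LocalizedModule p.asIdeal.primeCompl N) =
          Module.length (Localization.AtPrime p.asIdeal)
            (LocalizedModule p.asIdeal.primeCompl (R ⧸ q.asIdeal)) :=
      fun p => length_localized_equiv _ e
    simp_rw [hloc]
    by_cases hq : q.asIdeal = maximalIdeal R
    · have h0 : Module.length R N ≠ ⊤ := by
        refine length_ne_top_of_support fun p hp => ?_
        rw [e.support_eq, Module.support_eq_zeroLocus, Ideal.annihilator_quotient, PrimeSpectrum.mem_zeroLocus,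
          SetLike.coe_subset_coe, hq] at hp
        exact le_antisymm (le_maximalIdeal p.2.ne_top) hp
      refine ⟨(euler_of_finite_length _ h0).1, ?_⟩
      rw [(euler_of_finite_length _ h0).2]
      symm
      refine Finset.sum_eq_zero fun p hp => ?_
      rw [length_localized_eq_zero p.asIdeal q.asIdeal fun hle => ((hs p).mp hp).2
        (le_antisymm (le_maximalIdeal p.2.ne_top) (hq ▸ hle))]
      simp
    · have haq := notMem_of_support x hx hqM hq
      have hinj : Function.Injective (LinearMap.lsmul R (R ⧸ q.asIdeal) x) := fun a b h => by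
        simp only [LinearMap.lsmul_apply, Algebra.smul_def, Ideal.Quotient.algebraMap_eq] at h
        exact mul_left_cancel₀ (mt Ideal.Quotient.eq_zero_iff_mem.mp haq) h
      have hc : Module.length R ((R ⧸ q.asIdeal) ⧸ LinearMap.range (LinearMap.lsmul R (R ⧸ q.asIdeal) x)) =
          Module.length R (R ⧸ (q.asIdeal ⊔ Ideal.span {x})) := by
        rw [← ord_eq_length, Ring.ord,
          ← Module.length_eq_of_surjective (S := R) (R := R ⧸ q.asIdeal) Ideal.Quotient.mk_surjective]
        refine (Submodule.quotEquivOfEq _ ((Ideal.span {Ideal.Quotient.mk q.asIdeal x}).restrictScalars R) ?_).length_eq.trans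
          (Submodule.Quotient.restrictScalarsEquiv R _).length_eq
        ext z
        rw [LinearMap.mem_range, Submodule.restrictScalars_mem, Ideal.mem_span_singleton']
        exact exists_congr fun y => by
          rw [LinearMap.lsmul_apply, Algebra.smul_def, Ideal.Quotient.algebraMap_eq, mul_comm]
      have hfin : Module.length R (R ⧸ (q.asIdeal ⊔ Ideal.span {x})) ≠ ⊤ := by
        refine length_ne_top_of_support fun p hp => ?_
        rw [Module.support_eq_zeroLocus, Ideal.annihilator_quotient, PrimeSpectrum.mem_zeroLocus,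
          SetLike.coe_subset_coe, sup_le_iff, Ideal.span_le, Set.singleton_subset_iff] at hp
        refine PrimeSpectrum.ext (not_not.mp fun hp' => ?_)
        exact notMem_of_support x hx (Module.mem_support_mono hp.1 hqM) hp' hp.2
      have hf : EulerFin (LinearMap.lsmul R (R ⧸ q.asIdeal) x) :=
        ⟨by rw [hc]; exact hfin, by rw [(eul_of_injective _ hinj).2]; simp⟩
      obtain ⟨u1, u2⟩ := euler_of_equiv e (LinearMap.lsmul R N x)
        (LinearMap.lsmul R (R ⧸ q.asIdeal) x) (LinearMap.ext fun v => map_smul e x v) hf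
      refine ⟨u1, ?_⟩
      rw [u2, (eul_of_injective _ hinj).1, hc, Finset.sum_eq_single q]
      · rw [length_localized_self]
        simp
      · intro p hp hpq
        rw [length_localized_eq_zero p.asIdeal q.asIdeal fun hle => hpq
          (eq_of_le_of_ne_max h1 hqM hle ((hs p).mp hp).2).symm]
        simp
      · exact fun h => absurd ((hs q).mpr ⟨hqM, hq⟩) h
  · intro N₁ _ _ _ N₂ _ _ _ N₃ _ _ _ i π hi hπ hex k₁ k₃ hsupp
    have hs1 := (Module.support_subset_of_injective i hi).trans hsupp
    have hs3 := (Module.support_subset_of_surjective π hπ).trans hsupp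
    obtain ⟨a1, c1⟩ := k₁ hs1
    obtain ⟨a3, c3⟩ := k₃ hs3
    obtain ⟨a2, a2'⟩ := euler_additive hi hπ hex
      (f' := LinearMap.lsmul R N₁ x) (f := LinearMap.lsmul R N₂ x) (f'' := LinearMap.lsmul R N₃ x)
      (LinearMap.ext fun v => map_smul i x v) (LinearMap.ext fun v => map_smul π x v) a1 a3
    refine ⟨a2, ?_⟩
    rw [a2', c1, c3, ← Finset.sum_add_distrib]
    refine Finset.sum_congr rfl fun p hp => ?_
    have := Module.length_eq_add_of_exact (LocalizedModule.map p.asIdeal.primeCompl i)
      (LocalizedModule.map p.asIdeal.primeCompl π)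
      (LocalizedModule.map_injective _ _ hi) (LocalizedModule.map_surjective _ _ hπ)
      (LocalizedModule.map_exact _ _ _ hex)
    rw [this, ENat.toNat_add (hfinloc N₁ hs1 p hp) (hfinloc N₃ hs3 p hp)]
    push_cast
    ring

open scoped Pointwise in
theorem length_quot_smul (x : R) (h1 : Module.supportDim R M ≤ 1)
    (h0 : Module.supportDim R (M ⧸ x • (⊤ : Submodule R M)) ≤ 0) :
    Module.length R (M ⧸ x • (⊤ : Submodule R M)) = Module.length R (LinearMap.ker (LinearMap.lsmul R M x)) +
      ∑ᶠ (p : PrimeSpectrum R) (_ : p ∈ Module.support R M ∧ p.asIdeal ≠ maximalIdeal R),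
        Ring.ord (R ⧸ p.asIdeal) (Ideal.Quotient.mk p.asIdeal x) *
          Module.length (Localization.AtPrime p.asIdeal) (LocalizedModule p.asIdeal.primeCompl M) := by
  classical
  let e := Submodule.quotEquivOfEq _ _ (range_lsmul (M := M) x)
  have hx : Module.support R (M ⧸ LinearMap.range (LinearMap.lsmul R M x)) ⊆ {closedPoint R} := by
    rw [e.support_eq]
    exact support_subset_of_supportDim_le_zero h0
  let s := (finite_support_ne_max h1).toFinset
  have hs : ∀ p, p ∈ s ↔ p ∈ Module.support R M ∧ p.asIdeal ≠ maximalIdeal R := fun p =>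
    (finite_support_ne_max h1).mem_toFinset
  obtain ⟨hf, heq⟩ := euler_dim_one h1 x hx s hs M subset_rfl
  rw [← e.length_eq, finsum_cond_eq_sum_of_cond_iff
    (f := fun p : PrimeSpectrum R => Ring.ord (R ⧸ p.asIdeal) (Ideal.Quotient.mk p.asIdeal x) *
      Module.length (Localization.AtPrime p.asIdeal) (LocalizedModule p.asIdeal.primeCompl M))
    (t := s) (fun {p} _ => (hs p).symm)]
  have hterm : ∀ p ∈ s, Ring.ord (R ⧸ p.asIdeal) (Ideal.Quotient.mk p.asIdeal x) *
      Module.length (Localization.AtPrime p.asIdeal) (LocalizedModule p.asIdeal.primeCompl M) =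
      (((Module.length (Localization.AtPrime p.asIdeal) (LocalizedModule p.asIdeal.primeCompl M)).toNat *
        (Module.length R (R ⧸ (p.asIdeal ⊔ Ideal.span {x}))).toNat : ℕ) : ℕ∞) := fun p hp => by
    rw [ord_eq_length, Nat.cast_mul, ENat.natCast_toNat (length_localized_ne_top_of_minimal p fun q hq hle =>
      eq_of_le_of_ne_max h1 hq hle ((hs p).mp hp).2), ENat.natCast_toNat, mul_comm]
    refine length_ne_top_of_support fun q hq => ?_
    rw [Module.support_eq_zeroLocus, Ideal.annihilator_quotient, PrimeSpectrum.mem_zeroLocus,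
      SetLike.coe_subset_coe, sup_le_iff, Ideal.span_le, Set.singleton_subset_iff] at hq
    refine PrimeSpectrum.ext (not_not.mp fun hq' => ?_)
    exact notMem_of_support x hx (Module.mem_support_mono hq.1 ((hs p).mp hp).1) hq' hq.2
  rw [Finset.sum_congr rfl hterm, ← Nat.cast_sum, ← ENat.natCast_toNat hf.1,
    ← ENat.natCast_toNat hf.2, ← Nat.cast_add]
  congr 1
  rw [eul] at heq
  zify
  linarith

end Groth.Agent.CycLib
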