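import Groth.Agent.CycLib.P1Deg
import Groth.Agent.CycLib.DivPushProper
import Groth.Agent.CycLib.Pull

/-! Principal divisors on a proper curve have degree zero. -/

set_option autoImplicit false

universe u

open AlgebraicGeometry CategoryTheory TopologicalSpace Polynomial Limits

namespace Groth.Agent.CycLib

variable {K : Type u} [Field K] {L : Type u} [Field L]

theorem chart_coord_at {P : Scheme.{u}} (j : Fin (1 + 1) → (Spec (CommRingCat.of K[X]) ⟶ P))
    [∀ i, IsOpenImmersion (j i)] (φ : Spec (CommRingCat.of (RF K)) ⟶ P)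
    (hφ : ∀ i, φ = Spec.map (CommRingCat.ofHom (alpha K i)) ≫ j i) (t : P.residueField (φ (pt (RF K))))
    (ht : ptHom φ t = tF K) {z : Spec (CommRingCat.of K[X])} (hz : z = gen K 0) (h : j 0 z = φ (pt (RF K))) :
    (j 0).residueFieldMap z ((P.residueFieldCongr h).inv t) = evalAt K z X := by
  subst hz
  rw [chart_coord j φ hφ 0 t ht h, if_pos rfl]

theorem ptHom_transfer {Z : Scheme.{u}} {ψ ψ' : Spec (CommRingCat.of L) ⟶ Z} (e : ψ = ψ') {z : Z}
    (h : ψ (pt L) = z) (h' : ψ' (pt L) = z) (t : Z.residueField z) :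
    ptHom ψ ((Z.residueFieldCongr h).inv t) = ptHom ψ' ((Z.residueFieldCongr h').inv t) := by
  subst e
  rfl

theorem normGen_residueFieldMap {Z W : Scheme.{u}} (q : Z ⟶ W) (z : Z) (a : W.residueField (q z)) :
    ∃ n : ℕ, n = q.residueDegree z ∧ Cyc.normGen q z (q.residueFieldMap z a) = a ^ n := by
  letI := (q.residueFieldMap z).hom.toAlgebra
  exact ⟨_, rfl, Algebra.norm_algebraMap a⟩

theorem divFun_pow {X : Scheme.{u}} [IsLocallyNoetherian X] {δ : X → ℤ} (hd : Cyc.IsDimFun X δ) {ξ : X}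
    {f : X.residueField ξ} (hf : f ≠ 0) (n : ℕ) (x : X) :
    Cyc.divFun δ ξ (f ^ n) x = (n : ℤ) * Cyc.divFun δ ξ f x := by
  induction n with
  | zero =>
    by_cases h : ξ ⤳ x ∧ δ x + 1 = δ ξ
    · rw [divFun_eq δ _ h.1 h.2, pow_zero, ordAt_one hd h.1 h.2]; simp
    · rw [Cyc.divFun, dif_neg h]; simp
  | succ n ih =>
    rw [pow_succ, divFun_mul hd (pow_ne_zero n hf) hf, Pi.add_apply, ih]
    push_cast
    ring

theorem map_congr {X Y : Scheme.{u}} {f g : X ⟶ Y} [QuasiCompact f] [QuasiCompact g] (h : f = g) (δX : X → ℤ)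
    (δY : Y → ℤ) (c : AlgebraicCycle X ℤ) : AlgebraicCycle.map f δX δY c = AlgebraicCycle.map g δX δY c := by
  subst h
  rfl

theorem preimage_pt {T : Scheme.{u}} (c : T ⟶ Spec (CommRingCat.of K)) (z : Spec (CommRingCat.of K)) :
    c ⁻¹' {z} = Set.univ :=
  Set.eq_univ_of_forall fun _ => @Subsingleton.elim _ (FibDim.subsingleton_spec_field K) _ _

theorem mapCoeff_point {T : Scheme.{u}} (c : T ⟶ Spec (CommRingCat.of K)) {δ : T → ℤ} (x : T) :
    AlgebraicCycle.mapCoeff c δ (fun _ => (0 : ℤ)) x = if δ x = 0 then c.residueDegree x else 0 := rfl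

theorem deltaCompat_rd {T : Scheme.{u}} (c : T ⟶ Spec (CommRingCat.of K)) [LocallyOfFiniteType c] :
    Cyc.DeltaCompat c (fun x => (FibDim.rd c x : ℤ)) (fun _ => (0 : ℤ)) :=
  fun x => ⟨FibDim.rd c x, (FibDim.rd_eq_rdeg c x).symm, (zero_add _).symm⟩

theorem deltaCompat_of_comp {Z T : Scheme.{u}} (p : Z ⟶ T) [LocallyOfFiniteType p] (c : T ⟶ Spec (CommRingCat.of K))
    [LocallyOfFiniteType c] {δT : T → ℤ} (hδT : Cyc.DeltaCompat c δT (fun _ => 0)) (s : Z ⟶ Spec (CommRingCat.of K))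
    (hs : s = p ≫ c) [LocallyOfFiniteType s] :
    Cyc.DeltaCompat p (fun z => (FibDim.rd s z : ℤ)) δT := fun z => by
  subst hs
  exact ⟨FibDim.rd p z, (FibDim.rd_eq_rdeg p z).symm, by
    show ((FibDim.rd (p ≫ c) z : ℕ) : ℤ) = _
    rw [deltaCompat_eq c hδT, rd_comp]; push_cast; ring⟩

/-- Transcendental functions: comparison with the projective line. -/
theorem sum_eq_zero_core {T Z P : Scheme.{u}} (c : T ⟶ Spec (CommRingCat.of K)) [IsProper c]
    (π : P ⟶ Spec (CommRingCat.of K)) [IsProper π] (j : Fin (1 + 1) → (Spec (CommRingCat.of K[X]) ⟶ P))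
    [∀ i, IsOpenImmersion (j i)] (φ : Spec (CommRingCat.of (RF K)) ⟶ P)
    (hφ : ∀ i, φ = Spec.map (CommRingCat.ofHom (alpha K i)) ≫ j i)
    (hcov : ∀ x : P, ∃ i z, j i z = x) (hπ : ∀ i, j i ≫ π = Spec.map (CommRingCat.ofHom Polynomial.C))
    (p : Z ⟶ T) (q : Z ⟶ P) [IsProper p] [IsProper q] (hpq : p ≫ c = q ≫ π)
    {δ : T → ℤ} (hδ : Cyc.DeltaCompat c δ (fun _ => 0))
    (ψ : Spec (CommRingCat.of L) ⟶ Z) (hsurj : Function.Surjective (ptHom (ψ ≫ p)))
    (e : RF K →+* L) (hq : ψ ≫ q = Spec.map (CommRingCat.ofHom (e.comp (alpha K 0))) ≫ j 0)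
    (h1 : δ (p (ψ (pt L))) = 1) (f : T.residueField (p (ψ (pt L)))) (hf : ptHom (ψ ≫ p) f = e (tF K)) :
    ∑ᶠ x, Cyc.divFun δ (p (ψ (pt L))) f x * (AlgebraicCycle.mapCoeff c δ (fun _ => (0 : ℤ)) x : ℤ) = 0 := by
  haveI : IsLocallyNoetherian T := LocallyOfFiniteType.isLocallyNoetherian c
  haveI : IsLocallyNoetherian P := LocallyOfFiniteType.isLocallyNoetherian π
  haveI : IsLocallyNoetherian Z := LocallyOfFiniteType.isLocallyNoetherian p
  have hS := isSetup_spec_field K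
  have hdT := isDimFun_of_deltaCompat c hS hδ
  let δP : P → ℤ := fun x => (FibDim.rd π x : ℤ)
  have hδP := deltaCompat_rd π
  have hdP := isDimFun_of_deltaCompat π hS hδP
  let δZ : Z → ℤ := fun z => (FibDim.rd (p ≫ c) z : ℤ)
  have hdZ := isDimFun_of_deltaCompat (p ≫ c) hS (deltaCompat_rd (p ≫ c))
  have hδp : Cyc.DeltaCompat p δZ δ := deltaCompat_of_comp p c hδ (p ≫ c) rfl
  have hδq : Cyc.DeltaCompat q δZ δP := deltaCompat_of_comp q π hδP (p ≫ c) hpq
  let g := p.residueFieldMap (ψ (pt L)) f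
  have hf0 : f ≠ 0 := fun h0 => tF_ne_zero K (e.injective ((hf.symm.trans ((congrArg _ h0).trans (map_zero _))).trans (map_zero e).symm))
  have hg0 : g ≠ 0 := (map_ne_zero (p.residueFieldMap (ψ (pt L))).hom).2 hf0
  have hbij : Function.Bijective (p.residueFieldMap (ψ (pt L))) := ⟨RingHom.injective _, fun a => by
    obtain ⟨b, hb⟩ := hsurj (ptHom ψ a)
    exact ⟨b, ptHom_injective ψ ((ptHom_comp ψ p b).symm.trans hb)⟩⟩
  have hpdeg : p.residueDegree (ψ (pt L)) = 1 := by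
    letI := (p.residueFieldMap (ψ (pt L))).hom.toAlgebra
    exact (LinearEquiv.finrank_eq (LinearEquiv.ofBijective (Algebra.linearMap (T.residueField (p (ψ (pt L)))) (Z.residueField (ψ (pt L))))
      hbij)).symm.trans (Module.finrank_self _)
  have hξ : δZ (ψ (pt L)) = δ (p (ψ (pt L))) := by
    have h := deltaCompat_eq p hδp (ψ (pt L))
    rw [rd_eq_zero_of_finite p (ψ (pt L)) (RingHom.Finite.of_surjective _ hbij.2)] at h
    simpa using h
  -- the point of the projective line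
  obtain ⟨t, ht⟩ := exists_coord j φ hφ
  have hz : Spec.map (CommRingCat.ofHom (e.comp (alpha K 0))) (pt L) = gen K 0 := by
    refine PrimeSpectrum.ext ((?_ : _ = (⊥ : Ideal K[X])).trans (asIdeal_gen K 0).symm)
    show Ideal.comap (e.comp (alpha K 0)) (IsLocalRing.maximalIdeal L) = ⊥
    rw [IsLocalRing.maximalIdeal_eq_bot]
    exact Ideal.comap_bot_of_injective _ (e.injective.comp (alpha_injective K 0))
  have hgen : j 0 (Spec.map (CommRingCat.ofHom (e.comp (alpha K 0))) (pt L)) = φ (pt (RF K)) := by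
    rw [hz, hφ 0, Scheme.Hom.comp_apply]
  have hpt : q (ψ (pt L)) = φ (pt (RF K)) := by
    rw [← Scheme.Hom.comp_apply, hq, Scheme.Hom.comp_apply, hgen]
  let t' : P.residueField (q (ψ (pt L))) := (P.residueFieldCongr hpt).inv t
  have hg : g = q.residueFieldMap (ψ (pt L)) t' := by
    refine ptHom_injective ψ ?_
    rw [← ptHom_comp, ← ptHom_comp]
    refine hf.trans ?_
    refine (Eq.trans ?_ (ptHom_transfer hq.symm (z := φ (pt (RF K))) hgen hpt t))
    refine Eq.trans ?_ (ptHom_comp (Spec.map (CommRingCat.ofHom (e.comp (alpha K 0)))) (j 0) _).symm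
    refine Eq.trans ?_ (congrArg (ptHom (Spec.map (CommRingCat.ofHom (e.comp (alpha K 0))))) (chart_coord_at j φ hφ t ht hz hgen)).symm
    rw [ptHom_eval, RingHom.comp_apply, alpha_zero]
  have hgt : δP (φ (pt (RF K))) ≥ 1 := by
    have h2 : j 0 (gen K 0) = φ (pt (RF K)) := by rw [hφ 0, Scheme.Hom.comp_apply]
    have h3 := delta_lt hdP ((gen_specializes K 0 (org K)).map (j 0).continuous)
      ((j 0).isOpenEmbedding.injective.ne (gen_ne_org K 0))
    rw [h2] at h3
    have : (0 : ℤ) ≤ δP (j 0 (org K)) := Int.natCast_nonneg _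
    simp only [δP] at h3 this ⊢
    omega
  have hqξ : δZ (ψ (pt L)) = δP (q (ψ (pt L))) := by
    have := le_of_deltaCompat q hδq (ψ (pt L))
    rw [hpt] at this ⊢
    omega
  have ht0 : t ≠ 0 := fun h0 => tF_ne_zero K (by rw [← ht, h0, map_zero])
  have ht'0 : t' ≠ 0 := fun h0 => hg0 (by rw [hg, h0, map_zero])
  obtain ⟨n, -, hn⟩ := normGen_residueFieldMap q (ψ (pt L)) t'
  obtain ⟨m, hm, hm'⟩ := normGen_residueFieldMap p (ψ (pt L)) f
  rw [hpdeg] at hm
  subst hm
  rw [pow_one] at hm'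
  -- the two push-forwards
  let M := divCycle hdZ (ψ (pt L)) g hg0
  have e1 : ∀ y, AlgebraicCycle.map p δZ δ M y = Cyc.divFun δ (p (ψ (pt L))) f y := fun y => by
    rw [map_apply']
    refine (map_divFun_of_eq p hdZ hdT hδp hξ hg0 y).trans ?_
    rw [hm']
  have e2 : ∀ y, AlgebraicCycle.map q δZ δP M y = (n : ℤ) * Cyc.divFun δP (φ (pt (RF K))) t y := fun y => by
    rw [map_apply']
    refine (map_divFun_of_eq q hdZ hdP hδq hqξ hg0 y).trans ?_
    rw [hg, hn, divFun_pow hdP ht'0]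
    congr 1
    show Cyc.divFun δP (q (ψ (pt L))) ((P.residueFieldCongr hpt).inv t) y = _
    rw [Scheme.residueFieldCongr_inv, divFun_congr]
  have hm1 := map_map p c hδp hδ M
  have hm2 := map_map q π hδq hδP M
  have hz := congrArg (fun C : AlgebraicCycle (Spec (CommRingCat.of K)) ℤ => C (pt K))
    (hm1.trans ((map_congr hpq δZ _ M).trans hm2.symm))
  simp only [map_apply' _ _ _ (AlgebraicCycle.map p δZ δ M), map_apply' _ _ _ (AlgebraicCycle.map q δZ δP M),
    preimage_pt, finsum_mem_univ, e1, e2, mul_assoc] at hz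
  rw [hz, ← mul_finsum (fun x => Cyc.divFun δP (φ (pt (RF K))) t x *
    (AlgebraicCycle.mapCoeff π δP (fun _ => (0 : ℤ)) x : ℤ)) (n : ℤ), sum_coord_eq_zero j φ hφ hcov π hπ hdP hδP t ht, mul_zero]

end Groth.Agent.CycLib
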