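import Groth.Agent.CycLib.FinLen
import Mathlib.RingTheory.Filtration
import Mathlib.Analysis.SpecificLimits.Basic
import Mathlib.RingTheory.Length

/-! Additivity of Samuel multiplicities. -/

set_option autoImplicit false

open Filter Topology Pointwise

namespace Groth.Agent.CycLib

universe u

variable {A : Type u} [CommRing A] [IsNoetherianRing A] [IsLocalRing A]

theorem length_quot_pow_ne_top (I : Ideal A) {n : ℕ} (hI : IsLocalRing.maximalIdeal A ^ n ≤ I) (M : Type u)
    [AddCommGroup M] [Module A M] [Module.Finite A M] (t : ℕ) {N : Submodule A M} (hN : I ^ t • (⊤ : Submodule A M) ≤ N) :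
    Module.length A (M ⧸ N) ≠ ⊤ := by
  refine length_ne_top_of_support fun p hp => ?_
  have h1 : IsLocalRing.maximalIdeal A ^ (n * t) ≤ p.asIdeal := fun r hr =>
    Module.annihilator_le_of_mem_support hp (Module.mem_annihilator.mpr fun m => by
      obtain ⟨m, rfl⟩ := Submodule.Quotient.mk_surjective _ m
      rw [← Submodule.Quotient.mk_smul, Submodule.Quotient.mk_eq_zero]
      rw [pow_mul] at hr
      exact hN (Submodule.smul_mem_smul (Ideal.pow_right_mono hI t hr) trivial))
  exact PrimeSpectrum.ext (le_antisymm (IsLocalRing.le_maximalIdeal p.2.ne_top) (p.2.le_of_pow_le h1))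

theorem samuel_split (I : Ideal A) {n : ℕ} (hI : IsLocalRing.maximalIdeal A ^ n ≤ I) {M' M M'' : Type u}
    [AddCommGroup M'] [Module A M'] [AddCommGroup M] [Module A M] [AddCommGroup M''] [Module A M'']
    [Module.Finite A M'] [Module.Finite A M] [Module.Finite A M''] (f : M' →ₗ[A] M) (g : M →ₗ[A] M'')
    (hf : Function.Injective f) (hg : Function.Surjective g) (hfg : LinearMap.range f = LinearMap.ker g) (t : ℕ) :
    (Module.length A (M ⧸ (I ^ t • (⊤ : Submodule A M)))).toNat =
      (Module.length A (M' ⧸ (I ^ t • (⊤ : Submodule A M)).comap f)).toNat +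
        (Module.length A (M'' ⧸ (I ^ t • (⊤ : Submodule A M'')))).toNat := by
  have hP : I ^ t • (⊤ : Submodule A M') ≤ (I ^ t • (⊤ : Submodule A M)).comap f := by
    rw [← Submodule.map_le_iff_le_comap, Submodule.map_smul'']
    exact Submodule.smul_mono le_rfl le_top
  have hgI : I ^ t • (⊤ : Submodule A M) ≤ (I ^ t • (⊤ : Submodule A M'')).comap g := by
    rw [← Submodule.map_le_iff_le_comap, Submodule.map_smul'']
    exact Submodule.smul_mono le_rfl le_top
  rw [Module.length_eq_add_of_exact (Submodule.mapQ ((I ^ t • (⊤ : Submodule A M)).comap f) _ f le_rfl) (Submodule.mapQ _ _ g hgI) ?_ ?_ ?_,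
    ENat.toNat_add (length_quot_pow_ne_top I hI M' t hP) (length_quot_pow_ne_top I hI M'' t le_rfl)]
  · rw [← LinearMap.ker_eq_bot, Submodule.ker_mapQ, Submodule.mkQ_map_self]
  · intro y
    obtain ⟨y, rfl⟩ := Submodule.Quotient.mk_surjective _ y
    obtain ⟨x, rfl⟩ := hg y
    exact ⟨Submodule.Quotient.mk x, rfl⟩
  · intro y
    obtain ⟨m, rfl⟩ := Submodule.Quotient.mk_surjective _ y
    constructor
    · intro hm
      rw [Submodule.mapQ_apply, Submodule.Quotient.mk_eq_zero] at hm
      have e : I ^ t • (⊤ : Submodule A M'') = (I ^ t • (⊤ : Submodule A M)).map g := by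
        rw [Submodule.map_smul'', Submodule.map_top, LinearMap.range_eq_top.2 hg]
      obtain ⟨m₀, hm₀, hgm⟩ := e.le hm
      obtain ⟨x, hx⟩ := hfg.ge (show m - m₀ ∈ LinearMap.ker g by rw [LinearMap.mem_ker, map_sub, hgm, sub_self])
      refine ⟨Submodule.Quotient.mk x, ?_⟩
      rw [Submodule.mapQ_apply, hx, Submodule.Quotient.eq]
      simpa using hm₀
    · rintro ⟨z, hz⟩
      obtain ⟨x, rfl⟩ := Submodule.Quotient.mk_surjective _ z
      rw [← hz, Submodule.mapQ_apply, Submodule.mapQ_apply, Submodule.Quotient.mk_eq_zero,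
        show g (f x) = 0 from hfg.le ⟨x, rfl⟩]
      exact zero_mem _

theorem samuel_add (I : Ideal A) {n : ℕ} (hI : IsLocalRing.maximalIdeal A ^ n ≤ I) {M' M M'' : Type u}
    [AddCommGroup M'] [Module A M'] [AddCommGroup M] [Module A M] [AddCommGroup M''] [Module A M'']
    [Module.Finite A M'] [Module.Finite A M] [Module.Finite A M''] (f : M' →ₗ[A] M) (g : M →ₗ[A] M'')
    (hf : Function.Injective f) (hg : Function.Surjective g) (hfg : LinearMap.range f = LinearMap.ker g)
    (d : ℕ) {e' e'' : ℝ}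
    (h' : Tendsto (fun t : ℕ => (d.factorial : ℝ) *
      ((Module.length A (M' ⧸ (I ^ t • (⊤ : Submodule A M')))).toNat : ℝ) / (t : ℝ) ^ d) atTop (𝓝 e'))
    (h'' : Tendsto (fun t : ℕ => (d.factorial : ℝ) *
      ((Module.length A (M'' ⧸ (I ^ t • (⊤ : Submodule A M'')))).toNat : ℝ) / (t : ℝ) ^ d) atTop (𝓝 e'')) :
    Tendsto (fun t : ℕ => (d.factorial : ℝ) *
      ((Module.length A (M ⧸ (I ^ t • (⊤ : Submodule A M)))).toNat : ℝ) / (t : ℝ) ^ d) atTop (𝓝 (e' + e'')) := by
  let P : ℕ → Submodule A M' := fun t => (I ^ t • (⊤ : Submodule A M)).comap f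
  let ℓ' : ℕ → ℕ := fun t => (Module.length A (M' ⧸ (I ^ t • (⊤ : Submodule A M')))).toNat
  let m' : ℕ → ℕ := fun t => (Module.length A (M' ⧸ P t)).toNat
  have hP : ∀ t, I ^ t • (⊤ : Submodule A M') ≤ P t := fun t => by
    rw [← Submodule.map_le_iff_le_comap, Submodule.map_smul'']
    exact Submodule.smul_mono le_rfl le_top
  have hsplit : ∀ t, (Module.length A (M ⧸ (I ^ t • (⊤ : Submodule A M)))).toNat =
      m' t + (Module.length A (M'' ⧸ (I ^ t • (⊤ : Submodule A M'')))).toNat := fun t =>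
    samuel_split I hI f g hf hg hfg t
  have hmono : ∀ {N N' : Submodule A M'} (t : ℕ), I ^ t • ⊤ ≤ N → N ≤ N' →
      (Module.length A (M' ⧸ N')).toNat ≤ (Module.length A (M' ⧸ N)).toNat := fun t h₁ h₂ =>
    ENat.toNat_le_toNat (Module.length_le_of_surjective (Submodule.factor h₂) (Submodule.factor_surjective h₂))
      (length_quot_pow_ne_top I hI M' t h₁)
  obtain ⟨k, hk⟩ := I.exists_pow_inf_eq_pow_smul (LinearMap.range f)
  have hlow : ∀ s, ℓ' s ≤ m' (s + k) := fun s => by
    refine hmono (s + k) (hP _) fun x hx => ?_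
    have h1 : f x ∈ I ^ (s + k) • ⊤ ⊓ LinearMap.range f := ⟨hx, ⟨x, rfl⟩⟩
    rw [hk (s + k) (Nat.le_add_left k s), Nat.add_sub_cancel] at h1
    obtain ⟨x', hx', he⟩ : f x ∈ (I ^ s • (⊤ : Submodule A M')).map f := by
      rw [Submodule.map_smul'', Submodule.map_top]
      exact Submodule.smul_mono le_rfl inf_le_right h1
    exact hf he ▸ hx'
  suffices h : Tendsto (fun t : ℕ => (d.factorial : ℝ) * (m' t : ℝ) / (t : ℝ) ^ d) atTop (𝓝 e') by
    refine (h.add h'').congr fun t => ?_
    rw [hsplit, Nat.cast_add]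
    ring
  rw [← tendsto_add_atTop_iff_nat k]
  have hb : Tendsto (fun s : ℕ => ((d.factorial : ℝ) * (ℓ' s : ℝ) / (s : ℝ) ^ d) * ((s : ℝ) / ((s : ℝ) + k)) ^ d)
      atTop (𝓝 e') := by
    simpa using h'.mul ((tendsto_natCast_div_add_atTop (k : ℝ)).pow d)
  refine tendsto_of_tendsto_of_tendsto_of_le_of_le' hb ((tendsto_add_atTop_iff_nat k).2 h') ?_
    (Eventually.of_forall fun s => ?_)
  · filter_upwards [eventually_gt_atTop 0] with s hs
    have hs' : (s : ℝ) ≠ 0 := by positivity
    rw [div_pow, Nat.cast_add, div_mul_div_comm]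
    calc _ = (d.factorial : ℝ) * (ℓ' s : ℝ) / ((s : ℝ) + k) ^ d := by
          field_simp
      _ ≤ _ := by
          gcongr
          exact hlow s
  · show (d.factorial : ℝ) * (m' (s + k) : ℝ) / ((s + k : ℕ) : ℝ) ^ d ≤
      (d.factorial : ℝ) * (ℓ' (s + k) : ℝ) / ((s + k : ℕ) : ℝ) ^ d
    gcongr
    exact hmono (s + k) le_rfl (hP _)

end Groth.Agent.CycLib
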