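import Groth.Agent.CycLib.Det
import Mathlib.LinearAlgebra.TensorProduct.Basic
import Mathlib.LinearAlgebra.TensorProduct.Associator
import Mathlib.Data.Fin.Tuple.Basic

/-! Symbols in short exact sequences. -/

set_option linter.unusedSectionVars false

namespace Groth.Agent.CycLib

open CycDet IsLocalRing
open scoped TensorProduct

universe u v w z

variable {R : Type u} [CommRing R] [IsLocalRing R] {K : Type v} [AddCommGroup K] [Module R K]
  {L : Type w} [AddCommGroup L] [Module R L] {M : Type z} [AddCommGroup M] [Module R M]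
  {f : K →ₗ[R] L} {g : L →ₗ[R] M} {a b : ℕ}

/-- Images of `eK` followed by lifts of `eM`. -/
noncomputable def glue (f : K →ₗ[R] L) (hg : Function.Surjective g) (eK : Fin a → K) (eM : Fin b → M) :
    Fin (a + b) → L :=
  Fin.append (f ∘ eK) (Function.surjInv hg ∘ eM)

variable {hg : Function.Surjective g} {eK : Fin a → K} {eM : Fin b → M}

theorem glue_left (i : Fin a) : glue f hg eK eM (Fin.castAdd b i) = f (eK i) := Fin.append_left ..

theorem glue_right (j : Fin b) : g (glue f hg eK eM (Fin.natAdd a j)) = eM j := by
  rw [glue, Fin.append_right]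
  exact Function.surjInv_eq hg _

theorem map_le_glue {k k' : ℕ} (h : k ≤ k') :
    (spanBefore R K eK k).map f ≤ spanBefore R L (glue f hg eK eM) k' := by
  rw [spanBefore, Submodule.map_span, Submodule.span_le]
  rintro _ ⟨_, ⟨t, ht, rfl⟩, rfl⟩
  rw [← glue_left (hg := hg) (eM := eM) t]
  exact mem_spanBefore (lt_of_lt_of_le ht h)

theorem range_le_glue (hK : Submodule.span R (Set.range eK) = ⊤) (j : ℕ) :
    LinearMap.range f ≤ spanBefore R L (glue f hg eK eM) (a + j) := by
  rw [LinearMap.range_eq_map, ← hK, ← spanBefore_last eK le_rfl]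
  exact map_le_glue (Nat.le_add_right a j)

theorem mem_glue (hfg : LinearMap.range f = LinearMap.ker g) (hK : Submodule.span R (Set.range eK) = ⊤) (j : ℕ)
    {z : L} (hz : g z ∈ spanBefore R M eM j) : z ∈ spanBefore R L (glue f hg eK eM) (a + j) := by
  have hle : spanBefore R M eM j ≤ (spanBefore R L (glue f hg eK eM) (a + j)).map g := by
    refine Submodule.span_le.mpr ?_
    rintro _ ⟨t, ht, rfl⟩
    exact ⟨_, mem_spanBefore (j := Fin.natAdd a t) (by rw [Fin.val_natAdd]; exact Nat.add_lt_add_left ht a),
      glue_right t⟩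
  obtain ⟨w, hw, hwz⟩ := hle hz
  rw [← sub_add_cancel z w]
  refine add_mem (range_le_glue hK j ?_) hw
  rw [hfg, LinearMap.mem_ker, map_sub, hwz, sub_self]

theorem glue_adm (hfg : LinearMap.range f = LinearMap.ker g) (hK : Submodule.span R (Set.range eK) = ⊤)
    (heK : IsAdmissible R K eK) (heM : IsAdmissible R M eM) : IsAdmissible R L (glue f hg eK eM) := by
  intro i r hr
  induction i using Fin.addCases with
  | left i =>
    rw [glue_left, ← map_smul, Fin.val_castAdd]
    exact map_le_glue le_rfl (Submodule.mem_map_of_mem (heK i r hr))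
  | right i =>
    rw [Fin.val_natAdd]
    refine mem_glue hfg hK i ?_
    rw [map_smul, glue_right]
    exact heM i r hr

theorem glue_span (hfg : LinearMap.range f = LinearMap.ker g) (hK : Submodule.span R (Set.range eK) = ⊤)
    (hM : Submodule.span R (Set.range eM) = ⊤) : Submodule.span R (Set.range (glue f hg eK eM)) = ⊤ := by
  refine eq_top_iff.mpr fun z _ => ?_
  rw [← spanBefore_last (glue f hg eK eM) le_rfl]
  exact mem_glue hfg hK b (by rw [spanBefore_last eM le_rfl, hM]; trivial)

theorem glue_zero_left (heK : ¬ Strict R eK) : clsT R (glue f hg eK eM) = 0 := by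
  simp only [Strict, not_forall, not_not] at heK
  obtain ⟨i, hi⟩ := heK
  refine clsT_eq_zero (Fin.castAdd b i) ?_
  rw [glue_left, Fin.val_castAdd]
  exact map_le_glue le_rfl (Submodule.mem_map_of_mem hi)

theorem exists_bilin (hlK : Module.length R K = a) (hfg : LinearMap.range f = LinearMap.ker g)
    (hg : Function.Surjective g) :
    ∃ B : DetOfLen R K a →ₗ[ResidueField R] DetOfLen R M b →ₗ[ResidueField R] DetOfLen R L (a + b),
      ∀ eK eM, B (cls eK) (cls eM) = clsT R (glue f hg eK.1 eM.1) := by
  classical
  have hΨ : ∀ eK : Adm R K a, ∃ Ψ : DetOfLen R M b →ₗ[ResidueField R] DetOfLen R L (a + b),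
      ∀ eM, Ψ (cls eM) = clsT R (glue f hg eK.1 eM.1) := by
    intro eK
    by_cases hs : Strict R eK.1
    swap
    · exact ⟨0, fun eM => (glue_zero_left hs).symm⟩
    have hK := (strict_iff_span eK.2 hlK).mp hs
    refine exists_lift _ (fun e i hi => ?_) (fun e e' i c hj hd => ?_) fun e e' i j hij hm he' => ?_
    · refine clsT_eq_zero (Fin.natAdd a i) ?_
      rw [Fin.val_natAdd]
      exact mem_glue hfg hK i (by rw [glue_right]; exact hi)
    · refine clsT_smul (Fin.natAdd a i) c (fun t ht => ?_) ?_
      · induction t using Fin.addCases with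
        | left t => rw [glue_left, glue_left]
        | right t =>
          simp only [glue, Fin.append_right, Function.comp_apply]
          rw [hj t fun e => ht (e ▸ rfl)]
      · rw [Fin.val_natAdd]
        refine mem_glue hfg hK i ?_
        rw [map_sub, map_smul, glue_right, glue_right]
        exact hd
    · have hsw : glue f hg eK.1 e'.1 =
          glue f hg eK.1 e.1 ∘ Equiv.swap (Fin.natAdd a i) (Fin.natAdd a j) := by
        funext t
        induction t using Fin.addCases with
        | left t =>
          rw [Function.comp_apply, Equiv.swap_apply_of_ne_of_ne, glue_left, glue_left] <;>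
            exact fun e => absurd (congrArg Fin.val e) (by simp only [Fin.val_castAdd, Fin.val_natAdd]; omega)
        | right t =>
          rw [Function.comp_apply, (Fin.natAdd_injective _ _).swap_apply]
          simp only [glue, Fin.append_right, Function.comp_apply, he']
      rw [clsT_swap (glue_adm hfg hK eK.2 e.2) (a := Fin.natAdd a i) (b := Fin.natAdd a j)
        (by simp only [Fin.val_natAdd]; omega) (fun r hr => by
          rw [Fin.val_natAdd]
          refine mem_glue hfg hK j ?_
          rw [map_smul, glue_right]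
          exact hm r hr), hsw, neg_add_cancel]
  choose Ψ hΨ using hΨ
  obtain ⟨B, hB⟩ := exists_lift (R := R) (M := K) (l := a) Ψ
    (fun e i hi => hom_ext fun eM => by
      rw [hΨ, LinearMap.zero_apply]
      exact glue_zero_left fun hs => hs i hi)
    (fun e e' i c hj hd => hom_ext fun eM => by
      rw [LinearMap.smul_apply, hΨ, hΨ]
      refine clsT_smul (Fin.castAdd b i) c (fun t ht => ?_) ?_
      · induction t using Fin.addCases with
        | left t => rw [glue_left, glue_left, hj t fun e => ht (e ▸ rfl)]
        | right t => simp only [glue, Fin.append_right]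
      · rw [glue_left, glue_left, Fin.val_castAdd, ← map_smul, ← map_sub]
        exact map_le_glue le_rfl (Submodule.mem_map_of_mem hd))
    (fun e e' i j hij hm he' => hom_ext fun eM => by
      rw [LinearMap.add_apply, hΨ, hΨ, LinearMap.zero_apply]
      have hrange : Set.range e'.1 = Set.range e.1 := by
        rw [he', Set.range_comp, Equiv.range_eq_univ, Set.image_univ]
      by_cases hs : Strict R e.1
      swap
      · rw [glue_zero_left hs, glue_zero_left, add_zero]
        exact fun hs' => hs ((strict_iff_span e.2 hlK).mpr (hrange ▸ (strict_iff_span e'.2 hlK).mp hs'))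
      have hsw : glue f hg e'.1 eM.1 = glue f hg e.1 eM.1 ∘ Equiv.swap (Fin.castAdd b i) (Fin.castAdd b j) := by
        funext t
        induction t using Fin.addCases with
        | left t =>
          rw [Function.comp_apply, (Fin.castAdd_injective _ _).swap_apply, glue_left, glue_left, he']
          rfl
        | right t =>
          rw [Function.comp_apply, Equiv.swap_apply_of_ne_of_ne]
          · simp only [glue, Fin.append_right]
          all_goals exact fun e => absurd (congrArg Fin.val e) (by simp only [Fin.val_castAdd, Fin.val_natAdd]; omega)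
      rw [clsT_swap (glue_adm hfg ((strict_iff_span e.2 hlK).mp hs) e.2 eM.2) (a := Fin.castAdd b i)
        (b := Fin.castAdd b j) (by simpa using hij) (fun r hr => by
          rw [glue_left, ← map_smul, Fin.val_castAdd]
          exact map_le_glue le_rfl (Submodule.mem_map_of_mem (hm r hr))), hsw, neg_add_cancel])
  exact ⟨B, fun eK eM => by rw [hB, hΨ]⟩

theorem bilin_congr (hlK : Module.length R K = a) (hfg : LinearMap.range f = LinearMap.ker g)
    (hg : Function.Surjective g) (eK : Adm R K a) (eM : Adm R M b) (eL : Adm R L (a + b)) (hK : Strict R eK.1)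
    (h1 : ∀ i, eL.1 (Fin.castAdd b i) = f (eK.1 i)) (h2 : ∀ j, g (eL.1 (Fin.natAdd a j)) = eM.1 j) :
    clsT R (glue f hg eK.1 eM.1) = cls eL := by
  rw [← clsT_adm eL]
  refine clsT_congr fun t => ?_
  induction t using Fin.addCases with
  | left t =>
    rw [glue_left, h1, sub_self]
    exact zero_mem _
  | right t =>
    rw [Fin.val_natAdd]
    refine range_le_glue ((strict_iff_span eK.2 hlK).mp hK) _ ?_
    rw [hfg, LinearMap.mem_ker, map_sub, glue_right, h2, sub_self]

theorem exists_gamma {l : ℕ} (hl : a + b = l) (hlK : Module.length R K = a) (hlM : Module.length R M = b)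
    (hlL : Module.length R L = l) (hfg : LinearMap.range f = LinearMap.ker g) (hg : Function.Surjective g) :
    ∃ γ : (DetOfLen R K a ⊗[ResidueField R] DetOfLen R M b) ≃ₗ[ResidueField R] DetOfLen R L l,
      ∀ (eK : Adm R K a) (eM : Adm R M b) (eL : Adm R L l), cls eK ≠ 0 →
        (∀ i, eL.1 (Fin.cast hl (Fin.castAdd b i)) = f (eK.1 i)) →
        (∀ j, g (eL.1 (Fin.cast hl (Fin.natAdd a j))) = eM.1 j) → γ (cls eK ⊗ₜ cls eM) = cls eL := by
  subst hl
  obtain ⟨B, hB⟩ := exists_bilin (b := b) hlK hfg hg
  obtain ⟨e₁, he₁⟩ := exists_strict a K hlK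
  obtain ⟨e₂, he₂⟩ := exists_strict b M hlM
  obtain ⟨P, hP⟩ := exists_equiv a K hlK
  obtain ⟨Q, hQ⟩ := exists_equiv b M hlM
  obtain ⟨S, hS⟩ := exists_equiv (a + b) L hlL
  have hne : B (cls e₁) (cls e₂) ≠ 0 := by
    have hK := (strict_iff_span e₁.2 hlK).mp he₁
    have hadm := glue_adm (hg := hg) hfg hK e₁.2 e₂.2
    rw [hB, show clsT R (glue f hg e₁.1 e₂.1) = cls ⟨_, hadm⟩ from clsT_adm ⟨_, hadm⟩]
    exact cls_ne_zero hlL _ ((strict_iff_span hadm hlL).mpr (glue_span hfg hK ((strict_iff_span e₂.2 hlM).mp he₂)))
  let T : (DetOfLen R K a ⊗[ResidueField R] DetOfLen R M b) ≃ₗ[ResidueField R] ResidueField R :=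
    (TensorProduct.congr P Q).trans (TensorProduct.lid _ _)
  let G := S.toLinearMap ∘ₗ TensorProduct.lift B ∘ₗ T.symm.toLinearMap
  have hG1 : G 1 ≠ 0 := fun h0 => by
    refine hne (S.injective ?_)
    have h := map_smul G (T (cls e₁ ⊗ₜ cls e₂)) 1
    rw [smul_eq_mul, mul_one, h0, smul_zero] at h
    simpa [G] using h
  have hGinj : Function.Injective G := LinearMap.ker_eq_bot.mp (LinearMap.ker_eq_bot'.mpr fun z hz => by
    rw [← mul_one z, ← smul_eq_mul, map_smul, smul_eq_mul, mul_eq_zero] at hz
    exact hz.resolve_right hG1)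
  have hbij : Function.Bijective G := ⟨hGinj, LinearMap.surjective_of_injective hGinj⟩
  have hlift : Function.Bijective (TensorProduct.lift B) := by
    have : ⇑(TensorProduct.lift B) = ⇑S.symm ∘ ⇑G ∘ ⇑T := by
      funext z
      simp [G]
    rw [this]
    exact S.symm.bijective.comp (hbij.comp T.bijective)
  refine ⟨LinearEquiv.ofBijective _ hlift, fun eK eM eL hne' h1 h2 => ?_⟩
  rw [LinearEquiv.ofBijective_apply, TensorProduct.lift.tmul, hB]
  exact bilin_congr hlK hfg hg eK eM eL (strict_of_cls_ne_zero eK hne') (by simpa using h1) (by simpa using h2)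

end Groth.Agent.CycLib
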