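import Groth.Agent.CycLib.CurveDeg
import Groth.Agent.IntThLib.Norm

/-! The degree of a principal divisor on a proper curve, and fibres of dimension one. -/

set_option autoImplicit false

universe u

open AlgebraicGeometry CategoryTheory TopologicalSpace Polynomial Limits

namespace Groth.Agent.CycLib

variable {K : Type u} [Field K] {T : Scheme.{u}}

/-- The constants on `T`. -/
noncomputable def constT (c : T ⟶ Spec (CommRingCat.of K)) : K →+* Γ(T, ⊤) :=
  c.appTop.hom.comp (Scheme.ΓSpecIso (CommRingCat.of K)).inv.hom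

/-- The constants in a residue field. -/
noncomputable def constAt (c : T ⟶ Spec (CommRingCat.of K)) (ξ : T) : K →+* T.residueField ξ :=
  (T.evaluation ⊤ ξ trivial).hom.comp (constT c)

theorem ordAt_eq_zero_of_isIntegral [IsLocallyNoetherian T] (c : T ⟶ Spec (CommRingCat.of K))
    {δ : T → ℤ} (hd : Cyc.IsDimFun T δ) {x ξ : T} (h : ξ ⤳ x) (hx : δ x + 1 = δ ξ)
    {f : T.residueField ξ} (hf : f ≠ 0) (hint : (constAt c ξ).IsIntegralElem f) (hint' : (constAt c ξ).IsIntegralElem f⁻¹) :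
    Cyc.ordAt x ξ h f = 0 := by
  haveI := krullDimLE_locQuot hd h hx
  let R := Cyc.LocQuot x ξ h
  let k : K →+* R := (Ideal.Quotient.mk _).comp ((T.presheaf.germ ⊤ x trivial).hom.comp (constT c))
  have hk : constAt c ξ = (algebraMap R (T.residueField ξ)).comp k := by
    ext a
    exact (specMap_germ h ⊤ trivial (constT c a)).symm
  have hR : ∀ g : T.residueField ξ, (constAt c ξ).IsIntegralElem g → IsIntegral R g := by
    rintro g ⟨P, hP, hev⟩
    refine ⟨P.map k, hP.map k, ?_⟩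
    rw [Polynomial.eval₂_map, ← hk, hev]
  let B := Algebra.adjoin R ({f, f⁻¹} : Set (T.residueField ξ))
  haveI : Module.Finite R B := Module.Finite.iff_fg.2 (fg_adjoin_of_finite (Set.toFinite _) (by
    rintro g (rfl | rfl)
    exacts [hR _ hint, hR _ hint']))
  haveI : IsFractionRing B (T.residueField ξ) := IsFractionRing.of_field _ _ fun z => by
    obtain ⟨a, b, -, rfl⟩ := IsFractionRing.div_surjective (A := R) z
    exact ⟨algebraMap R B a, algebraMap R B b, rfl⟩
  let r : B := ⟨f, Algebra.subset_adjoin (Set.mem_insert _ _)⟩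
  have hr : r ≠ 0 := fun h0 => hf (congrArg Subtype.val h0)
  have hu : IsUnit r := IsUnit.of_mul_eq_one ⟨f⁻¹, Algebra.subset_adjoin (Set.mem_insert_of_mem _ rfl)⟩
    (Subtype.ext (mul_inv_cancel₀ hf))
  have h2 := (IntThLib.length_quotient_eq_ordFrac_norm R B (T.residueField ξ) (T.residueField ξ) r hr).2
  have h3 : Module.length R (B ⧸ Ideal.span {r}) = 0 := by
    rw [Module.length_eq_zero_iff, Submodule.Quotient.subsingleton_iff, Ideal.span_singleton_eq_top]
    exact hu
  rw [h3, Algebra.norm_self] at h2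
  exact h2.symm

theorem ptHom_surjective_of_preimmersion {L : Type u} [Field L] (g : Spec (CommRingCat.of L) ⟶ T) [IsPreimmersion g] :
    Function.Surjective (ptHom g) := fun r => by
  obtain ⟨b, hb⟩ := (residueFieldMap_bijective g (Spec.map (CommRingCat.ofHom (RingHom.id L)) (pt L))).2
    ((Spec (CommRingCat.of L)).evaluation ⊤ _ trivial ((Scheme.ΓSpecIso (CommRingCat.of L)).inv r))
  have e : Spec.map (CommRingCat.ofHom (RingHom.id L)) ≫ g = g := by
    rw [show Spec.map (CommRingCat.ofHom (RingHom.id L)) = 𝟙 _ from Spec.map_id _, Category.id_comp]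
  refine ⟨(T.residueFieldCongr (show g (pt L) = (Spec.map (CommRingCat.ofHom (RingHom.id L)) ≫ g) (pt L) by rw [e])).inv b, ?_⟩
  rw [ptHom_congr e _ b, ptHom_comp, hb, ptHom_eval]
  rfl

theorem exists_field_point (ξ : T) : ∃ (L : Type u) (_ : Field L) (ψ : Spec (CommRingCat.of L) ⟶ T),
    ψ (pt L) = ξ ∧ Function.Surjective (ptHom ψ) :=
  ⟨T.residueField ξ, inferInstance, T.fromSpecResidueField ξ, Scheme.fromSpecResidueField_apply ξ _,
    ptHom_surjective_of_preimmersion _⟩

theorem toField_eq (c : T ⟶ Spec (CommRingCat.of K)) {L : Type u} [Field L] (ψ : Spec (CommRingCat.of L) ⟶ T) :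
    ψ ≫ c = Spec.map (CommRingCat.ofHom ((ptHom ψ).comp (constAt c (ψ (pt L))))) := by
  let r := Spec.preimage (ψ ≫ c)
  have hr : Spec.map r = ψ ≫ c := Spec.map_preimage _
  rw [← hr]
  congr 1
  refine CommRingCat.hom_ext (RingHom.ext fun a => ?_)
  have h1 := ptHom_eval r.hom a
  have h2 : ∀ (s : Spec (CommRingCat.of L) ⟶ Spec (CommRingCat.of K)), s = Spec.map (CommRingCat.ofHom r.hom) →
      ptHom s ((Spec (CommRingCat.of K)).evaluation ⊤ _ trivial ((Scheme.ΓSpecIso (CommRingCat.of K)).inv a)) = r.hom a := by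
    rintro s rfl
    exact h1
  rw [← h2 (ψ ≫ c) hr.symm, ptHom_comp]
  exact congrArg (ptHom ψ) (Scheme.evaluation_naturality_apply c (ψ (pt L)) (V := (⊤ : (Spec (CommRingCat.of K)).Opens)) trivial _)

theorem phi_chart (i : Fin (1 + 1)) :
    phi K 0 = Spec.map (CommRingCat.ofHom (alpha K i)) ≫ H23.P1Charts.chart K i := by
  rcases (Fin.forall_fin_two.2 ⟨Or.inl rfl, Or.inr rfl⟩ : ∀ j : Fin (1 + 1), j = 0 ∨ j = 1) i with rfl | rfl
  · rw [phi]
  · rw [phi_eq, phi]

/-- Transcendental functions, with the projective line abstracted. -/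
theorem sum_eq_zero_transcendental {P : Scheme.{u}} (π : P ⟶ Spec (CommRingCat.of K)) [IsProper π]
    (j : Fin (1 + 1) → (Spec (CommRingCat.of K[X]) ⟶ P)) [∀ i, IsOpenImmersion (j i)]
    (φ : Spec (CommRingCat.of (RF K)) ⟶ P) (hφ : ∀ i, φ = Spec.map (CommRingCat.ofHom (alpha K i)) ≫ j i)
    (hcov : ∀ x : P, ∃ i z, j i z = x) (hπ : ∀ i, j i ≫ π = Spec.map (CommRingCat.ofHom Polynomial.C))
    (c : T ⟶ Spec (CommRingCat.of K)) [IsProper c] {δ : T → ℤ} (hδ : Cyc.DeltaCompat c δ (fun _ => 0))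
    {L : Type u} [Field L] (ψ : Spec (CommRingCat.of L) ⟶ T) (hs : Function.Surjective (ptHom ψ))
    (h1 : δ (ψ (pt L)) = 1) (f : T.residueField (ψ (pt L)))
    (hinj : Function.Injective (Polynomial.eval₂ ((ptHom ψ).comp (constAt c (ψ (pt L)))) (ptHom ψ f))) :
    ∑ᶠ x, Cyc.divFun δ (ψ (pt L)) f x * (AlgebraicCycle.mapCoeff c δ (fun _ => (0 : ℤ)) x : ℤ) = 0 := by
  let a : K[X] →+* L := Polynomial.eval₂RingHom ((ptHom ψ).comp (constAt c (ψ (pt L)))) (ptHom ψ f)
  let e : RF K →+* L := IsFractionRing.lift (A := K[X]) (g := a) hinj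
  have hea : e.comp (alpha K 0) = a := by
    rw [alpha_zero]
    exact RingHom.ext fun p => IsFractionRing.lift_algebraMap hinj p
  have hC : a.comp Polynomial.C = (ptHom ψ).comp (constAt c (ψ (pt L))) := RingHom.ext fun b => Polynomial.eval₂_C _ _
  have hw : ψ ≫ c = (Spec.map (CommRingCat.ofHom (e.comp (alpha K 0))) ≫ j 0) ≫ π := by
    rw [Category.assoc, hπ, hea, ← Spec.map_comp, ← CommRingCat.ofHom_comp, hC]
    exact toField_eq c ψ
  obtain ⟨Ψ, hp, hq⟩ : ∃ Ψ : Spec (CommRingCat.of L) ⟶ pullback c π, Ψ ≫ pullback.fst c π = ψ ∧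
      Ψ ≫ pullback.snd c π = Spec.map (CommRingCat.ofHom (e.comp (alpha K 0))) ≫ j 0 :=
    ⟨pullback.lift _ _ hw, pullback.lift_fst _ _ _, pullback.lift_snd _ _ _⟩
  subst hp
  refine sum_eq_zero_core c π j φ hφ hcov hπ (pullback.fst c π) (pullback.snd c π) pullback.condition hδ Ψ hs e hq h1 f ?_
  have := RingHom.congr_fun hea X
  rw [alpha_zero] at this
  exact (this.trans (Polynomial.eval₂_X _ _)).symm

/-- The degree of a principal divisor on a proper scheme over a field is zero. -/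
theorem sum_divFun_eq_zero (c : T ⟶ Spec (CommRingCat.of K)) [IsProper c] {δ : T → ℤ}
    (hδ : Cyc.DeltaCompat c δ (fun _ => 0)) {ξ : T} (h1 : δ ξ = 1) {f : T.residueField ξ} (hf : f ≠ 0) :
    ∑ᶠ x, Cyc.divFun δ ξ f x * (AlgebraicCycle.mapCoeff c δ (fun _ => (0 : ℤ)) x : ℤ) = 0 := by
  haveI : IsLocallyNoetherian T := LocallyOfFiniteType.isLocallyNoetherian c
  have hd := isDimFun_of_deltaCompat c (isSetup_spec_field K) hδ
  obtain ⟨L, hL, ψ, hψ, hs⟩ := exists_field_point ξ
  subst hψ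
  by_cases hinj : Function.Injective (Polynomial.eval₂ ((ptHom ψ).comp (constAt c (ψ (pt L)))) (ptHom ψ f))
  · exact sum_eq_zero_transcendental (P1toBase K) (H23.P1Charts.chart K) (phi K 0) phi_chart
      (H23.P1Charts.exists_chart K) (H23.P1Charts.chart_toBase K) c hδ ψ hs h1 f hinj
  · letI : Algebra K (T.residueField (ψ (pt L))) := (constAt c (ψ (pt L))).toAlgebra
    have hint : IsIntegral K f := by
      rw [← isAlgebraic_iff_isIntegral]
      by_contra htr
      refine hinj fun p p' hpp => ?_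
      rw [← sub_eq_zero]
      by_contra hne
      refine htr ⟨p - p', hne, ?_⟩
      apply ptHom_injective ψ
      rw [map_zero, Polynomial.aeval_def, Polynomial.hom_eval₂, Polynomial.eval₂_sub, sub_eq_zero]
      exact hpp
    refine finsum_eq_zero_of_forall_eq_zero fun x => ?_
    by_cases h : ψ (pt L) ⤳ x ∧ δ x + 1 = δ (ψ (pt L))
    · rw [divFun_eq δ _ h.1 h.2, ordAt_eq_zero_of_isIntegral c hd h.1 h.2 hf hint hint.inv, zero_mul]
    · rw [Cyc.divFun, dif_neg h, zero_mul]

end Groth.Agent.CycLib
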