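import Groth.Agent.CycLib.Step

/-! One-dimensionality of the space of symbols. -/

set_option linter.unusedSectionVars false

namespace Groth.Agent.CycLib

open CycDet IsLocalRing

universe u v

variable {R : Type u} [CommRing R] [IsLocalRing R] {M : Type v} [AddCommGroup M] [Module R M] {n : ℕ}

theorem exists_socle (hl : Module.length R M = (n + 1 : ℕ)) :
    ∃ x : M, x ≠ 0 ∧ (∀ r ∈ maximalIdeal R, r • x = 0) ∧
      Module.length R (M ⧸ Submodule.span R ({x} : Set M)) = n := by
  have hfl : IsFiniteLength R M := Module.length_ne_top_iff.mp (by rw [hl]; exact ENat.natCast_ne_top _)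
  obtain ⟨hnoe, hart⟩ := isFiniteLength_iff_isNoetherian_isArtinian.mp hfl
  have : Nontrivial M := (Module.length_pos_iff (R := R)).mp (by rw [hl]; exact_mod_cast Nat.succ_pos n)
  have : IsAtomic (Submodule R M) := isAtomic_of_orderBot_wellFounded_lt wellFounded_lt
  obtain h | ⟨W, hW, -⟩ := eq_bot_or_exists_atom_le (⊤ : Submodule R M)
  · exact absurd h top_ne_bot
  obtain ⟨x, hxW, hx0⟩ := Submodule.exists_mem_ne_zero_of_ne_bot hW.1
  have hWx : Submodule.span R ({x} : Set M) = W := by
    refine (hW.le_iff.mp (Submodule.span_le.mpr (Set.singleton_subset_iff.mpr hxW))).resolve_left fun h => hx0 ?_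
    simpa using h
  have hm : ∀ r ∈ maximalIdeal R, r • x = 0 := by
    intro r hr
    by_contra hrx
    have h : Submodule.span R ({r • x} : Set M) = W := by
      refine (hW.le_iff.mp (Submodule.span_le.mpr
        (Set.singleton_subset_iff.mpr (W.smul_mem r hxW)))).resolve_left fun h => hrx ?_
      simpa using h
    obtain ⟨s, hs⟩ := Submodule.mem_span_singleton.mp (h ▸ hxW : x ∈ Submodule.span R ({r • x} : Set M))
    have hu : IsUnit (1 - s * r) := by
      refine isUnit_one_sub_self_of_mem_nonunits _ ((mem_maximalIdeal _).mp ?_)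
      exact Ideal.mul_mem_left _ s hr
    refine hx0 (hu.smul_eq_zero.mp ?_)
    rw [sub_smul, one_smul, mul_smul, hs, sub_self]
  refine ⟨x, hx0, hm, ?_⟩
  have : IsSimpleModule R (Submodule.span R ({x} : Set M)) := isSimpleModule_iff_isAtom.mpr (hWx ▸ hW)
  have h := Module.length_eq_add_of_exact (Submodule.span R ({x} : Set M)).subtype
    (Submodule.span R ({x} : Set M)).mkQ (Submodule.injective_subtype _) (Submodule.mkQ_surjective _)
    (LinearMap.exact_subtype_mkQ _)
  rw [hl, Module.length_eq_one, Nat.cast_succ, add_comm (1 : ℕ∞)] at h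
  exact (ENat.add_left_injective_of_ne_top ENat.one_ne_top h).symm

variable {x : M}

/-- A chain in the quotient, lifted behind `x`. -/
noncomputable def lift (x : M) (g : Fin n → M ⧸ Submodule.span R ({x} : Set M)) : Fin (n + 1) → M :=
  Fin.cons x (Quotient.out ∘ g)

theorem quo_eq_zero_iff {z : M} : quo R x z = 0 ↔ z ∈ Submodule.span R ({x} : Set M) :=
  Submodule.Quotient.mk_eq_zero _

theorem spanBefore_cons (g : Fin n → M) (k : ℕ) :
    spanBefore R M (Fin.cons x g : Fin (n + 1) → M) (k + 1) =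
      (spanBefore R _ (quo R x ∘ g) k).comap (quo R x) := by
  rw [spanBefore, spanBefore, Set.image_comp, ← Submodule.map_span, Submodule.comap_map_eq, Submodule.ker_mkQ,
    sup_comm, ← Submodule.span_union]
  congr 1
  ext z
  simp only [Set.mem_image, Set.mem_union, Set.mem_singleton_iff, Set.mem_ofPred_eq]
  constructor
  · rintro ⟨j, hj, rfl⟩
    obtain rfl | ⟨j, rfl⟩ := Fin.eq_zero_or_eq_succ j
    · exact Or.inl rfl
    · rw [Fin.val_succ] at hj
      exact Or.inr ⟨j, by omega, rfl⟩
  · rintro (rfl | ⟨j, hj, rfl⟩)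
    · exact ⟨0, by simp, rfl⟩
    · exact ⟨j.succ, by simpa using hj, rfl⟩

theorem mem_lift_iff (g : Fin n → M ⧸ Submodule.span R ({x} : Set M)) (k : ℕ) {z : M} :
    z ∈ spanBefore R M (lift x g) (k + 1) ↔ quo R x z ∈ spanBefore R _ g k := by
  rw [lift, spanBefore_cons, Submodule.mem_comap,
    show quo R x ∘ (Quotient.out ∘ g) = g from funext fun j => quo_out R x (g j)]

theorem lift_adm (hxm : ∀ r ∈ maximalIdeal R, r • x = 0) {g : Fin n → M ⧸ Submodule.span R ({x} : Set M)}
    (hg : IsAdmissible R _ g) : IsAdmissible R M (lift x g) := by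
  intro j r hr
  obtain rfl | ⟨j, rfl⟩ := Fin.eq_zero_or_eq_succ j
  · rw [lift, Fin.cons_zero, hxm r hr]
    exact zero_mem _
  · rw [Fin.val_succ, mem_lift_iff, map_smul, lift, Fin.cons_succ, Function.comp_apply, quo_out]
    exact hg j r hr

theorem lift_strict (hx0 : x ≠ 0) {g : Fin n → M ⧸ Submodule.span R ({x} : Set M)} (hg : Strict R g) :
    Strict R (lift x g) := by
  intro j
  obtain rfl | ⟨j, rfl⟩ := Fin.eq_zero_or_eq_succ j
  · rw [Fin.val_zero, spanBefore_zero, Submodule.mem_bot]
    exact hx0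
  · rw [Fin.val_succ, mem_lift_iff, lift, Fin.cons_succ, Function.comp_apply, quo_out]
    exact hg j

theorem lift_not_strict {g : Fin n → M ⧸ Submodule.span R ({x} : Set M)} (hg : ¬ Strict R g) :
    ¬ Strict R (lift x g) := fun h => hg fun j hj => h j.succ (by
  rw [Fin.val_succ, mem_lift_iff, lift, Fin.cons_succ, Function.comp_apply, quo_out]
  exact hj)

theorem exists_up (hxm : ∀ r ∈ maximalIdeal R, r • x = 0) :
    ∃ U : DetOfLen R (M ⧸ Submodule.span R ({x} : Set M)) n →ₗ[ResidueField R] DetOfLen R M (n + 1),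
      ∀ g, U (cls g) = clsT R (lift x g.1) := by
  refine exists_lift _ (fun g a ha => ?_) (fun g g' a c hj hd => ?_) fun g g' a b hab hm hg' => ?_
  · refine clsT_eq_zero a.succ ?_
    rw [Fin.val_succ, mem_lift_iff, lift, Fin.cons_succ, Function.comp_apply, quo_out]
    exact ha
  · refine clsT_smul a.succ c (fun j hja => ?_) ?_
    · obtain rfl | ⟨j, rfl⟩ := Fin.eq_zero_or_eq_succ j
      · rfl
      · simp only [lift, Fin.cons_succ, Function.comp_apply]
        rw [hj j fun e => hja (e ▸ rfl)]
    · rw [Fin.val_succ, mem_lift_iff, map_sub, map_smul, lift, lift, Fin.cons_succ, Fin.cons_succ,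
        Function.comp_apply, Function.comp_apply, quo_out, quo_out]
      exact hd
  · have hsw : lift x g'.1 = lift x g.1 ∘ Equiv.swap a.succ b.succ := by
      funext j
      obtain rfl | ⟨j, rfl⟩ := Fin.eq_zero_or_eq_succ j
      · rw [Function.comp_apply, Equiv.swap_apply_of_ne_of_ne (Fin.succ_ne_zero a).symm (Fin.succ_ne_zero b).symm]
        rfl
      · rw [Function.comp_apply, (Fin.succ_injective n).swap_apply]
        simp only [lift, Fin.cons_succ, Function.comp_apply, hg']
    rw [clsT_swap (lift_adm hxm g.2) (a := a.succ) (b := b.succ) (by simp [hab]) (fun r hr => by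
      rw [Fin.val_succ, mem_lift_iff, map_smul, lift, Fin.cons_succ, Function.comp_apply, quo_out]
      exact hm r hr), hsw, neg_add_cancel]

theorem exists_down (hx0 : x ≠ 0) (hl : Module.length R M = (n + 1 : ℕ)) :
    ∃ D : DetOfLen R M (n + 1) →ₗ[ResidueField R] DetOfLen R (M ⧸ Submodule.span R ({x} : Set M)) n,
      ∀ e, D (cls e) = down R x e.1 :=
  exists_lift _ (fun e a ha => down_of_not_strict fun hs => hs a ha)
    (fun e e' a u hj hd => down_smul hx0 hl e e' a u hj hd)
    (fun e e' a b hab hm he' => down_swap hx0 hl e e' a b hab hm he')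

theorem strict_others (hl : Module.length R M = (n + 1 : ℕ))
    (hl' : Module.length R (M ⧸ Submodule.span R ({x} : Set M)) = n) {e : Fin (n + 1) → M}
    (he : IsAdmissible R M e) (hs : Strict R e) {i : Fin (n + 1)} {c : R} (hg : Good x e i c) :
    Strict R (quo R x ∘ e ∘ i.succAbove) := by
  rw [strict_iff_span (adm_others he hg) hl', eq_top_iff]
  have hrest : ∀ t, t ≠ i → quo R x (e t) ∈ Submodule.span R (Set.range (quo R x ∘ e ∘ i.succAbove)) := by
    intro t ht
    obtain ⟨s, rfl⟩ := Fin.exists_succAbove_eq ht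
    exact Submodule.subset_span ⟨s, rfl⟩
  have hi : quo R x (e i) ∈ Submodule.span R (Set.range (quo R x ∘ e ∘ i.succAbove)) := by
    have h : (spanBefore R M e i).map (quo R x) ≤ Submodule.span R (Set.range (quo R x ∘ e ∘ i.succAbove)) := by
      rw [spanBefore, Submodule.map_span, Submodule.span_le]
      rintro _ ⟨_, ⟨t, ht, rfl⟩, rfl⟩
      exact hrest t fun e' => absurd ht (by rw [e']; simp)
    have h2 := h (Submodule.mem_map_of_mem hg.1)
    rw [map_sub, map_smul, quo_self, zero_sub, Submodule.neg_mem_iff, smul_mem_unit_iff hg.2] at h2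
    exact h2
  rintro z -
  obtain ⟨z, rfl⟩ := Submodule.mkQ_surjective _ z
  have hz : z ∈ Submodule.span R (Set.range e) := by rw [(strict_iff_span he hl).mp hs]; trivial
  refine (Submodule.span_le (p := (Submodule.span R (Set.range (quo R x ∘ e ∘ i.succAbove))).comap
    (quo R x))).mpr ?_ hz
  rintro _ ⟨t, rfl⟩
  rcases eq_or_ne t i with rfl | ht
  · exact hi
  · exact hrest t ht

theorem up_down_cls (hx0 : x ≠ 0) (hxm : ∀ r ∈ maximalIdeal R, r • x = 0)
    (hl : Module.length R M = (n + 1 : ℕ))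
    {U : DetOfLen R (M ⧸ Submodule.span R ({x} : Set M)) n →ₗ[ResidueField R] DetOfLen R M (n + 1)}
    (hU : ∀ g, U (cls g) = clsT R (lift x g.1)) (e : Adm R M (n + 1)) : U (down R x e.1) = cls e := by
  classical
  by_cases hs : Strict R e.1
  swap
  · rw [down_of_not_strict hs, map_zero, ← clsT_adm e, clsT_eq_zero' hs]
  obtain ⟨i, c, hg⟩ := exists_good_of_strict hx0 hl e.2 hs
  obtain ⟨uc, huc⟩ := hg.2
  have hothers := adm_others e.2 hg
  rw [down_eq hs hg, map_smul, show clsT R (quo R x ∘ e.1 ∘ i.succAbove) = cls ⟨_, hothers⟩ from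
    clsT_adm ⟨_, hothers⟩]
  erw [hU]
  have h1 : ∀ j, j ≠ i → e.1 j = Function.update e.1 i x j := fun j hj => (Function.update_of_ne hj _ _).symm
  have h2 : e.1 i - (↑(uc⁻¹) : R) • Function.update e.1 i x i ∈ spanBefore R M e.1 i := by
    rw [Function.update_self]
    refine (smul_mem_unit_iff uc.isUnit).mp ?_
    rw [smul_sub, smul_smul, Units.mul_inv, one_smul, huc, ← neg_sub]
    exact Submodule.neg_mem _ hg.1
  have hadm : IsAdmissible R M (Function.update e.1 i x) := by
    refine adm_of_sub (Function.update (1 : Fin (n + 1) → Rˣ) i uc⁻¹) (fun j => ?_) e.2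
    rcases eq_or_ne j i with rfl | hj
    · simpa using h2
    · simp [Function.update_of_ne hj]
  rw [← clsT_adm e, clsT_smul (e' := Function.update e.1 i x) i uc⁻¹ h1 h2,
    clsT_move i hadm (fun r hr => by rw [Function.update_self]; exact hxm r hr), Function.update_self, smul_smul,
    clsT_congr (e := lift x (quo R x ∘ e.1 ∘ i.succAbove))
      (e' := Fin.cons x (Function.update e.1 i x ∘ i.succAbove)) fun j => ?_]
  · congr 1
    rw [← huc, show residue R ↑uc⁻¹ = (residue R (uc : R))⁻¹ from eq_inv_of_mul_eq_one_left (by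
      rw [← map_mul, Units.inv_mul, map_one]), mul_comm]
  · obtain rfl | ⟨j, rfl⟩ := Fin.eq_zero_or_eq_succ j
    · simp [lift]
    · rw [Fin.val_succ, mem_lift_iff, map_sub, lift, Fin.cons_succ, Fin.cons_succ]
      simp only [Function.comp_apply, Function.update_of_ne (Fin.succAbove_ne i j), quo_out, sub_self]
      exact zero_mem _

theorem down_up_cls (hx0 : x ≠ 0) (g : Adm R (M ⧸ Submodule.span R ({x} : Set M)) n) :
    down R x (lift x g.1) = cls g := by
  by_cases hs : Strict R g.1
  swap
  · rw [down_of_not_strict (lift_not_strict hs), ← clsT_adm g, clsT_eq_zero' hs]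
  have hg : Good x (lift x g.1) 0 (1 : R) := ⟨by simp [lift], isUnit_one⟩
  rw [down_eq (lift_strict hx0 hs) hg, ← clsT_adm g]
  have : quo R x ∘ lift x g.1 ∘ Fin.succAbove 0 = g.1 := by
    funext j
    simp [lift]
  rw [this]
  simp

/-- The space of symbols of a module of length `n` is a line, spanned by every strict chain. -/
theorem exists_equiv : ∀ (n : ℕ) (M : Type v) [AddCommGroup M] [Module R M], Module.length R M = n →
    ∃ Φ : DetOfLen R M n ≃ₗ[ResidueField R] ResidueField R, ∀ e : Adm R M n, Strict R e.1 → Φ (cls e) ≠ 0 := by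
  intro n
  induction n with
  | zero =>
    intro M _ _ _
    have hbot : Submodule.span (ResidueField R) (relSet R M 0) = ⊥ := by
      rw [Submodule.span_eq_bot]
      rintro z ((⟨_, a, -⟩ | ⟨_, _, a, -⟩) | ⟨_, _, a, -⟩) <;> exact a.elim0
    let uniq : Unique (Adm R M 0) :=
      { default := ⟨Fin.elim0, fun i => i.elim0⟩
        uniq := fun e => Subtype.ext (funext fun i => i.elim0) }
    refine ⟨(Submodule.quotEquivOfEqBot _ hbot).trans (Finsupp.uniqueLinearEquiv _ _ default), fun e _ => ?_⟩
    rw [Subsingleton.elim e default]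
    simp [cls, sym]
  | succ n ih =>
    intro M _ _ hl
    obtain ⟨x, hx0, hxm, hl'⟩ := exists_socle hl
    obtain ⟨Φ, hΦ⟩ := ih (M ⧸ Submodule.span R ({x} : Set M)) hl'
    obtain ⟨U, hU⟩ := exists_up (x := x) (n := n) hxm
    obtain ⟨D, hD⟩ := exists_down hx0 hl
    have hDU : D ∘ₗ U = LinearMap.id := hom_ext fun g => by
      rw [LinearMap.comp_apply, hU, show clsT R (lift x g.1) = cls ⟨_, lift_adm hxm g.2⟩ from
        clsT_adm ⟨_, lift_adm hxm g.2⟩]
      erw [hD]
      exact down_up_cls hx0 g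
    have hUD : U ∘ₗ D = LinearMap.id := hom_ext fun e => by
      rw [LinearMap.comp_apply, hD]
      exact up_down_cls hx0 hxm hl hU e
    let T : DetOfLen R M (n + 1) ≃ₗ[ResidueField R] DetOfLen R (M ⧸ Submodule.span R ({x} : Set M)) n :=
      LinearEquiv.ofLinearMap D U hDU hUD
    refine ⟨T.trans Φ, fun e hs => ?_⟩
    obtain ⟨i, c, hg⟩ := exists_good_of_strict hx0 hl e.2 hs
    have ho := adm_others e.2 hg
    rw [LinearEquiv.trans_apply, show T (cls e) = D (cls e) from rfl, hD, down_eq hs hg, map_smul,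
      show clsT R (quo R x ∘ e.1 ∘ i.succAbove) = cls ⟨_, ho⟩ from clsT_adm ⟨_, ho⟩, smul_eq_mul]
    refine mul_ne_zero (mul_ne_zero (pow_ne_zero _ (neg_ne_zero.mpr one_ne_zero))
      (inv_ne_zero (residue_ne_zero hg.2))) (hΦ _ (strict_others hl hl' e.2 hs hg))

theorem cls_ne_zero (hl : Module.length R M = n) (e : Adm R M n) (hs : Strict R e.1) : cls e ≠ 0 := by
  obtain ⟨Φ, hΦ⟩ := exists_equiv n M hl
  exact fun h => hΦ e hs (by rw [h, map_zero])

theorem strict_of_cls_ne_zero (e : Adm R M n) (h : cls e ≠ 0) : Strict R e.1 := by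
  by_contra hs
  exact h (by rw [← clsT_adm e, clsT_eq_zero' hs])

theorem exists_smul_cls (hl : Module.length R M = n) (e : Adm R M n) (hs : Strict R e.1) (z : DetOfLen R M n) :
    ∃ r : ResidueField R, r • cls e = z := by
  obtain ⟨Φ, hΦ⟩ := exists_equiv n M hl
  refine ⟨Φ z / Φ (cls e), Φ.injective ?_⟩
  rw [map_smul, smul_eq_mul, div_mul_cancel₀ _ (hΦ e hs)]

theorem exists_strict : ∀ (n : ℕ) (M : Type v) [AddCommGroup M] [Module R M], Module.length R M = n →
    ∃ e : Adm R M n, Strict R e.1 := by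
  intro n
  induction n with
  | zero => exact fun M _ _ _ => ⟨⟨Fin.elim0, fun i => i.elim0⟩, fun i => i.elim0⟩
  | succ n ih =>
    intro M _ _ hl
    obtain ⟨x, hx0, hxm, hl'⟩ := exists_socle hl
    obtain ⟨g, hg⟩ := ih _ hl'
    exact ⟨⟨_, lift_adm hxm g.2⟩, lift_strict hx0 hg⟩

theorem length_eq_toNat (hM : IsFiniteLength R M) : Module.length R M = (Module.length R M).toNat :=
  (ENat.natCast_toNat (Module.length_ne_top_iff.mpr hM)).symm

end Groth.Agent.CycLib
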