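import Groth.Prelude.Def_CycDet
import Mathlib.RingTheory.SimpleModule.Basic
import Mathlib.LinearAlgebra.Isomorphisms
import Mathlib.Data.Fin.Tuple.Basic
import Mathlib.Tactic

/-! Admissible tuples, their spans and their classes. -/

set_option linter.unusedSectionVars false

namespace Groth.Agent.CycLib

open CycDet IsLocalRing

universe u v w

variable {R : Type u} [CommRing R] [IsLocalRing R] {M : Type v} [AddCommGroup M] [Module R M] {l : ℕ}

/-- No entry lies in the span of the earlier ones. -/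
def Strict (R : Type u) [CommRing R] [IsLocalRing R] {M : Type v} [AddCommGroup M] [Module R M] {l : ℕ}
    (e : Fin l → M) : Prop :=
  ∀ i : Fin l, e i ∉ spanBefore R M e i

theorem mem_spanBefore {e : Fin l → M} {j : Fin l} {k : ℕ} (h : (j : ℕ) < k) : e j ∈ spanBefore R M e k :=
  Submodule.subset_span ⟨j, h, rfl⟩

theorem spanBefore_mono (e : Fin l → M) {i j : ℕ} (h : i ≤ j) : spanBefore R M e i ≤ spanBefore R M e j :=
  Submodule.span_mono (Set.image_mono fun t (ht : (t : ℕ) < i) => lt_of_lt_of_le ht h)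

theorem spanBefore_zero (e : Fin l → M) : spanBefore R M e 0 = ⊥ := by
  simp [spanBefore]

theorem spanBefore_succ (e : Fin l → M) (i : Fin l) :
    spanBefore R M e (i + 1) = spanBefore R M e i ⊔ Submodule.span R {e i} := by
  rw [spanBefore, spanBefore, ← Submodule.span_union, ← Set.image_singleton, ← Set.image_union]
  congr 2
  ext j
  simp only [Set.mem_setOf_eq, Set.mem_union, Set.mem_singleton_iff, Fin.ext_iff]
  omega

theorem spanBefore_last (e : Fin l → M) {k : ℕ} (hk : l ≤ k) :
    spanBefore R M e k = Submodule.span R (Set.range e) := by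
  rw [spanBefore, ← Set.image_univ]
  congr 2
  ext j
  simp only [Set.mem_setOf_eq, Set.mem_univ, iff_true]
  omega

theorem spanBefore_congr {e e' : Fin l → M} {k : ℕ} (h : ∀ j : Fin l, (j : ℕ) < k → e j = e' j) :
    spanBefore R M e k = spanBefore R M e' k :=
  congrArg _ (Set.image_congr fun j hj => h j hj)

theorem residue_ne_zero {c : R} (h : IsUnit c) : residue R c ≠ 0 := fun e =>
  (mem_maximalIdeal c).mp ((residue_eq_zero_iff c).mp e) h

theorem smul_mem_unit_iff {V : Submodule R M} {c : R} (hc : IsUnit c) {z : M} : c • z ∈ V ↔ z ∈ V :=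
  ⟨fun h => by
    obtain ⟨u, rfl⟩ := hc
    simpa [smul_smul] using V.smul_mem (↑u⁻¹ : R) h, fun h => V.smul_mem _ h⟩

/-- Spans do not change under triangular changes. -/
theorem spanBefore_eq_of_sub {e e' : Fin l → M} (u : Fin l → Rˣ)
    (h : ∀ j : Fin l, e j - (u j : R) • e' j ∈ spanBefore R M e j) (k : ℕ) :
    spanBefore R M e k = spanBefore R M e' k := by
  induction k with
  | zero => rw [spanBefore_zero, spanBefore_zero]
  | succ k ih =>
    rcases le_or_gt l k with hl | hl
    · rwa [spanBefore_last _ (by omega : l ≤ k + 1), spanBefore_last _ (by omega : l ≤ k + 1),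
        ← spanBefore_last (R := R) e hl, ← spanBefore_last (R := R) e' hl]
    · have hk := h ⟨k, hl⟩
      rw [show k + 1 = ((⟨k, hl⟩ : Fin l) : ℕ) + 1 from rfl, spanBefore_succ, spanBefore_succ]
      apply le_antisymm
      · refine sup_le (ih.le.trans le_sup_left) (Submodule.span_le.mpr (Set.singleton_subset_iff.mpr ?_))
        rw [show e ⟨k, hl⟩ = (e ⟨k, hl⟩ - (u ⟨k, hl⟩ : R) • e' ⟨k, hl⟩) + (u ⟨k, hl⟩ : R) • e' ⟨k, hl⟩ by abel]
        exact Submodule.add_mem_sup (ih.le hk) (Submodule.smul_mem _ _ (Submodule.mem_span_singleton_self _))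
      · refine sup_le (ih.ge.trans le_sup_left) (Submodule.span_le.mpr (Set.singleton_subset_iff.mpr ?_))
        refine (smul_mem_unit_iff (u ⟨k, hl⟩).isUnit).mp ?_
        rw [show (u ⟨k, hl⟩ : R) • e' ⟨k, hl⟩ = -(e ⟨k, hl⟩ - (u ⟨k, hl⟩ : R) • e' ⟨k, hl⟩) + e ⟨k, hl⟩ by abel]
        exact Submodule.add_mem_sup (Submodule.neg_mem _ hk) (Submodule.mem_span_singleton_self _)

theorem strict_iff_of_sub {e e' : Fin l → M} (u : Fin l → Rˣ)
    (h : ∀ j : Fin l, e j - (u j : R) • e' j ∈ spanBefore R M e j) : Strict R e ↔ Strict R e' := by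
  refine forall_congr' fun j => not_congr ?_
  rw [← spanBefore_eq_of_sub u h j]
  refine ⟨fun he => (smul_mem_unit_iff (u j).isUnit).mp ?_, fun he => ?_⟩
  · simpa using Submodule.sub_mem _ he (h j)
  · simpa using Submodule.add_mem _ (h j) (Submodule.smul_mem _ (u j : R) he)

/-- Triangular changes preserve admissibility. -/
theorem adm_of_sub {e e' : Fin l → M} (u : Fin l → Rˣ)
    (h : ∀ j : Fin l, e j - (u j : R) • e' j ∈ spanBefore R M e j) (he : IsAdmissible R M e) :
    IsAdmissible R M e' := by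
  intro j r hr
  rw [← spanBefore_eq_of_sub u h j]
  refine (smul_mem_unit_iff (u j).isUnit).mp ?_
  rw [smul_comm, show (u j : R) • e' j = e j - (e j - (u j : R) • e' j) by abel, smul_sub]
  exact Submodule.sub_mem _ (he j r hr) (Submodule.smul_mem _ _ (h j))

theorem covBy_of_adm {e : Fin l → M} (he : IsAdmissible R M e) (i : Fin l) (hi : e i ∉ spanBefore R M e i) :
    spanBefore R M e i ⋖ spanBefore R M e (i + 1) := by
  refine ⟨lt_of_le_of_ne (spanBefore_mono e (Nat.le_succ _)) fun h => hi (h ▸ mem_spanBefore (Nat.lt_succ_self _)),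
    fun W hlt hlt' => hlt'.not_ge ?_⟩
  obtain ⟨w, hw, hwn⟩ := SetLike.exists_of_lt hlt
  have hw' := hlt'.le hw
  rw [spanBefore_succ, Submodule.mem_sup] at hw'
  obtain ⟨v, hv, z, hz, rfl⟩ := hw'
  obtain ⟨r, rfl⟩ := Submodule.mem_span_singleton.mp hz
  have hr : IsUnit r := by
    by_contra hr
    exact hwn (add_mem hv (he i r ((mem_maximalIdeal r).mpr hr)))
  rw [spanBefore_succ]
  refine sup_le hlt.le (Submodule.span_le.mpr (Set.singleton_subset_iff.mpr ((smul_mem_unit_iff hr).mp ?_)))
  simpa using W.sub_mem hw (hlt.le hv)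

theorem length_spanBefore_succ {e : Fin l → M} (he : IsAdmissible R M e) (i : Fin l) (hi : e i ∉ spanBefore R M e i) :
    Module.length R (spanBefore R M e (i + 1)) = Module.length R (spanBefore R M e i) + 1 := by
  have hle := spanBefore_mono (R := R) e (Nat.le_succ (i : ℕ))
  have hsimple := (covBy_iff_quot_is_simple hle).mp (covBy_of_adm he i hi)
  rw [Module.length_eq_add_of_exact (Submodule.inclusion hle)
    ((spanBefore R M e i).submoduleOf (spanBefore R M e (i + 1))).mkQ (Submodule.inclusion_injective hle)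
    (Submodule.mkQ_surjective _) (LinearMap.exact_iff.mpr (by
      rw [Submodule.ker_mkQ, Submodule.range_inclusion]; rfl))]
  exact congrArg _ (Module.length_eq_one_iff.mpr hsimple)

theorem length_spanBefore {e : Fin l → M} (he : IsAdmissible R M e) : ∀ {k : ℕ}, k ≤ l →
    (Module.length R (spanBefore R M e k) ≤ k ∧
      ((∀ i : Fin l, (i : ℕ) < k → e i ∉ spanBefore R M e i) → Module.length R (spanBefore R M e k) = k) ∧
      ((∃ i : Fin l, (i : ℕ) < k ∧ e i ∈ spanBefore R M e i) → Module.length R (spanBefore R M e k) + 1 ≤ k)) := by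
  intro k
  induction k with
  | zero =>
    intro _
    rw [spanBefore_zero, Module.length_bot]
    exact ⟨le_rfl, fun _ => rfl, fun ⟨i, hi, _⟩ => absurd hi (Nat.not_lt_zero _)⟩
  | succ k ih =>
    intro hk
    obtain ⟨h1, h2, h3⟩ := ih (by omega)
    by_cases hi : e ⟨k, hk⟩ ∈ spanBefore R M e k
    · have heq : spanBefore R M e (k + 1) = spanBefore R M e k := by
        rw [show k + 1 = ((⟨k, hk⟩ : Fin l) : ℕ) + 1 from rfl, spanBefore_succ]
        exact sup_eq_left.mpr (Submodule.span_le.mpr (Set.singleton_subset_iff.mpr hi))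
      rw [heq]
      have hstep : Module.length R (spanBefore R M e k) + 1 ≤ ((k + 1 : ℕ) : ℕ∞) := by
        push_cast; gcongr
      exact ⟨h1.trans (Nat.cast_le.mpr (Nat.le_succ _)), fun h => absurd hi (h ⟨k, hk⟩ (Nat.lt_succ_self k)),
        fun _ => hstep⟩
    · rw [show k + 1 = ((⟨k, hk⟩ : Fin l) : ℕ) + 1 from rfl, length_spanBefore_succ he ⟨k, hk⟩ hi]
      push_cast
      refine ⟨by gcongr, fun h => by rw [h2 fun i hik => h i (Nat.lt_succ_of_lt hik)], fun ⟨i, hik, himem⟩ => ?_⟩
      have : (i : ℕ) ≠ k := fun hik' => hi (by rwa [show (⟨k, hk⟩ : Fin l) = i from Fin.ext hik'.symm, ← hik'])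
      gcongr
      exact h3 ⟨i, by omega, himem⟩

/-- For tuples of length `length M`, strict means generating. -/
theorem strict_iff_span {e : Fin l → M} (he : IsAdmissible R M e) (hl : Module.length R M = l) :
    Strict R e ↔ Submodule.span R (Set.range e) = ⊤ := by
  obtain ⟨hart, hnoe⟩ : IsArtinian R M ∧ IsNoetherian R M :=
    (isFiniteLength_iff_isNoetherian_isArtinian.mp (Module.length_ne_top_iff.mp (by rw [hl]; simp))).symm
  obtain ⟨-, h2, h3⟩ := length_spanBefore he le_rfl
  rw [spanBefore_last e le_rfl] at h2 h3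
  refine ⟨fun hs => ?_, fun ht i hi => ?_⟩
  · by_contra hne
    have h := Submodule.length_lt hne
    rw [h2 fun i _ => hs i, hl] at h
    exact lt_irrefl _ h
  · have h := h3 ⟨i, i.2, hi⟩
    rw [ht, Module.length_top, hl] at h
    exact absurd (by exact_mod_cast h) (Nat.not_succ_le_self l)

/-- The class of an admissible tuple. -/
noncomputable def cls (e : Adm R M l) : DetOfLen R M l := Submodule.Quotient.mk (sym R M e)

open Classical in
/-- The class of any tuple, zero if it is not admissible. -/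
noncomputable def clsT (R : Type u) [CommRing R] [IsLocalRing R] {M : Type v} [AddCommGroup M] [Module R M] {l : ℕ}
    (e : Fin l → M) : DetOfLen R M l :=
  if h : IsAdmissible R M e then cls ⟨e, h⟩ else 0

theorem clsT_adm (e : Adm R M l) : clsT R e.1 = cls e := by
  rw [clsT, dif_pos e.2]
  rfl

theorem cls_rel {x : Free R M l} (hx : x ∈ relSet R M l) :
    (Submodule.Quotient.mk x : DetOfLen R M l) = 0 :=
  (Submodule.Quotient.mk_eq_zero _).mpr (Submodule.subset_span hx)

theorem clsT_eq_zero {e : Fin l → M} (a : Fin l) (h : e a ∈ spanBefore R M e a) : clsT R e = 0 := by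
  unfold clsT
  split_ifs with he
  · exact cls_rel (Or.inl (Or.inl ⟨⟨e, he⟩, a, h, rfl⟩))
  · rfl

theorem clsT_eq_zero' {e : Fin l → M} (h : ¬ Strict R e) : clsT R e = 0 := by
  simp only [Strict, not_forall, not_not] at h
  obtain ⟨a, ha⟩ := h
  exact clsT_eq_zero a ha

theorem clsT_smul {e e' : Fin l → M} (a : Fin l) (c : Rˣ) (hj : ∀ j, j ≠ a → e j = e' j)
    (hd : e a - (c : R) • e' a ∈ spanBefore R M e a) :
    clsT R e = residue R (c : R) • clsT R e' := by
  classical
  have hu : ∀ j : Fin l, e j - ((Function.update (1 : Fin l → Rˣ) a c) j : R) • e' j ∈ spanBefore R M e j := fun j => by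
    rcases eq_or_ne j a with rfl | h
    · simpa using hd
    · simp [Function.update_of_ne h, hj j h]
  by_cases he : IsAdmissible R M e
  · have he' := adm_of_sub _ hu he
    rw [clsT, dif_pos he, clsT, dif_pos he']
    simp only [cls, ← Submodule.Quotient.mk_smul]
    rw [Submodule.Quotient.eq]
    exact Submodule.subset_span (Or.inl (Or.inr ⟨⟨e, he⟩, ⟨e', he'⟩, a, c, hj, hd, rfl⟩))
  · have he' : ¬ IsAdmissible R M e' := fun he' => he (by
      refine adm_of_sub (fun j => (Function.update (1 : Fin l → Rˣ) a c j)⁻¹) (fun j => ?_) he'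
      rw [← spanBefore_eq_of_sub _ hu j]
      have h1 := Submodule.smul_mem _ (↑(Function.update (1 : Fin l → Rˣ) a c j)⁻¹ : R) (Submodule.neg_mem _ (hu j))
      rwa [neg_sub, smul_sub, smul_smul, Units.inv_mul, one_smul] at h1)
    rw [clsT, dif_neg he, clsT, dif_neg he', smul_zero]

theorem adm_swap {e : Fin l → M} (he : IsAdmissible R M e) {a b : Fin l} (hab : (b : ℕ) + 1 = a)
    (hm : ∀ r ∈ maximalIdeal R, r • e a ∈ spanBefore R M e b) :
    IsAdmissible R M (e ∘ Equiv.swap a b) := by
  intro j r hr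
  have hsub : ∀ {k k' : ℕ}, (∀ t : Fin l, (t : ℕ) < k → ((Equiv.swap a b t : Fin l) : ℕ) < k') →
      spanBefore R M e k ≤ spanBefore R M (e ∘ Equiv.swap a b) k' := fun h => by
    refine Submodule.span_le.mpr ?_
    rintro _ ⟨t, ht, rfl⟩
    exact Submodule.subset_span ⟨Equiv.swap a b t, h t ht, by simp⟩
  rcases eq_or_ne j b with rfl | hjb
  · simp only [Function.comp_apply, Equiv.swap_apply_right]
    refine hsub (fun t ht => ?_) (hm r hr)
    rw [Equiv.swap_apply_of_ne_of_ne (Fin.ne_of_val_ne (by omega)) (Fin.ne_of_val_ne (by omega))]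
    omega
  rcases eq_or_ne j a with rfl | hja
  · simp only [Function.comp_apply, Equiv.swap_apply_left]
    refine hsub (fun t ht => ?_) (he b r hr)
    rw [Equiv.swap_apply_of_ne_of_ne (Fin.ne_of_val_ne (by omega)) (Fin.ne_of_val_ne (by omega))]
    omega
  simp only [Function.comp_apply, Equiv.swap_apply_of_ne_of_ne hja hjb]
  refine hsub (fun t ht => ?_) (he j r hr)
  rw [ne_eq, Fin.ext_iff] at hja hjb
  rcases eq_or_ne t a with rfl | ha
  · rw [Equiv.swap_apply_left]; omega
  rcases eq_or_ne t b with rfl | hb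
  · rw [Equiv.swap_apply_right]; omega
  · rw [Equiv.swap_apply_of_ne_of_ne ha hb]; exact ht

theorem clsT_swap {e : Fin l → M} (he : IsAdmissible R M e) {a b : Fin l} (hab : (b : ℕ) + 1 = a)
    (hm : ∀ r ∈ maximalIdeal R, r • e a ∈ spanBefore R M e b) :
    clsT R e = -clsT R (e ∘ Equiv.swap a b) := by
  have he' := adm_swap he hab hm
  rw [clsT, dif_pos he, clsT, dif_pos he', eq_neg_iff_add_eq_zero]
  exact cls_rel (Or.inr ⟨⟨e, he⟩, ⟨_, he'⟩, a, b, hab, hm, rfl, rfl⟩)

/-- Linear maps out of the space of symbols. -/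
theorem exists_lift {W : Type w} [AddCommGroup W] [Module (ResidueField R) W] (F : Adm R M l → W)
    (ha : ∀ (e : Adm R M l) (a : Fin l), e.1 a ∈ spanBefore R M e.1 a → F e = 0)
    (hb : ∀ (e e' : Adm R M l) (a : Fin l) (c : Rˣ), (∀ j, j ≠ a → e.1 j = e'.1 j) →
      e.1 a - (c : R) • e'.1 a ∈ spanBefore R M e.1 a → F e = residue R (c : R) • F e')
    (hc : ∀ (e e' : Adm R M l) (a b : Fin l), (b : ℕ) + 1 = (a : ℕ) →
      (∀ r ∈ maximalIdeal R, r • e.1 a ∈ spanBefore R M e.1 b) → e'.1 = e.1 ∘ Equiv.swap a b → F e + F e' = 0) :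
    ∃ Φ : DetOfLen R M l →ₗ[ResidueField R] W, ∀ e, Φ (cls e) = F e := by
  refine ⟨(Submodule.span _ (relSet R M l)).liftQ (Finsupp.linearCombination _ F) (Submodule.span_le.mpr ?_),
    fun e => by simp [cls, sym]⟩
  intro x hx
  rw [SetLike.mem_coe, LinearMap.mem_ker]
  rcases hx with (⟨e, a, h, rfl⟩ | ⟨e, e', a, c, h1, h2, rfl⟩) | ⟨e, e', a, b, h1, h2, h3, rfl⟩
  · simp [sym, ha e a h]
  · simp [sym, hb e e' a c h1 h2]
  · simpa [sym] using hc e e' a b h1 h2 h3

theorem hom_ext {W : Type w} [AddCommGroup W] [Module (ResidueField R) W]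
    {f g : DetOfLen R M l →ₗ[ResidueField R] W} (h : ∀ e, f (cls e) = g (cls e)) : f = g :=
  Submodule.linearMap_qext _ (Finsupp.lhom_ext fun e c => by
    have := congrArg (c • ·) (h e)
    simpa [cls, sym, ← map_smul, ← Submodule.Quotient.mk_smul] using this)

/-- Triangular changes by units of residue one. -/
theorem clsT_congr {e e' : Fin l → M} (h : ∀ j : Fin l, e j - e' j ∈ spanBefore R M e j) :
    clsT R e = clsT R e' := by
  classical
  let H : ℕ → Fin l → M := fun k j => if (j : ℕ) < k then e' j else e j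
  have hH : ∀ k, k ≤ l → clsT R e = clsT R (H k) := by
    intro k
    induction k with
    | zero => intro _; congr 1
    | succ k ih =>
      intro hk
      rw [ih (by omega)]
      have := clsT_smul (R := R) (e := H k) (e' := H (k + 1)) ⟨k, hk⟩ 1 (fun j hj => by
        have hj' : (j : ℕ) ≠ k := fun e => hj (Fin.ext e)
        simp only [H]
        have : ((j : ℕ) < k + 1) = ((j : ℕ) < k) := propext ⟨fun _ => by omega, fun _ => by omega⟩
        simp only [this]) (by
        rw [← spanBefore_eq_of_sub (e := e) (e' := H k) (fun _ => 1) (fun j => by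
          simp only [H, Units.val_one, one_smul]
          split_ifs
          · exact h j
          · rw [sub_self]; exact Submodule.zero_mem _)]
        simpa [H] using h ⟨k, hk⟩)
      simpa using this
  rw [hH l le_rfl]
  congr 1
  funext j
  simp [H, j.2]

/-- Moving an entry killed by the maximal ideal to the front. -/
theorem clsT_move {n : ℕ} : ∀ (i : Fin (n + 1)) {e : Fin (n + 1) → M}, IsAdmissible R M e →
    (∀ r ∈ maximalIdeal R, r • e i = 0) →
    clsT R e = (-1 : ResidueField R) ^ (i : ℕ) • clsT R (Fin.cons (e i) (e ∘ i.succAbove)) := by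
  intro i
  induction i using Fin.induction with
  | zero =>
    intro e _ _
    rw [Fin.val_zero, pow_zero, one_smul]
    congr 1
    funext j
    refine Fin.cases ?_ (fun k => ?_) j <;> simp
  | succ i ih =>
    intro e he hk
    have hab : ((i.castSucc : Fin (n + 1)) : ℕ) + 1 = ((i.succ : Fin (n + 1)) : ℕ) := by simp
    have hm : ∀ r ∈ maximalIdeal R, r • e i.succ ∈ spanBefore R M e (i.castSucc : Fin (n + 1)) := fun r hr => by
      rw [hk r hr]; exact Submodule.zero_mem _
    rw [clsT_swap he hab hm, ih (adm_swap he hab hm) (fun r hr => by simpa using hk r hr)]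
    simp only [Function.comp_apply, Equiv.swap_apply_right, Fin.val_succ, Fin.val_castSucc, pow_succ, mul_neg_one,
      neg_smul]
    congr 4
    funext j
    simp only [Function.comp_apply]
    refine congrArg e ?_
    rcases eq_or_ne j i with rfl | hji
    · rw [Fin.succAbove_castSucc_self, Equiv.swap_apply_left, Fin.succAbove_succ_self]
    · have h1 : i.castSucc.succAbove j = i.succ.succAbove j := by
        rcases lt_or_gt_of_ne hji with h | h
        · rw [Fin.succAbove_of_castSucc_lt _ _ (Fin.castSucc_lt_castSucc_iff.mpr h),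
            Fin.succAbove_of_castSucc_lt _ _ (Fin.castSucc_lt_succ_iff.mpr h.le)]
        · rw [Fin.succAbove_of_le_castSucc _ _ (Fin.castSucc_le_castSucc_iff.mpr h.le),
            Fin.succAbove_of_le_castSucc _ _ (Fin.succ_le_castSucc_iff.mpr h)]
      rw [h1, Equiv.swap_apply_of_ne_of_ne (Fin.succAbove_ne _ _) (h1 ▸ Fin.succAbove_ne _ _)]

end Groth.Agent.CycLib
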