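import Groth.Agent.CycLib.FinLen
import Mathlib.RingTheory.Localization.AtPrime.Basic
import Mathlib.Algebra.Module.LocalizedModule.Basic
import Mathlib.RingTheory.Artinian.Module
import Mathlib.RingTheory.Localization.Finiteness

/-! Localisations of a module at minimal primes of its support. -/

namespace Groth.Agent.CycLib

universe u v

variable {R : Type u} [CommRing R] [IsNoetherianRing R] {M : Type v} [AddCommGroup M] [Module R M] [Module.Finite R M]

theorem length_localized_ne_top_of_minimal (p : PrimeSpectrum R)
    (hp : ∀ q ∈ Module.support R M, q ≤ p → q = p) :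
    Module.length (Localization.AtPrime p.asIdeal) (LocalizedModule p.asIdeal.primeCompl M) ≠ ⊤ := by
  refine length_ne_top_of_support fun P hP => ?_
  rw [Module.support_eq_zeroLocus] at hP
  let q : PrimeSpectrum R := ⟨P.asIdeal.comap (algebraMap R (Localization.AtPrime p.asIdeal)), inferInstance⟩
  have hq : q ∈ Module.support R M := by
    rw [Module.support_eq_zeroLocus]
    intro r hr
    refine hP (Module.mem_annihilator.mpr fun z => ?_)
    induction z using LocalizedModule.induction_on with
    | h m s => rw [algebraMap_smul, LocalizedModule.smul'_mk, Module.mem_annihilator.mp hr m, LocalizedModule.zero_mk]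
  have hle : q ≤ p := fun r hr => by
    by_contra hrp
    exact P.2.ne_top (Ideal.eq_top_of_isUnit_mem _ hr
      (IsLocalization.map_units (Localization.AtPrime p.asIdeal) (⟨r, hrp⟩ : p.asIdeal.primeCompl)))
  refine PrimeSpectrum.ext ?_
  rw [← IsLocalization.map_under p.asIdeal.primeCompl (Localization.AtPrime p.asIdeal) P.asIdeal, Ideal.under_def,
    show Ideal.comap (algebraMap R (Localization.AtPrime p.asIdeal)) P.asIdeal = p.asIdeal from
      congrArg PrimeSpectrum.asIdeal (hp q hq hle)]
  exact Localization.AtPrime.map_eq_maximalIdeal

theorem length_coker_of_injective [IsLocalRing R] (h1 : Module.supportDim R M ≤ 1) (f : M →ₗ[R] M)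
    (hf : Function.Injective f) : Module.length R (M ⧸ LinearMap.range f) < ⊤ := by
  refine lt_top_iff_ne_top.mpr (length_ne_top_of_support fun p hp => ?_)
  by_contra hne
  have hpM : p ∈ Module.support R M :=
    Module.support_subset_of_surjective _ (Submodule.mkQ_surjective _) hp
  have hlt : (⟨p, hpM⟩ : Module.support R M) <
      ⟨IsLocalRing.closedPoint R, Module.mem_support_mono (IsLocalRing.le_maximalIdeal p.2.ne_top) hpM⟩ :=
    lt_of_le_of_ne (IsLocalRing.le_maximalIdeal p.2.ne_top) fun h => hne (congrArg Subtype.val h)
  have hmin : IsMin (⟨p, hpM⟩ : Module.support R M) :=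
    ((Order.krullDim_le_one_iff (α := Module.support R M)).mp h1 _).resolve_right hlt.not_isMax
  have hlen := length_localized_ne_top_of_minimal (M := M) p fun q hq hle =>
    le_antisymm hle (hmin (b := ⟨q, hq⟩) hle)
  have : IsArtinian (Localization.AtPrime p.asIdeal) (LocalizedModule p.asIdeal.primeCompl M) :=
    (isFiniteLength_iff_isNoetherian_isArtinian.mp (Module.length_ne_top_iff.mp hlen)).2
  have hinj := LocalizedModule.map_injective p.asIdeal.primeCompl f hf
  have hsurj := IsArtinian.surjective_of_injective_endomorphism (LocalizedModule.map p.asIdeal.primeCompl f) hinj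
  obtain ⟨a, b, hab⟩ := (Module.mem_support_iff.mp hp).exists_pair_ne
  refine hab ?_
  suffices ∀ z : LocalizedModule p.asIdeal.primeCompl (M ⧸ LinearMap.range f), z = 0 by rw [this a, this b]
  intro z
  induction z using LocalizedModule.induction_on with
  | h m s =>
    obtain ⟨m, rfl⟩ := Submodule.mkQ_surjective _ m
    obtain ⟨w, hw⟩ := hsurj (LocalizedModule.mk m s)
    have hcomp : (LocalizedModule.map p.asIdeal.primeCompl (LinearMap.range f).mkQ)
        (LocalizedModule.map p.asIdeal.primeCompl f w) = 0 := by
      induction w using LocalizedModule.induction_on with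
      | h w t =>
        rw [LocalizedModule.map_mk, LocalizedModule.map_mk, Submodule.mkQ_apply,
          (Submodule.Quotient.mk_eq_zero _).mpr (LinearMap.mem_range_self f w), LocalizedModule.zero_mk]
    rw [hw, LocalizedModule.map_mk] at hcomp
    exact hcomp

end Groth.Agent.CycLib
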