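import Groth.Agent.CycLib.DivPushAll
import Groth.Prelude.Def_W4stkchowintpicEnv

/-! Lifting cycles along sections of points. -/

set_option autoImplicit false

universe u

open AlgebraicGeometry CategoryTheory TopologicalSpace

namespace Groth.Agent.CycLib

variable {X Y : Scheme.{u}}

theorem finite_support_inter_affine (α : AlgebraicCycle X ℤ) {U : X.Opens} (hU : IsAffineOpen U) :
    ((U : Set X) ∩ Function.support ⇑α).Finite :=
  α.locallyFiniteSupport.finite_inter_support_of_isCompact hU.isCompact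

open Classical in
/-- The cycle on `Y` putting the coefficient of `x` at the chosen point `s x`. -/
noncomputable def liftCycle (f : Y ⟶ X) (s : X → Y) (α : AlgebraicCycle X ℤ) : AlgebraicCycle Y ℤ where
  toFun y := if s (f y) = y then α (f y) else 0
  supportWithinDomain' := fun _ _ => trivial
  supportLocallyFiniteWithinDomain' := fun z _ => by
    obtain ⟨U, hU, hz, -⟩ := exists_isAffineOpen_mem_and_subset (x := f z) (U := ⊤) trivial
    refine ⟨f ⁻¹' (U : Set X), (f ⁻¹ᵁ U).2.mem_nhds hz, ((finite_support_inter_affine α hU).image s).subset ?_⟩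
    rintro y ⟨hy, hy'⟩
    have hy'' : (if s (f y) = y then α (f y) else 0) ≠ 0 := hy'
    split_ifs at hy'' with h
    · exact ⟨f y, ⟨hy, hy''⟩, h⟩
    · exact absurd rfl hy''

theorem liftCycle_apply (f : Y ⟶ X) (s : X → Y) (α : AlgebraicCycle X ℤ) [∀ y, Decidable (s (f y) = y)] (y : Y) :
    liftCycle f s α y = if s (f y) = y then α (f y) else 0 := by
  show (@ite _ _ (Classical.propDecidable _) (α (f y)) 0) = _
  split_ifs <;> rfl

theorem map_liftCycle (f : Y ⟶ X) [QuasiCompact f] (s : X → Y) (hs : ∀ x, f (s x) = x)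
    (δY : Y → ℤ) (δ : X → ℤ) (α : AlgebraicCycle X ℤ) (x : X) :
    AlgebraicCycle.map f δY δ (liftCycle f s α) x = α x * (AlgebraicCycle.mapCoeff f δY δ (s x) : ℤ) := by
  classical
  rw [map_apply', finsum_mem_eq_sum_of_inter_support_eq _ (t := {s x}) ?_, Finset.sum_singleton, liftCycle_apply, hs,
    if_pos rfl]
  ext y
  simp only [Set.mem_inter_iff, Set.mem_preimage, Set.mem_singleton_iff, Function.mem_support, Finset.coe_singleton,
    liftCycle_apply]
  refine ⟨fun ⟨h1, h2⟩ => ⟨?_, h2⟩, fun ⟨h1, h2⟩ => ⟨by rw [h1, hs], h2⟩⟩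
  by_contra hne
  rw [h1, if_neg (fun h => hne h.symm), zero_mul] at h2
  exact h2 rfl

theorem delta_eq_of_surjective (f : Y ⟶ X) [LocallyOfFiniteType f] {δY : Y → ℤ} {δ : X → ℤ}
    (hδ : Cyc.DeltaCompat f δY δ) {y : Y} (hy : Function.Surjective (f.residueFieldMap y).hom) : δY y = δ (f y) := by
  have h := deltaCompat_eq f hδ y
  rw [rd_eq_zero_of_finite f y (RingHom.Finite.of_surjective _ hy)] at h
  simpa using h

theorem residueDegree_of_surjective (f : Y ⟶ X) {y : Y} (hy : Function.Surjective (f.residueFieldMap y).hom) :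
    f.residueDegree y = 1 := by
  letI := (f.residueFieldMap y).hom.toAlgebra
  exact (LinearEquiv.finrank_eq (LinearEquiv.ofBijective (Algebra.linearMap (X.residueField (f y)) (Y.residueField y))
    ⟨RingHom.injective (f.residueFieldMap y).hom, hy⟩)).symm.trans (Module.finrank_self _)

end Groth.Agent.CycLib

namespace Groth.Agent.CycLib

open Limits

variable {X Y : Scheme.{u}}

/-- Push-forward of a locally finite sum of divisors on generically finite subvarieties. -/
theorem map_sumDiv (f : Y ⟶ X) [IsProper f] [IsLocallyNoetherian Y] [IsLocallyNoetherian X] {δY : Y → ℤ} {δ : X → ℤ}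
    (hdY : Cyc.IsDimFun Y δY) (hdX : Cyc.IsDimFun X δ) (hδ : Cyc.DeltaCompat f δY δ) {ι : Type*} (ζ : ι → Y)
    (g : (i : ι) → Y.residueField (ζ i)) (hg : ∀ i, g i ≠ 0)
    (hloc : ∀ y : Y, ∃ U : Set Y, IsOpen U ∧ y ∈ U ∧ {i | (closure {ζ i} ∩ U).Nonempty}.Finite)
    (hloc' : ∀ x : X, ∃ U : Set X, IsOpen U ∧ x ∈ U ∧ {i | (closure {f (ζ i)} ∩ U).Nonempty}.Finite)
    (heq : ∀ i, δY (ζ i) = δ (f (ζ i))) (x : X) :
    AlgebraicCycle.map f δY δ (sumDiv hdY ζ g hg hloc) x =
      ∑ᶠ i, Cyc.divFun δ (f (ζ i)) (Cyc.normGen f (ζ i) (g i)) x := by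
  classical
  obtain ⟨U, -, hxU, hfin⟩ := hloc' x
  have hout : ∀ i ∉ hfin.toFinset, ∀ y, f y = x → Cyc.divFun δY (ζ i) (g i) y = 0 := by
    rintro i hi y rfl
    by_contra hne
    refine hi (hfin.mem_toFinset.2 ⟨f y, ?_, hxU⟩)
    exact ((specializes_iff_mem_closure.2 (mem_closure_of_divFun_ne_zero hne)).map f.continuous).mem_closure
  have hsum : ∀ y ∈ f ⁻¹' {x}, sumDiv hdY ζ g hg hloc y * (AlgebraicCycle.mapCoeff f δY δ y : ℤ) =
      ∑ i ∈ hfin.toFinset, Cyc.divFun δY (ζ i) (g i) y * (AlgebraicCycle.mapCoeff f δY δ y : ℤ) := fun y hy => by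
    rw [sumDiv_apply, finsum_eq_sum_of_support_subset _ (s := hfin.toFinset), Finset.sum_mul]
    exact fun i hi => by_contra fun hn => hi (hout i hn y hy)
  have hfin2 : ∀ i ∈ hfin.toFinset, (f ⁻¹' {x} ∩ Function.support fun y =>
      Cyc.divFun δY (ζ i) (g i) y * (AlgebraicCycle.mapCoeff f δY δ y : ℤ)).Finite := fun i _ =>
    (finite_support_inter_fibre f (divCycle hdY (ζ i) (g i) (hg i)) x).subset fun y hy =>
      ⟨left_ne_zero_of_mul hy.2, hy.1⟩
  rw [map_apply', finsum_mem_congr rfl hsum]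
  have hswap : ∑ᶠ y ∈ f ⁻¹' {x}, ∑ i ∈ hfin.toFinset,
      Cyc.divFun δY (ζ i) (g i) y * (AlgebraicCycle.mapCoeff f δY δ y : ℤ) =
    ∑ i ∈ hfin.toFinset, ∑ᶠ y ∈ f ⁻¹' {x},
      Cyc.divFun δY (ζ i) (g i) y * (AlgebraicCycle.mapCoeff f δY δ y : ℤ) := by
    simp only [finsum_mem_def]
    rw [← finsum_sum_comm]
    · refine finsum_congr fun y => ?_
      by_cases hy : y ∈ f ⁻¹' {x} <;> simp [hy]
    · intro i hi
      exact (hfin2 i hi).subset fun y hy => by
        rw [Function.mem_support] at hy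
        by_cases hxy : y ∈ f ⁻¹' {x}
        · exact ⟨hxy, by simpa [hxy] using hy⟩
        · simp [hxy] at hy
  rw [hswap, finsum_eq_sum_of_support_subset _ (s := hfin.toFinset)]
  · exact Finset.sum_congr rfl fun i _ => map_divFun_of_eq f hdY hdX hδ (heq i) (hg i) x
  · intro i hi
    by_contra hn
    exact hi (divFun_eq_zero_of_not_specializes δ _ fun h =>
      hn (hfin.mem_toFinset.2 ⟨x, h.mem_closure, hxU⟩))

/-- A point of the fibre product over two points of a common fibre, one with trivial residue extension. -/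
theorem exists_pullback_point (f : Y ⟶ X) {y y0 : Y} (h : f y0 = f y)
    (hy0 : Function.Surjective (f.residueFieldMap y0).hom) :
    ∃ z : ↥(pullback f f), pullback.fst f f z = y ∧ pullback.snd f f z = y0 ∧
      Function.Surjective ((pullback.fst f f).residueFieldMap z).hom := by
  haveI : IsIso (f.residueFieldMap y0) :=
    (ConcreteCategory.isIso_iff_bijective _).2 ⟨RingHom.injective (f.residueFieldMap y0).hom, hy0⟩
  let φ : Y.residueField y0 ⟶ Y.residueField y :=
    inv (f.residueFieldMap y0) ≫ (X.residueFieldCongr h).hom ≫ f.residueFieldMap y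
  have hc : Y.fromSpecResidueField y ≫ f = (Spec.map φ ≫ Y.fromSpecResidueField y0) ≫ f := by
    rw [Category.assoc, ← Scheme.Hom.SpecMap_residueFieldMap_fromSpecResidueField,
      ← Scheme.Hom.SpecMap_residueFieldMap_fromSpecResidueField, ← Spec.map_comp_assoc]
    simp only [φ, IsIso.hom_inv_id_assoc, Spec.map_comp, Category.assoc,
      Scheme.residueFieldCongr_fromSpecResidueField]
  let v := pullback.lift (f := f) (g := f) (Y.fromSpecResidueField y) (Spec.map φ ≫ Y.fromSpecResidueField y0) hc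
  let pt : ↥(Spec (Y.residueField y)) := default
  refine ⟨v pt, ?_, ?_, fun a => ?_⟩
  · rw [← Scheme.Hom.comp_apply, pullback.lift_fst, Scheme.fromSpecResidueField_apply]
  · rw [← Scheme.Hom.comp_apply, pullback.lift_snd, Scheme.Hom.comp_apply, Scheme.fromSpecResidueField_apply]
  · haveI : IsPreimmersion (v ≫ pullback.fst f f) := by rw [pullback.lift_fst]; infer_instance
    obtain ⟨b, hb⟩ := (residueFieldMap_bijective (v ≫ pullback.fst f f) pt).2 ((v.residueFieldMap pt).hom a)
    refine ⟨b, RingHom.injective (v.residueFieldMap pt).hom ?_⟩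
    rw [← hb, Scheme.residueFieldMap_comp]
    rfl

theorem residueDegree_congr {W Z : Scheme.{u}} {a b : W ⟶ Z} (e : a = b) (w : W) :
    a.residueDegree w = b.residueDegree w := by
  subst e
  rfl

theorem normGen_of_surjective (f : Y ⟶ X) {y : Y} (hy : Function.Surjective (f.residueFieldMap y).hom)
    (a : X.residueField (f y)) : Cyc.normGen f y ((f.residueFieldMap y).hom a) = a := by
  letI := (f.residueFieldMap y).hom.toAlgebra
  show Algebra.norm (X.residueField (f y)) (algebraMap (X.residueField (f y)) (Y.residueField y) a) = a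
  rw [Algebra.norm_algebraMap, show Module.finrank (X.residueField (f y)) (Y.residueField y) = 1 from
    residueDegree_of_surjective f hy, pow_one]

end Groth.Agent.CycLib
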