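import Mathlib.RingTheory.KrullDimension.Module
import Mathlib.RingTheory.Length
import Mathlib.RingTheory.Ideal.AssociatedPrime.Finiteness
import Mathlib.RingTheory.SimpleModule.Basic
import Mathlib.RingTheory.Support

/-! Finite modules supported at the closed point. -/

namespace Groth.Agent.CycLib

universe u v

variable {R : Type u} [CommRing R] [IsNoetherianRing R] [IsLocalRing R]

theorem length_ne_top_of_support {M : Type v} [AddCommGroup M] [Module R M] [Module.Finite R M]
    (h : Module.support R M ⊆ {IsLocalRing.closedPoint R}) : Module.length R M ≠ ⊤ := by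
  revert h
  refine IsNoetherianRing.induction_on_isQuotientEquivQuotientPrime (A := R) (M := M) ‹_›
    (motive := fun N _ _ _ => Module.support R N ⊆ {IsLocalRing.closedPoint R} → Module.length R N ≠ ⊤)
    ?_ ?_ ?_
  · intro N _ _ _ _ _
    rw [Module.length_eq_zero]
    simp
  · intro N _ _ _ q e hN
    have hq : q ∈ Module.support R N := by
      rw [e.support_eq, Module.support_eq_zeroLocus, Ideal.annihilator_quotient]
      exact fun _ hx => hx
    have hq' : q.asIdeal = IsLocalRing.maximalIdeal R := congrArg PrimeSpectrum.asIdeal (hN hq)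
    have : IsSimpleModule R (R ⧸ q.asIdeal) := by
      rw [hq']; exact isSimpleModule_iff_isCoatom.2 (IsLocalRing.maximalIdeal.isMaximal R).out
    rw [e.length_eq, Module.length_eq_one]
    simp
  · intro N₁ _ _ _ N₂ _ _ _ N₃ _ _ _ f g hf hg hfg h1 h3 hN
    rw [Module.length_eq_add_of_exact f g hf hg hfg]
    exact WithTop.add_ne_top.mpr ⟨h1 fun q hq => hN (Module.support_subset_of_injective f hf hq),
      h3 fun q hq => hN (Module.support_subset_of_surjective g hg hq)⟩

theorem support_subset_of_supportDim_le_zero {M : Type v} [AddCommGroup M] [Module R M] [Module.Finite R M]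
    (h : Module.supportDim R M ≤ 0) : Module.support R M ⊆ {IsLocalRing.closedPoint R} := by
  intro p hp
  have hnt : Nontrivial M := by
    by_contra hn
    rw [not_nontrivial_iff_subsingleton] at hn
    rw [Module.support_eq_empty] at hp
    exact hp
  have hc := IsLocalRing.closedPoint_mem_support R M
  have hmax := (Order.krullDim_nonpos_iff_forall_isMax (α := ↥(Module.support R M))).mp h ⟨p, hp⟩
  exact le_antisymm (IsLocalRing.le_maximalIdeal p.2.ne_top)
    (hmax (b := ⟨_, hc⟩) (IsLocalRing.le_maximalIdeal p.2.ne_top))

theorem length_lt_top_of_supportDim {M : Type v} [AddCommGroup M] [Module R M] [Module.Finite R M]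
    (h : Module.supportDim R M ≤ 0) : Module.length R M < ⊤ :=
  lt_top_iff_ne_top.mpr (length_ne_top_of_support (support_subset_of_supportDim_le_zero h))

end Groth.Agent.CycLib
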