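import Groth.Agent.LC.DepthExt
import Mathlib.RingTheory.Ideal.AssociatedPrime.Finiteness
import Mathlib.RingTheory.Ideal.Prime
import Mathlib.Algebra.Module.SpanRank
import Mathlib.RingTheory.Nakayama

/-! Minimal generators beginning with a regular sequence. -/

set_option autoImplicit false

universe u

open RingTheory.Sequence IsLocalRing

namespace Groth.Agent.CycLib

variable {T : Type u} [CommRing T] [IsNoetherianRing T] [IsLocalRing T]

theorem exists_generators_prefix (J : Ideal T) (hJ : J ≠ ⊤) (j c : ℕ) (hj : LocCoh.idealDepth J T = j)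
    (g : Fin c → T) (hg : Ideal.span (Set.range g) = J) :
    ∀ i : ℕ, i ≤ j → ∃ t : Fin c → T, Ideal.span (Set.range t) = J ∧ i ≤ c ∧
      IsWeaklyRegular T ((List.ofFn t).take i) := by
  classical
  intro i
  induction i with
  | zero => exact fun _ => ⟨g, hg, Nat.zero_le _, by rw [List.take_zero]; exact .nil T T⟩
  | succ i ih =>
    intro hij
    obtain ⟨t, ht, hic, hreg⟩ := ih (by omega)
    have hJm : J ≤ maximalIdeal T := le_maximalIdeal hJ
    have hL : ∀ r ∈ (List.ofFn t).take i, r ∈ J := fun r hr => by
      obtain ⟨l, rfl⟩ := List.mem_ofFn.1 (List.mem_of_mem_take hr)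
      exact ht ▸ Ideal.subset_span ⟨l, rfl⟩
    set L := Ideal.ofList ((List.ofFn t).take i)
    let Q := T ⧸ (L • ⊤ : Submodule T T)
    have hd : LocCoh.idealDepth J Q + i = j := by
      have := LC.idealDepth_quot_ofList (M := T) J hreg hL
      rwa [hj, List.length_take, List.length_ofFn, Nat.min_eq_left hic] at this
    have hJtop : J • (⊤ : Submodule T T) ≠ ⊤ := LC.smul_top_ne_top_of_le_maximal hJm
    obtain ⟨r, hrJ, hr⟩ : ∃ r ∈ J, IsSMulRegular Q r := by
      by_contra hc
      push Not at hc
      rw [LC.idealDepth_eq_zero_of_forall J (LC.smul_top_quot_ne_top J hJtop (LC.ofList_le J hL)) hc, zero_add] at hd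
      have : i = j := by exact_mod_cast hd
      omega
    have hnle : ¬ J ≤ L ⊔ maximalIdeal T • J := fun h => by
      have hfg : J.FG := IsNoetherian.noetherian J
      have hle : J ≤ L := Submodule.le_of_le_smul_of_le_jacobson_bot hfg
        (maximalIdeal_le_jacobson _) h
      have h2 := LC.idealDepth_ofList_le_length (M := T) ((List.ofFn t).take i) fun x hx => hJm (hL x hx)
      rw [show Ideal.ofList ((List.ofFn t).take i) = J from le_antisymm (LC.ofList_le J hL) hle, hj,
        List.length_take, List.length_ofFn, Nat.min_eq_left hic] at h2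
      have : j ≤ i := by exact_mod_cast h2
      omega
    obtain ⟨x, hxJ, hxA, hxreg⟩ : ∃ x ∈ J, x ∉ L ⊔ maximalIdeal T • J ∧ IsSMulRegular Q x := by
      by_contra hc
      push Not at hc
      have hfin := associatedPrimes.finite T Q
      let f : Option (Ideal T) → Ideal T := fun o => o.getD (L ⊔ maximalIdeal T • J)
      have hsub : (J : Set T) ⊆ ⋃ o ∈ (↑(insert none (hfin.toFinset.image some)) : Set (Option (Ideal T))), ↑(f o) := by
        intro x hx
        by_cases hxA : x ∈ L ⊔ maximalIdeal T • J
        · exact Set.mem_biUnion (Finset.mem_coe.2 (Finset.mem_insert_self none _)) hxA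
        · have hnr := hc x hx hxA
          have hz : x ∈ ⋃ p ∈ associatedPrimes T Q, (p : Set T) := by
            rw [biUnion_associatedPrimes_eq_zero_divisors T Q]
            by_contra hno
            refine hnr (IsSMulRegular.of_right_eq_zero_of_smul fun y hy => ?_)
            by_contra hy0
            exact hno ⟨y, hy0, hy⟩
          obtain ⟨p, hp, hxp⟩ := Set.mem_iUnion₂.1 hz
          exact Set.mem_biUnion (Finset.mem_coe.2 (Finset.mem_insert_of_mem
            (Finset.mem_image_of_mem some (hfin.mem_toFinset.2 hp)))) hxp
      rw [Ideal.subset_union_prime none none] at hsub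
      · obtain ⟨o, ho, hle⟩ := hsub
        rcases Finset.mem_insert.1 ho with rfl | ho
        · exact hnle hle
        · obtain ⟨p, hp, rfl⟩ := Finset.mem_image.1 ho
          have hz : r ∈ ⋃ p ∈ associatedPrimes T Q, (p : Set T) :=
            Set.mem_biUnion (hfin.mem_toFinset.1 hp) (hle hrJ)
          rw [biUnion_associatedPrimes_eq_zero_divisors T Q] at hz
          obtain ⟨y, hy0, hy⟩ := hz
          exact hy0 (hr (hy.trans (smul_zero r).symm))
      · intro o ho hne _
        rcases Finset.mem_insert.1 ho with rfl | ho
        · exact absurd rfl hne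
        · obtain ⟨p, hp, rfl⟩ := Finset.mem_image.1 ho
          exact (hfin.mem_toFinset.1 hp).isPrime
    obtain ⟨a, ha⟩ := Ideal.mem_span_range_iff_exists_fun.1 (ht.symm ▸ hxJ)
    obtain ⟨l, hil, hl⟩ : ∃ l : Fin c, i ≤ (l : ℕ) ∧ IsUnit (a l) := by
      by_contra hc
      push Not at hc
      refine hxA (ha ▸ Ideal.sum_mem _ fun l _ => ?_)
      by_cases hli : i ≤ (l : ℕ)
      · exact Ideal.mem_sup_right (Submodule.smul_mem_smul ((mem_maximalIdeal _).2 (hc l hli))
          (ht ▸ Ideal.subset_span ⟨l, rfl⟩))
      · refine Ideal.mem_sup_left (Ideal.mul_mem_left _ _ (Ideal.subset_span ?_))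
        show t l ∈ (List.ofFn t).take i
        rw [List.mem_take_iff_getElem]
        exact ⟨(l : ℕ), lt_min (not_le.1 hli) (by rw [List.length_ofFn]; exact l.2), by simp⟩
    have hic' : i < c := lt_of_le_of_lt hil l.2
    let σ := Equiv.swap (⟨i, hic'⟩ : Fin c) l
    let t' : Fin c → T := Function.update t l x ∘ σ
    refine ⟨t', ?_, hic', ?_⟩
    · rw [Set.range_comp, σ.surjective.range_eq, Set.image_univ]
      refine le_antisymm (Ideal.span_le.2 ?_) ?_
      · rintro _ ⟨m, rfl⟩
        rcases eq_or_ne m l with rfl | hm
        · rw [Function.update_self]; exact hxJ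
        · rw [Function.update_of_ne hm]; exact ht ▸ Ideal.subset_span ⟨m, rfl⟩
      · rw [← ht]
        refine Ideal.span_le.2 ?_
        rintro _ ⟨m, rfl⟩
        have hmem : ∀ m, m ≠ l → t m ∈ Ideal.span (Set.range (Function.update t l x)) := fun m hm =>
          Ideal.subset_span ⟨m, Function.update_of_ne hm _ _⟩
        rcases eq_or_ne m l with rfl | hm
        · rw [← Finset.add_sum_erase _ _ (Finset.mem_univ m)] at ha
          have h1 : a m * t m ∈ Ideal.span (Set.range (Function.update t m x)) := by
            rw [eq_sub_of_add_eq ha]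
            exact sub_mem (Ideal.subset_span ⟨m, Function.update_self _ _ _⟩)
              (Ideal.sum_mem _ fun b hb => Ideal.mul_mem_left _ _ (hmem b (Finset.ne_of_mem_erase hb)))
          exact (Ideal.unit_mul_mem_iff_mem _ hl).1 h1
        · exact hmem m hm
    · have e : (List.ofFn t').take (i + 1) = (List.ofFn t).take i ++ [x] := by
        refine List.ext_getElem (by simp; omega) fun m h1 h2 => ?_
        simp only [List.length_take, List.length_ofFn] at h1
        rw [List.getElem_take, List.getElem_ofFn]
        by_cases hm : m < i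
        · rw [List.getElem_append_left (by simp; omega), List.getElem_take, List.getElem_ofFn]
          have hne1 : (⟨m, by omega⟩ : Fin c) ≠ ⟨i, hic'⟩ := fun h => by simp [Fin.ext_iff] at h; omega
          have hne2 : (⟨m, by omega⟩ : Fin c) ≠ l := fun h => by rw [← h] at hil; simp at hil; omega
          show Function.update t l x (σ _) = _
          rw [Equiv.swap_apply_of_ne_of_ne hne1 hne2, Function.update_of_ne hne2]
        · obtain rfl : m = i := by omega
          rw [List.getElem_append_right (by simp)]
          show Function.update t l x (σ _) = _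
          rw [show σ ⟨m, by omega⟩ = l from Equiv.swap_apply_left _ _, Function.update_self]
          simp
      rw [e, LC.isWeaklyRegular_concat_iff]
      exact ⟨hreg, hxreg⟩

end Groth.Agent.CycLib
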