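import Groth.Agent.CycLib.Dim1Mod
import Groth.Agent.CycLib.DetBase
import Groth.Agent.IntThLib.Dim1
import Mathlib.Algebra.Module.LocalizedModule.Exact
import Mathlib.RingTheory.Ideal.AssociatedPrime.Localization

/-! Sequences with all successive quotients `R ⧸ q`. -/

set_option linter.unusedSectionVars false

namespace Groth.Agent.CycLib

open CycDet

universe u

variable {R : Type u} [CommRing R] [IsNoetherianRing R] [IsLocalRing R]

/-- The length of a localisation. -/
noncomputable abbrev locLen (q : PrimeSpectrum R) (N : Type u) [AddCommGroup N] [Module R N] : ℕ∞ :=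
  Module.length (Localization.AtPrime q.asIdeal) (LocalizedModule q.asIdeal.primeCompl N)

theorem locLen_exact {A B C : Type u} [AddCommGroup A] [Module R A] [AddCommGroup B] [Module R B]
    [AddCommGroup C] [Module R C] (q : PrimeSpectrum R) (f : A →ₗ[R] B) (g : B →ₗ[R] C)
    (hf : Function.Injective f) (hg : Function.Surjective g) (h : Function.Exact f g) :
    locLen q B = locLen q A + locLen q C :=
  Module.length_eq_add_of_exact _ _ (LocalizedModule.map_injective q.asIdeal.primeCompl f hf)
    (LocalizedModule.map_surjective q.asIdeal.primeCompl g hg)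
    (LocalizedModule.map_exact q.asIdeal.primeCompl f g h)

theorem locLen_sub {M : Type u} [AddCommGroup M] [Module R M] (q : PrimeSpectrum R) (P : Submodule R M) :
    locLen q M = locLen q P + locLen q (M ⧸ P) :=
  locLen_exact q P.subtype P.mkQ (Submodule.injective_subtype P) (Submodule.mkQ_surjective P)
    (LinearMap.exact_subtype_mkQ P)

theorem locLen_eq_zero_iff {M : Type u} [AddCommGroup M] [Module R M] (q : PrimeSpectrum R) :
    locLen q M = 0 ↔ q ∉ Module.support R M := by
  rw [Module.notMem_support_iff]
  exact Module.length_eq_zero_iff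

variable {M : Type u} [AddCommGroup M] [Module R M]

/-- All successive quotients are `R ⧸ q`. -/
def GoodChain (q : PrimeSpectrum R) {l : ℕ} (x : Fin l → M) : Prop :=
  ∀ i : Fin l, Nonempty ((↥(spanBefore R M x (i + 1)) ⧸
    (spanBefore R M x i).submoduleOf (spanBefore R M x (i + 1))) ≃ₗ[R] (R ⧸ q.asIdeal))

theorem locLen_chain {q : PrimeSpectrum R} {l : ℕ} {x : Fin l → M} (hx : GoodChain q x) :
    ∀ k, k ≤ l → locLen q (spanBefore R M x k) = k := by
  intro k
  induction k with
  | zero =>
    intro _
    rw [Nat.cast_zero, locLen_eq_zero_iff, spanBefore_zero]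
    simp [Module.support_eq_empty]
  | succ k ih =>
    intro hk
    obtain ⟨e⟩ := hx ⟨k, hk⟩
    have hle := spanBefore_mono (R := R) x (Nat.le_succ k)
    rw [locLen_exact q (Submodule.inclusion hle)
      ((spanBefore R M x k).submoduleOf (spanBefore R M x (k + 1))).mkQ (Submodule.inclusion_injective hle)
      (Submodule.mkQ_surjective _) (LinearMap.exact_iff.mpr (by
        rw [Submodule.ker_mkQ, Submodule.range_inclusion]; rfl)), ih (by omega)]
    rw [show locLen q (↥(spanBefore R M x (k + 1)) ⧸ (spanBefore R M x k).submoduleOf (spanBefore R M x (k + 1))) =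
      locLen q (R ⧸ q.asIdeal) from IntThLib.length_localized_equiv q.asIdeal e,
      show locLen q (R ⧸ q.asIdeal) = 1 from IntThLib.length_localized_self q.asIdeal]
    norm_cast

theorem locLen_of_chain {q : PrimeSpectrum R} {l : ℕ} {x : Fin l → M} (hx : GoodChain q x)
    (h : q ∉ Module.support R (M ⧸ Submodule.span R (Set.range x))) : locLen q M = l := by
  rw [locLen_sub q (Submodule.span R (Set.range x)), (locLen_eq_zero_iff q).mpr h, add_zero,
    ← spanBefore_last (R := R) x le_rfl]
  exact locLen_chain hx l le_rfl

theorem exists_chain [Module.Finite R M] {q : PrimeSpectrum R}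
    (hq : Minimal (fun p : PrimeSpectrum R => p ∈ Module.support R M) q) :
    ∀ k : ℕ, (k : ℕ∞) ≤ locLen q M → ∃ x : Fin k → M, GoodChain q x := by
  intro k
  induction k with
  | zero => exact fun _ => ⟨Fin.elim0, fun i => i.elim0⟩
  | succ k ih =>
    intro hk
    obtain ⟨x, hx⟩ := ih ((Nat.cast_le.mpr k.le_succ).trans hk)
    let P := Submodule.span R (Set.range x)
    have hne : q ∈ Module.support R (M ⧸ P) := by
      by_contra h
      rw [locLen_of_chain hx h, Nat.cast_le] at hk
      exact Nat.not_succ_le_self k hk
    have hass : q.asIdeal ∈ associatedPrimes R (M ⧸ P) := by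
      refine Module.associatedPrimes.minimalPrimes_annihilator_subset_associatedPrimes R (M ⧸ P)
        ⟨⟨q.2, Module.annihilator_le_of_mem_support hne⟩, fun J hJ hJq => ?_⟩
      have hJs : (⟨J, hJ.1⟩ : PrimeSpectrum R) ∈ Module.support R (M ⧸ P) := by
        rw [Module.support_eq_zeroLocus]
        exact hJ.2
      exact hq.le_of_le (Module.support_subset_of_surjective _ (Submodule.mkQ_surjective P) hJs) hJq
    obtain ⟨-, f, hf⟩ := (isAssociatedPrime_iff_exists_injective_linearMap q.asIdeal (M ⧸ P)).mp hass
    obtain ⟨m, hm⟩ := Submodule.mkQ_surjective P (f 1)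
    let x' : Fin (k + 1) → M := Fin.snoc x m
    refine ⟨x', fun i => ?_⟩
    have hsame : ∀ j, j ≤ k → spanBefore R M x' j = spanBefore R M x j := fun j hj => by
      rw [spanBefore, spanBefore]
      congr 1
      ext z
      constructor
      · rintro ⟨t, ht, rfl⟩
        obtain ⟨t, rfl⟩ := Fin.eq_castSucc_of_ne_last (x := t) (fun h => by rw [h] at ht; exact absurd ht (by simp; omega))
        exact ⟨t, ht, (Fin.snoc_castSucc (α := fun _ => M) m x t).symm⟩
      · rintro ⟨t, ht, rfl⟩
        exact ⟨t.castSucc, ht, Fin.snoc_castSucc (α := fun _ => M) m x t⟩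
    induction i using Fin.lastCases with
    | cast i =>
      rw [Fin.val_castSucc, hsame _ i.2, hsame _ i.2.le]
      exact hx i
    | last =>
      rw [Fin.val_last, hsame k le_rfl]
      have hS : spanBefore R M x' (k + 1) = P ⊔ Submodule.span R {m} := by
        have h := spanBefore_succ (R := R) x' (Fin.last k)
        rw [Fin.val_last, hsame k le_rfl, spanBefore_last x le_rfl] at h
        simpa [x'] using h
      rw [hS, spanBefore_last x le_rfl]
      have hfr : ∀ r : R, P.mkQ (r • m) = f (Submodule.Quotient.mk r) := fun r => by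
        rw [map_smul, hm, ← map_smul]
        exact congrArg f (by rw [Algebra.smul_def, mul_one]; rfl)
      let g : R →ₗ[R] (↥(P ⊔ Submodule.span R {m}) ⧸ P.submoduleOf (P ⊔ Submodule.span R {m})) :=
        Submodule.mkQ _ ∘ₗ LinearMap.toSpanSingleton R _
          ⟨m, Submodule.mem_sup_right (Submodule.mem_span_singleton_self m)⟩
      have hker : LinearMap.ker g = q.asIdeal := by
        ext r
        show Submodule.Quotient.mk _ = 0 ↔ _
        rw [Submodule.Quotient.mk_eq_zero]
        show r • m ∈ P ↔ _
        rw [← Submodule.Quotient.mk_eq_zero P, ← Submodule.mkQ_apply, hfr, map_eq_zero_iff f hf,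
          Submodule.Quotient.mk_eq_zero]
      have hsurj : Function.Surjective g := fun z => by
        obtain ⟨⟨z, hz⟩, rfl⟩ := Submodule.mkQ_surjective _ z
        obtain ⟨a, ha, b, hb, hab⟩ := Submodule.mem_sup.mp hz
        obtain ⟨r, rfl⟩ := Submodule.mem_span_singleton.mp hb
        refine ⟨r, ?_⟩
        show Submodule.Quotient.mk _ = Submodule.Quotient.mk _
        rw [Submodule.Quotient.eq]
        show r • m - z ∈ P
        rw [← hab, sub_add_cancel_right]
        exact neg_mem ha
      exact ⟨(g.quotKerEquivOfSurjective hsurj).symm.trans (Submodule.quotEquivOfEq _ _ hker)⟩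

theorem exists_goodChain [Module.Finite R M] {q : PrimeSpectrum R}
    (hq : Minimal (fun p : PrimeSpectrum R => p ∈ Module.support R M) q) :
    ∃ (l : ℕ) (x : Fin l → M), q ∉ Module.support R (M ⧸ Submodule.span R (Set.range x)) ∧ GoodChain q x := by
  have hfin : locLen q M ≠ ⊤ :=
    length_localized_ne_top_of_minimal q fun p hp hle => le_antisymm hle (hq.le_of_le hp hle)
  obtain ⟨x, hx⟩ := exists_chain hq _ (ENat.natCast_toNat hfin).le
  refine ⟨_, x, (locLen_eq_zero_iff q).mp ?_, hx⟩
  have h := locLen_sub q (Submodule.span R (Set.range x))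
  rw [← spanBefore_last (R := R) x le_rfl, locLen_chain hx _ le_rfl, ENat.natCast_toNat hfin] at h
  rw [← spanBefore_last (R := R) x le_rfl]
  exact ENat.add_right_injective_of_ne_top hfin (h.symm.trans (add_zero _).symm)

end Groth.Agent.CycLib
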