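import Groth.Agent.CycLib.Basic
import Groth.Agent.DimFormula.Scheme

/-! The induced dimension function of a scheme locally of finite type. -/

set_option autoImplicit false

universe u

open AlgebraicGeometry CategoryTheory

namespace Groth.Agent.CycLib

variable {X S : Scheme.{u}}

theorem deltaCompat_eq (f : X ⟶ S) [LocallyOfFiniteType f] {δ : S → ℤ} {δX : X → ℤ}
    (hδ : Cyc.DeltaCompat f δX δ) (x : X) : δX x = δ (f x) + FibDim.rd f x := by
  obtain ⟨n, hn, he⟩ := hδ x
  rw [he]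
  have h := FibDim.rd_eq_rdeg f x
  rw [VarDim.rdeg, hn] at h
  rw [Nat.cast_injective h]

theorem cd_eq_of_deltaCompat (f : X ⟶ S) [LocallyOfFiniteType f] {δ : S → ℤ} {δX : X → ℤ}
    (hS : Cyc.IsSetup S δ) (hδ : Cyc.DeltaCompat f δX δ) {η x : X} (h : η ⤳ x) :
    haveI := hS.1
    haveI := LocallyOfFiniteType.isLocallyNoetherian f
    (DimFormula.cd η x : ℤ) = δX η - δX x := by
  haveI := hS.1
  haveI := LocallyOfFiniteType.isLocallyNoetherian f
  have h1 := (DimFormula.cd_formula f h).2 (hS.2.1 (f x))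
  have h2 := cd_eq hS.2.2 (h.map f.continuous)
  rw [deltaCompat_eq f hδ η, deltaCompat_eq f hδ x]
  omega

theorem isDimFun_of_deltaCompat (f : X ⟶ S) [LocallyOfFiniteType f] {δ : S → ℤ} {δX : X → ℤ}
    (hS : Cyc.IsSetup S δ) (hδ : Cyc.DeltaCompat f δX δ) : Cyc.IsDimFun X δX := by
  haveI := hS.1
  haveI := LocallyOfFiniteType.isLocallyNoetherian f
  intro η x h hne
  have h0 : DimFormula.cd η x ≠ 0 := fun h0 => hne ((DimFormula.cd_eq_zero_iff h).1 h0)
  have h1 := cd_eq_of_deltaCompat f hS hδ h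
  refine ⟨by omega, fun himm => ?_⟩
  suffices DimFormula.cd η x ≤ 1 by omega
  obtain ⟨l, hl0, hl1, hl⟩ := DimFormula.exists_cd_series h
  rw [← hl]
  by_contra hlen
  push Not at hlen
  let z := l ⟨1, by omega⟩
  have hz1 : l.head < z := l.strictMono (show (0 : Fin (l.length + 1)) < ⟨1, by omega⟩ by rw [Fin.lt_def]; simp)
  have hz2 : z < l.last := l.strictMono (show (⟨1, by omega⟩ : Fin (l.length + 1)) < Fin.last _ by
    rw [Fin.lt_def]; simp; omega)
  have hzx : z ⤳ x := hl0 ▸ hz1.le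
  have hzl : l.last ⤳ z := hz2.le
  rcases himm z (hl1.trans hzl) hzx with e | e
  · exact hz2.not_ge (show l.last ≤ z from e ▸ hl1)
  · exact hz1.not_ge (show z ≤ l.head from e ▸ hl0 ▸ le_rfl)

end Groth.Agent.CycLib
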