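import Groth.Agent.CycLib.P1Div

/-! The degree of the divisor of the coordinate function on the projective line is zero. -/

set_option autoImplicit false

universe u

open AlgebraicGeometry CategoryTheory TopologicalSpace Polynomial

namespace Groth.Agent.CycLib

variable (K : Type u) [Field K]

/-- The origin of a chart. -/
noncomputable abbrev org : Spec (CommRingCat.of K[X]) :=
  Spec.map (CommRingCat.ofHom (evalRingHom (0 : K))) (pt K)

theorem asIdeal_org : (show PrimeSpectrum K[X] from org K).asIdeal = Ideal.span {(X : K[X])} := by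
  show Ideal.comap (evalRingHom (0 : K)) (IsLocalRing.maximalIdeal K) = _
  rw [IsLocalRing.maximalIdeal_eq_bot]
  ext p
  simp [Ideal.mem_span_singleton, X_dvd_iff, coeff_zero_eq_eval_zero]

theorem eq_gen_or_eq_org {i : Fin (1 + 1)} {w : Spec (CommRingCat.of K[X])} (h : w ⤳ org K) :
    w = gen K i ∨ w = org K := by
  have hle : (show PrimeSpectrum K[X] from w).asIdeal ≤ (show PrimeSpectrum K[X] from org K).asIdeal :=
    (PrimeSpectrum.le_iff_specializes (R := K[X]) w (org K)).2 h
  by_cases hw : (show PrimeSpectrum K[X] from w).asIdeal = ⊥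
  · exact Or.inl (PrimeSpectrum.ext (hw.trans (asIdeal_gen K i).symm))
  · exact Or.inr (PrimeSpectrum.ext ((Ideal.IsPrime.isMaximal (show PrimeSpectrum K[X] from w).isPrime hw).eq_of_le
      (show PrimeSpectrum K[X] from org K).isPrime.ne_top hle))

theorem gen_specializes (i : Fin (1 + 1)) (z : Spec (CommRingCat.of K[X])) : gen K i ⤳ z :=
  (PrimeSpectrum.le_iff_specializes (R := K[X]) (gen K i) z).1
    (show (show PrimeSpectrum K[X] from gen K i).asIdeal ≤ _ by rw [asIdeal_gen]; exact bot_le)

theorem gen_ne_org (i : Fin (1 + 1)) : gen K i ≠ org K := fun h => by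
  have h1 := congrArg (fun q : Spec (CommRingCat.of K[X]) => (show PrimeSpectrum K[X] from q).asIdeal) h
  simp only [asIdeal_gen, asIdeal_org] at h1
  exact X_ne_zero (Ideal.span_singleton_eq_bot.1 h1.symm)

theorem mem_basicOpen_spec (z : Spec (CommRingCat.of K[X])) (p : K[X]) :
    IsUnit ((Spec (CommRingCat.of K[X])).presheaf.germ ⊤ z trivial ((Scheme.ΓSpecIso (CommRingCat.of K[X])).inv p)) ↔
      p ∉ (show PrimeSpectrum K[X] from z).asIdeal := by
  rw [← Scheme.mem_basicOpen, basicOpen_eq_of_affine]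
  rfl

variable {K}

theorem divFun_evalAt {δ : Spec (CommRingCat.of K[X]) → ℤ} (hd : Cyc.IsDimFun (Spec (CommRingCat.of K[X])) δ)
    (i : Fin (1 + 1)) (z : Spec (CommRingCat.of K[X])) [Decidable (z = org K)] :
    Cyc.divFun δ (gen K i) (evalAt K (gen K i) X) z = if z = org K then 1 else 0 := by
  let γ := (Scheme.ΓSpecIso (CommRingCat.of K[X])).inv
  split_ifs with hz
  · subst hz
    have hδ : δ (org K) + 1 = δ (gen K i) :=
      ((hd _ _ (gen_specializes K i (org K)) (gen_ne_org K i)).2 fun w _ h2 => eq_gen_or_eq_org K h2).symm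
    have h := gen_specializes K i (org K)
    rw [divFun_eq δ _ h hδ]
    let g := (Spec (CommRingCat.of K[X])).presheaf.germ ⊤ (org K) trivial (γ X)
    have hX : X ∈ (show PrimeSpectrum K[X] from org K).asIdeal := by
      rw [asIdeal_org]; exact Ideal.mem_span_singleton_self _
    have hmax : Ideal.span {g} = IsLocalRing.maximalIdeal _ := by
      refine le_antisymm ((Ideal.span_singleton_le_iff_mem _).2 ?_) fun a ha => ?_
      · rw [IsLocalRing.mem_maximalIdeal, mem_nonunits_iff, mem_basicOpen_spec]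
        exact fun hn => hn hX
      · letI := (Spec (CommRingCat.of K[X])).presheaf.algebra_section_stalk (U := (⊤ : (Spec (CommRingCat.of K[X])).Opens)) ⟨org K, trivial⟩
        haveI := (isAffineOpen_top (Spec (CommRingCat.of K[X]))).isLocalization_stalk ⟨org K, trivial⟩
        obtain ⟨⟨v, s⟩, hvs⟩ := IsLocalization.surj
          ((isAffineOpen_top (Spec (CommRingCat.of K[X]))).primeIdealOf ⟨org K, trivial⟩).asIdeal.primeCompl a
        obtain ⟨p, rfl⟩ : ∃ p, γ p = v := ⟨(Scheme.ΓSpecIso (CommRingCat.of K[X])).hom v,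
          congrArg (fun m : Γ(Spec (CommRingCat.of K[X]), ⊤) ⟶ Γ(Spec (CommRingCat.of K[X]), ⊤) => m.hom v)
            (Scheme.ΓSpecIso (CommRingCat.of K[X])).hom_inv_id⟩
        have hu := IsLocalization.map_units ((Spec (CommRingCat.of K[X])).presheaf.stalk (org K)) s
        have hp : p ∈ (show PrimeSpectrum K[X] from org K).asIdeal := by
          by_contra hn
          refine (IsLocalRing.mem_maximalIdeal a).1 ha (isUnit_of_mul_isUnit_left (y := algebraMap _ _ s.1) ?_)
          rw [hvs]
          exact (mem_basicOpen_spec K (org K) p).2 hn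
        rw [asIdeal_org, Ideal.mem_span_singleton] at hp
        obtain ⟨q, rfl⟩ := hp
        have h1 : a * algebraMap _ _ s.1 ∈ Ideal.span {g} := by
          rw [hvs]
          show (Spec (CommRingCat.of K[X])).presheaf.germ ⊤ (org K) trivial (γ (X * q)) ∈ _
          rw [map_mul, map_mul]
          exact Ideal.mul_mem_right _ _ (Ideal.mem_span_singleton_self _)
        exact (Ideal.mul_unit_mem_iff_mem _ hu).1 h1
    let R := Cyc.LocQuot (org K) (gen K i) h
    have heval : evalAt K (gen K i) X = algebraMap R _ (Ideal.Quotient.mk _ g) :=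
      (specMap_germ h ⊤ trivial (γ X)).symm
    have hg0 : (Ideal.Quotient.mk (RingHom.ker (Cyc.specMap (org K) (gen K i) h)) g : R) ≠ 0 := fun h0 => by
      have h1 : evalAt K (gen K i) X = 0 := by rw [heval, h0, map_zero]
      have h2 := (Scheme.evaluation_eq_zero_iff_notMem_basicOpen _ (gen K i) (show gen K i ∈ (⊤ : (Spec (CommRingCat.of K[X])).Opens) from trivial) (γ X)).1 h1
      rw [basicOpen_eq_of_affine] at h2
      refine h2 (show X ∉ (show PrimeSpectrum K[X] from gen K i).asIdeal from ?_)
      rw [asIdeal_gen]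
      exact fun hmem => X_ne_zero (Ideal.mem_bot.1 hmem)
    rw [heval, ordAt_algebraMap hd h hδ hg0]
    have hmax' : Ideal.span {(Ideal.Quotient.mk (RingHom.ker (Cyc.specMap (org K) (gen K i) h)) g : R)} =
        IsLocalRing.maximalIdeal R := by
      refine IsLocalRing.eq_maximalIdeal ?_
      rw [show Ideal.span {(Ideal.Quotient.mk (RingHom.ker (Cyc.specMap (org K) (gen K i) h)) g : R)} =
        (Ideal.span {g}).map (Ideal.Quotient.mk _) by rw [Ideal.map_span, Set.image_singleton], hmax]
      refine (Ideal.map_eq_top_or_isMaximal_of_surjective (Ideal.Quotient.mk (RingHom.ker (Cyc.specMap (org K) (gen K i) h))) Ideal.Quotient.mk_surjective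
        (IsLocalRing.maximalIdeal.isMaximal _)).resolve_left fun htop => ?_
      have h2 := congrArg (Ideal.comap (Ideal.Quotient.mk (RingHom.ker (Cyc.specMap (org K) (gen K i) h)))) htop
      rw [Ideal.comap_map_of_surjective' _ Ideal.Quotient.mk_surjective, Ideal.mk_ker,
        sup_eq_left.2 (IsLocalRing.le_maximalIdeal (RingHom.ker_ne_top _)), Ideal.comap_top] at h2
      exact (IsLocalRing.maximalIdeal.isMaximal _).ne_top h2
    haveI : IsSimpleModule R (R ⧸ IsLocalRing.maximalIdeal R) :=
      isSimpleModule_iff_isCoatom.2 (IsLocalRing.maximalIdeal.isMaximal R).out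
    rw [Ring.ord, hmax', Module.length_eq_one]
    rfl
  · by_cases h : gen K i ⤳ z ∧ δ z + 1 = δ (gen K i)
    · rw [divFun_eq δ _ h.1 h.2, show evalAt K (gen K i) X = _ from (specMap_germ h.1 ⊤ trivial (γ X)).symm,
        ordAt_eq_zero_of_isUnit hd h.1 h.2]
      rw [mem_basicOpen_spec]
      intro hX
      refine hz (PrimeSpectrum.ext ?_)
      rw [asIdeal_org]
      exact (Ideal.IsMaximal.eq_of_le (PrincipalIdealRing.isMaximal_of_irreducible irreducible_X)
        (show PrimeSpectrum K[X] from z).isPrime.ne_top ((Ideal.span_singleton_le_iff_mem _).2 hX)).symm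
    · exact dif_neg h

theorem isDimFun_openImmersion {W Y : Scheme.{u}} (j : W ⟶ Y) [IsOpenImmersion j] {δ : Y → ℤ}
    (hd : Cyc.IsDimFun Y δ) : Cyc.IsDimFun W (fun w => δ (j w)) := by
  intro a b hab hne
  refine ⟨delta_lt hd (hab.map j.continuous) (j.isOpenEmbedding.injective.ne hne), fun h => ?_⟩
  refine (hd _ _ (hab.map j.continuous) (j.isOpenEmbedding.injective.ne hne)).2 fun z h1 h2 => ?_
  obtain ⟨z, rfl⟩ : z ∈ Set.range j := h2.mem_open j.isOpenEmbedding.isOpen_range ⟨b, rfl⟩
  rcases h z (j.isOpenEmbedding.isInducing.specializes_iff.1 h1) (j.isOpenEmbedding.isInducing.specializes_iff.1 h2) with rfl | rfl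
  exacts [Or.inl rfl, Or.inr rfl]

variable {P : Scheme.{u}} (j : Fin (1 + 1) → (Spec (CommRingCat.of K[X]) ⟶ P))
  [∀ i, IsOpenImmersion (j i)] (φ : Spec (CommRingCat.of (RF K)) ⟶ P)
  (hφ : ∀ i, φ = Spec.map (CommRingCat.ofHom (alpha K i)) ≫ j i)
  (hcov : ∀ x : P, ∃ i z, j i z = x) (π : P ⟶ Spec (CommRingCat.of K)) [LocallyOfFiniteType π]
  (hπ : ∀ i, j i ≫ π = Spec.map (CommRingCat.ofHom C))

include hπ in
theorem residueDegree_org (i : Fin (1 + 1)) : π.residueDegree (j i (org K)) = 1 := by
  have h := residueDegree_comp (Spec.map (CommRingCat.ofHom (evalRingHom (0 : K))) ≫ j i) π (pt K)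
  have he : (Spec.map (CommRingCat.ofHom (evalRingHom (0 : K))) ≫ j i) ≫ π = 𝟙 _ := by
    rw [Category.assoc, hπ, ← Spec.map_comp, ← CommRingCat.ofHom_comp]
    rw [show (evalRingHom (0 : K)).comp C = RingHom.id K from RingHom.ext fun a => by simp]
    exact Spec.map_id _
  rw [Scheme.Hom.residueDegree, Scheme.Hom.residueFieldMap_congr he] at h
  rw [← Scheme.Hom.comp_apply]
  refine Nat.eq_one_of_mul_eq_one_right (n := (Spec.map (CommRingCat.ofHom (evalRingHom (0 : K))) ≫ j i).residueDegree (pt K)) ?_
  rw [← residueDegree_comp]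
  simp [he]

include hφ hcov hπ in
/-- The divisor of `t` has degree zero. -/
theorem sum_coord_eq_zero [IsLocallyNoetherian P] {δ : P → ℤ} (hd : Cyc.IsDimFun P δ)
    (hδ : Cyc.DeltaCompat π δ (fun _ => 0)) (t : P.residueField (φ (pt (RF K)))) (ht : ptHom φ t = tF K) :
    ∑ᶠ x, Cyc.divFun δ (φ (pt (RF K))) t x *
      (AlgebraicCycle.mapCoeff π δ (fun _ => (0 : ℤ)) x : ℤ) = 0 := by
  classical
  have hgen : ∀ i, j i (gen K i) = φ (pt (RF K)) := fun i => by rw [hφ i, Scheme.Hom.comp_apply]
  have ht0 : t ≠ 0 := fun h => tF_ne_zero K (by rw [← ht, h, map_zero])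
  have hval : ∀ i z, Cyc.divFun δ (φ (pt (RF K))) t (j i z) =
      if z = org K then (if i = 0 then 1 else -1) else 0 := by
    intro i z
    have hdi := isDimFun_openImmersion (j i) hd
    have h1 : Cyc.divFun δ (j i (gen K i)) ((P.residueFieldCongr (hgen i)).inv t) = Cyc.divFun δ (φ (pt (RF K))) t := by
      rw [Scheme.residueFieldCongr_inv]
      exact divFun_congr _ t
    rw [← h1, ← divFun_preimmersion (j i) 0 (δW := fun w => δ (j i w)) (fun w => (add_zero _).symm),
      chart_coord j φ hφ i t ht (hgen i)]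
    rcases eq_or_ne i 0 with hi | hi
    · rw [if_pos hi, if_pos hi, divFun_evalAt hdi]
    · rw [if_neg hi, if_neg hi, divFun_inv hdi, Pi.neg_apply, divFun_evalAt hdi]
      · split_ifs <;> simp
      · intro h0
        refine ht0 ?_
        have h2 := chart_coord j φ hφ i t ht (hgen i)
        rw [if_neg hi, h0, inv_zero] at h2
        have h3 := (residueFieldMap_bijective (j i) _).1 (h2.trans (map_zero ((j i).residueFieldMap (gen K i)).hom).symm)
        have h4 := congrArg (P.residueFieldCongr (hgen i)).hom h3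
        simpa using h4
  have hx : ∀ i, AlgebraicCycle.mapCoeff π δ (fun _ => (0 : ℤ)) (j i (org K)) = 1 := fun i => by
    have hdeg := residueDegree_org j π hπ i
    have hrd : FibDim.rd π (j i (org K)) = 0 := by
      refine rd_eq_zero_of_finite π _ ?_
      letI := (π.residueFieldMap (j i (org K))).hom.toAlgebra
      exact Module.finite_of_finrank_pos (by rw [Scheme.Hom.residueDegree] at hdeg; exact hdeg.symm ▸ Nat.one_pos)
    have h := deltaCompat_eq π hδ (j i (org K))
    rw [hrd] at h
    rw [AlgebraicCycle.mapCoeff, if_pos (by simpa using h), hdeg]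
  have hne : j 0 (org K) ≠ j 1 (org K) := fun h => by
    have h0 := hval 0 (org K)
    rw [h, hval 1 (org K)] at h0
    simp at h0
  rw [finsum_eq_sum_of_support_subset _ (s := ({j 0 (org K), j 1 (org K)} : Finset P))]
  · rw [Finset.sum_pair hne, hx, hx, hval, hval]
    simp
  · intro x hx'
    obtain ⟨i, z, rfl⟩ := hcov x
    rw [Function.mem_support, hval] at hx'
    by_cases hz : z = org K
    · subst hz
      simp only [Finset.coe_insert, Finset.coe_singleton, Set.mem_insert_iff, Set.mem_singleton_iff]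
      rcases (Fin.forall_fin_two.2 ⟨Or.inl rfl, Or.inr rfl⟩ : ∀ l : Fin (1 + 1), l = 0 ∨ l = 1) i with rfl | rfl
      exacts [Or.inl rfl, Or.inr rfl]
    · simp [hz] at hx'

end Groth.Agent.CycLib
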