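import Groth.Agent.CycLib.DivMap
import Groth.Agent.CycLib.LFT
import Groth.Agent.CycLib.Push
import Groth.Agent.CycLib.Finite
import Groth.Agent.DimFormula.Fibre
import Groth.Agent.FibDim.BaseField
import Groth.Agent.H23.P1Charts
import Groth.Agent.ProjPt.Basic

/-! The divisor of the coordinate function on the projective line over a field. -/

set_option autoImplicit false

universe u

open AlgebraicGeometry CategoryTheory TopologicalSpace Polynomial

namespace Groth.Agent.CycLib

section FieldPoints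

variable {Z W : Scheme.{u}} {L : Type u} [Field L]

/-- The closed point of the spectrum of a field. -/
noncomputable abbrev pt (L : Type u) [Field L] : Spec (CommRingCat.of L) := IsLocalRing.closedPoint L

/-- The field embedding attached to a field valued point. -/
noncomputable def ptHom (ψ : Spec (CommRingCat.of L) ⟶ Z) : Z.residueField (ψ (pt L)) →+* L :=
  (Z.descResidueField (Scheme.stalkClosedPointTo ψ)).hom

theorem ptHom_comp (ψ : Spec (CommRingCat.of L) ⟶ Z) (q : Z ⟶ W) (a : W.residueField (q (ψ (pt L)))) :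
    ptHom (ψ ≫ q) a = ptHom ψ (q.residueFieldMap (ψ (pt L)) a) := by
  exact congrArg (fun m : W.residueField (q (ψ (pt L))) ⟶ CommRingCat.of L => m.hom a)
    (Scheme.descResidueField_stalkClosedPointTo_comp (f := q) ψ)

theorem ptHom_injective (ψ : Spec (CommRingCat.of L) ⟶ Z) : Function.Injective (ptHom ψ) := RingHom.injective _

theorem ptHom_eval {R : Type u} [CommRing R] (φ : R →+* L) (r : R) :
    ptHom (Spec.map (CommRingCat.ofHom φ))
      ((Spec (CommRingCat.of R)).evaluation ⊤ _ trivial ((Scheme.ΓSpecIso (CommRingCat.of R)).inv r)) = φ r := by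
  have h := congrArg (fun m : Γ(Spec (CommRingCat.of R), ⊤) ⟶ CommRingCat.of L =>
    m.hom ((Scheme.ΓSpecIso (CommRingCat.of R)).inv r)) (Scheme.germ_stalkClosedPointTo_Spec (CommRingCat.ofHom φ))
  refine h.trans ?_
  show φ ((Scheme.ΓSpecIso (CommRingCat.of R)).hom.hom ((Scheme.ΓSpecIso (CommRingCat.of R)).inv.hom r)) = φ r
  rw [show (Scheme.ΓSpecIso (CommRingCat.of R)).hom.hom ((Scheme.ΓSpecIso (CommRingCat.of R)).inv.hom r) = r from
    congrArg (fun m : CommRingCat.of R ⟶ CommRingCat.of R => m.hom r) (Scheme.ΓSpecIso (CommRingCat.of R)).inv_hom_id]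

theorem ptHom_congr {ψ ψ' : Spec (CommRingCat.of L) ⟶ Z} (e : ψ = ψ') (h : ψ' (pt L) = ψ (pt L))
    (a : Z.residueField (ψ (pt L))) : ptHom ψ' ((Z.residueFieldCongr h).inv a) = ptHom ψ a := by
  subst e
  simp

theorem exists_ptHom_eq {A : Scheme.{u}} (β : Spec (CommRingCat.of L) ⟶ A) (j : A ⟶ Z) [IsPreimmersion j]
    (a : A.residueField (β (pt L))) : ∃ t, ptHom (β ≫ j) t = ptHom β a := by
  obtain ⟨t, ht⟩ := (residueFieldMap_bijective j (β (pt L))).2 a
  exact ⟨t, (ptHom_comp β j t).trans (congrArg (ptHom β) ht)⟩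

theorem residueFieldMap_of_ptHom_eq {A : Scheme.{u}} {ψ : Spec (CommRingCat.of L) ⟶ Z}
    (β : Spec (CommRingCat.of L) ⟶ A) (j : A ⟶ Z) (e : ψ = β ≫ j) (h : j (β (pt L)) = ψ (pt L))
    (t : Z.residueField (ψ (pt L))) (a : A.residueField (β (pt L))) (ha : ptHom β a = ptHom ψ t) :
    j.residueFieldMap _ ((Z.residueFieldCongr h).inv t) = a := by
  subst e
  refine ptHom_injective β (Eq.trans ?_ ha.symm)
  have := ptHom_comp β j ((Z.residueFieldCongr h).inv t)
  refine this.symm.trans ?_
  exact ptHom_congr rfl h t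

theorem isSetup_spec_field (K : Type u) [Field K] : Cyc.IsSetup (Spec (CommRingCat.of K)) (fun _ => (0 : ℤ)) :=
  ⟨inferInstance, fun x => DimFormula.isUniversallyCatenary_stalk_field K x,
    fun x y _ hne => absurd (@Subsingleton.elim _ (FibDim.subsingleton_spec_field K) x y) hne⟩

end FieldPoints

variable (K : Type u) [Field K]

/-- The projective line over `K`. -/
noncomputable abbrev P1K : Scheme.{u} := CohB1.ProjSpaceOver 1 (Spec (CommRingCat.of K))

/-- Its structure map. -/
noncomputable abbrev P1toBase : P1K K ⟶ Spec (CommRingCat.of K) := CohB1.ProjSpaceOver.toBase 1 _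

/-- The field of rational functions. -/
def RF : Type u := FractionRing K[X]

noncomputable instance : Field (RF K) := inferInstanceAs (Field (FractionRing K[X]))

noncomputable instance : Algebra K[X] (RF K) := inferInstanceAs (Algebra K[X] (FractionRing K[X]))

instance : IsFractionRing K[X] (RF K) := inferInstanceAs (IsFractionRing K[X] (FractionRing K[X]))

/-- The coordinate `t`. -/
noncomputable abbrev tF : RF K := algebraMap K[X] (RF K) X

theorem tF_ne_zero : tF K ≠ 0 := fun h => X_ne_zero (IsFractionRing.injective K[X] (RF K) (h.trans (map_zero _).symm))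

/-- The map `K[X] → K(X)` of the `i`-th chart. -/
noncomputable def alpha (i : Fin (1 + 1)) : K[X] →+* RF K :=
  eval₂RingHom ((algebraMap K[X] (RF K)).comp C) (if i = 0 then tF K else (tF K)⁻¹)

theorem alpha_zero : alpha K 0 = algebraMap K[X] (RF K) := by
  apply Polynomial.ringHom_ext
  · intro a; simp [alpha]
  · simp [alpha]

theorem alpha_injective (i : Fin (1 + 1)) : Function.Injective (alpha K i) := by
  fin_cases i
  · exact (alpha_zero K).symm ▸ IsFractionRing.injective K[X] (RF K)
  · letI : Algebra K (RF K) := ((algebraMap K[X] (RF K)).comp C).toAlgebra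
    have htr : Transcendental K (tF K) := fun ⟨p, hp0, hp⟩ => hp0 (IsFractionRing.injective K[X] (RF K) (by
      rw [map_zero, ← hp, ← alpha_zero]; rfl))
    have htr' : Transcendental K (tF K)⁻¹ := fun h => htr (by simpa using h.inv)
    intro p q hpq
    exact transcendental_iff_injective.1 htr' hpq

/-- The generic point of the `i`-th chart, as a field valued point. -/
noncomputable def phi (i : Fin (1 + 1)) : Spec (CommRingCat.of (RF K)) ⟶ P1K K :=
  Spec.map (CommRingCat.ofHom (alpha K i)) ≫ H23.P1Charts.chart K i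

theorem phi_toBase (i : Fin (1 + 1)) :
    phi K i ≫ P1toBase K = Spec.map (CommRingCat.ofHom ((algebraMap K[X] (RF K)).comp C)) := by
  rw [phi, Category.assoc, H23.P1Charts.chart_toBase, ← Spec.map_comp, ← CommRingCat.ofHom_comp]
  congr 2
  ext a
  simp [alpha]

theorem eval₂_scale {A B : Type u} [CommRing A] [CommRing B] (f : A →+* B) (v : Fin (1 + 1) → B) (c : B)
    (p : MvPolynomial (Fin (1 + 1)) A) (n : ℕ) (hp : p.IsHomogeneous n) :
    MvPolynomial.eval₂Hom f (fun j => c * v j) p = c ^ n * MvPolynomial.eval₂Hom f v p := by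
  rw [MvPolynomial.coe_eval₂Hom, MvPolynomial.coe_eval₂Hom, MvPolynomial.eval₂_eq, MvPolynomial.eval₂_eq, Finset.mul_sum]
  refine Finset.sum_congr rfl fun d hd => ?_
  have h := hp (MvPolynomial.mem_support_iff.1 hd)
  simp only [Finsupp.weight_apply, Pi.one_apply, smul_eq_mul, mul_one] at h
  rw [Finsupp.sum] at h
  simp only [mul_pow, Finset.prod_mul_distrib, Finset.prod_pow_eq_pow_sum, h]
  ring

theorem phi_eq : phi K 0 = phi K 1 := by
  refine Limits.pullback.hom_ext ?_ ((phi_toBase K 0).trans (phi_toBase K 1).symm)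
  let c0 := ((alpha K 0).comp (Polynomial.C.comp (H23.P1Charts.up K)))
  let f : MvPolynomial (Fin (1 + 1)) H23.P1Charts.Z.{u} →+* RF K :=
    MvPolynomial.eval₂Hom c0 (Function.update (fun _ => tF K) 0 1)
  have hu0 : IsUnit (f (P1.T 0)) := by simp [f]
  have hu1 : IsUnit (f (P1.T 1)) := by simp [f, tF_ne_zero K]
  have hux : IsUnit (f (P1.T 0 * P1.T 1)) := by rw [map_mul]; exact hu0.mul hu1
  have hfst : ∀ i, phi K i ≫ Limits.pullback.fst _ _ =
      Spec.map (CommRingCat.ofHom (((alpha K i).comp (H23.P1Charts.upX K)).comp (H23.P1Charts.θ i))) ≫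
        Proj.awayι P1.grading (P1.T i) (P1.X_mem i) one_pos := fun i => by
    rw [phi, Category.assoc, H23.P1Charts.chart_fst, H23.P1Charts.chartZ, ← Spec.map_comp_assoc,
      ← Spec.map_comp_assoc, ← CommRingCat.ofHom_comp, ← CommRingCat.ofHom_comp]
    rfl
  have hθ : ∀ i, H23.P1Charts.θ.{u} i = ProjPt.coordHom P1.grading
      (MvPolynomial.eval₂Hom ((Int.castRingHom H23.P1Charts.Z.{u}[X]).comp ULift.ringEquiv.{0, u}.toRingHom)
        (Function.update (fun _ => (X : H23.P1Charts.Z.{u}[X])) i 1)) (t := P1.T i) (by simp) := fun i => rfl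
  have key : ∀ i, ∀ hu : IsUnit (f (P1.T i)), ((alpha K i).comp (H23.P1Charts.upX K)).comp (H23.P1Charts.θ i) =
      ProjPt.coordHom P1.grading f hu := fun i hu => by
    rw [hθ, ProjPt.comp_coordHom]
    refine ProjPt.coordHom_scale P1.grading f _ (P1.X_mem i) (if i = 0 then 1 else (tF K)⁻¹) (fun n p hp => ?_) hu _
    show _ = _ ^ n * MvPolynomial.eval₂Hom c0 (Function.update (fun _ => tF K) 0 1) p
    rw [← eval₂_scale c0 _ _ p n ((MvPolynomial.mem_homogeneousSubmodule _ _).1 hp)]
    refine congrArg (fun g : MvPolynomial (Fin (1 + 1)) H23.P1Charts.Z.{u} →+* RF K => g p) ?_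
    apply MvPolynomial.ringHom_ext
    · intro r
      simp [c0, alpha, H23.P1Charts.up]
      simp only [← Polynomial.coe_eval₂RingHom, map_intCast]
    · intro j
      fin_cases i <;> fin_cases j <;> simp [alpha, tF_ne_zero K]
  refine (hfst 0).trans (Eq.trans ?_ (hfst 1).symm)
  rw [key 0 hu0, key 1 hu1]
  rw [← ProjPt.coordHom_awayMap P1.grading f (P1.X_mem 0) (P1.X_mem 1) rfl hu0 hux,
    ← ProjPt.coordHom_awayMap P1.grading f (P1.X_mem 1) (P1.X_mem 0) (mul_comm _ _) hu1 hux,
    CommRingCat.ofHom_comp, CommRingCat.ofHom_comp, Spec.map_comp_assoc, Spec.map_comp_assoc,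
    Proj.SpecMap_awayMap_awayι, Proj.SpecMap_awayMap_awayι]

/-- The evaluation of a polynomial at a point of `Spec K[X]`. -/
noncomputable abbrev evalAt (z : Spec (CommRingCat.of K[X])) (p : K[X]) : (Spec (CommRingCat.of K[X])).residueField z :=
  (Spec (CommRingCat.of K[X])).evaluation ⊤ z trivial ((Scheme.ΓSpecIso (CommRingCat.of K[X])).inv p)

/-- The generic point of `Spec K[X]`, through the `i`-th map to `K(X)`. -/
noncomputable abbrev gen (i : Fin (1 + 1)) : Spec (CommRingCat.of K[X]) :=
  Spec.map (CommRingCat.ofHom (alpha K i)) (pt (RF K))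

theorem asIdeal_gen (i : Fin (1 + 1)) : (show PrimeSpectrum K[X] from gen K i).asIdeal = ⊥ := by
  show Ideal.comap (alpha K i) (IsLocalRing.maximalIdeal (RF K)) = ⊥
  rw [IsLocalRing.maximalIdeal_eq_bot]
  exact Ideal.comap_bot_of_injective _ (alpha_injective K i)

section Charts

variable {K} {P : Scheme.{u}} (j : Fin (1 + 1) → (Spec (CommRingCat.of K[X]) ⟶ P))
  [∀ i, IsOpenImmersion (j i)] (φ : Spec (CommRingCat.of (RF K)) ⟶ P)
  (hφ : ∀ i, φ = Spec.map (CommRingCat.ofHom (alpha K i)) ≫ j i)

include hφ in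
theorem chart_coord (i : Fin (1 + 1)) (t : P.residueField (φ (pt (RF K)))) (ht : ptHom φ t = tF K)
    (h : j i (gen K i) = φ (pt (RF K))) :
    (j i).residueFieldMap _ ((P.residueFieldCongr h).inv t) =
      if i = 0 then evalAt K (gen K i) X else (evalAt K (gen K i) X)⁻¹ := by
  refine residueFieldMap_of_ptHom_eq _ _ (hφ i) h t _ ?_
  rw [ht]
  rcases eq_or_ne i 0 with hi | hi
  · rw [if_pos hi, ptHom_eval]
    simp [alpha, hi]
  · rw [if_neg hi, map_inv₀, ptHom_eval]
    simp [alpha, hi]

include hφ in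
theorem exists_coord : ∃ t : P.residueField (φ (pt (RF K))), ptHom φ t = tF K := by
  obtain ⟨t, ht⟩ := exists_ptHom_eq (Spec.map (CommRingCat.ofHom (alpha K 0))) (j 0) (evalAt K _ X)
  rw [ptHom_eval] at ht
  obtain rfl := hφ 0
  exact ⟨t, ht.trans (by rw [alpha_zero])⟩

end Charts

end Groth.Agent.CycLib
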