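import Groth.Prelude.Def_CycAlg
import Mathlib.LinearAlgebra.Isomorphisms
import Mathlib.RingTheory.Length
import Mathlib.Tactic

/-! Periodic complexes: the hexagon of a short exact sequence and Herbrand quotients. -/

set_option linter.unusedSectionVars false

namespace Groth.Agent.CycLib.Periodic

open CycAlg

universe u v

variable {R : Type u} [CommRing R]

section Length

variable {A B C : Type v} [AddCommGroup A] [Module R A] [AddCommGroup B] [Module R B] [AddCommGroup C] [Module R C]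

theorem length_ker_add_range (f : A →ₗ[R] B) :
    Module.length R A = Module.length R (LinearMap.ker f) + Module.length R (LinearMap.range f) :=
  Module.length_eq_add_of_exact (LinearMap.ker f).subtype f.rangeRestrict (Submodule.injective_subtype _)
    f.surjective_rangeRestrict (LinearMap.exact_iff.mpr (by simp))

theorem length_exact {f : A →ₗ[R] B} {g : B →ₗ[R] C} (h : Function.Exact f g) :
    Module.length R B = Module.length R (LinearMap.range f) + Module.length R (LinearMap.range g) := by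
  rw [length_ker_add_range g, h.linearMap_ker_eq]

theorem range_le (f : A →ₗ[R] B) : Module.length R (LinearMap.range f) ≤ Module.length R A := by
  rw [length_ker_add_range f]
  exact le_add_self

theorem range_le' (f : A →ₗ[R] B) : Module.length R (LinearMap.range f) ≤ Module.length R B :=
  Module.length_le_of_injective _ (Submodule.injective_subtype _)

theorem lt_top_of_exact {f : A →ₗ[R] B} {g : B →ₗ[R] C} (h : Function.Exact f g)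
    (hA : Module.length R A < ⊤) (hC : Module.length R C < ⊤) : Module.length R B < ⊤ := by
  rw [length_exact h]
  exact WithTop.add_lt_top.mpr ⟨(range_le f).trans_lt hA, (range_le' g).trans_lt hC⟩

/-- Length of a quotient of submodules. -/
theorem length_sub_quot {P Q : Submodule R A} (h : P ≤ Q) :
    Module.length R Q = Module.length R P + Module.length R (Q ⧸ P.submoduleOf Q) :=
  Module.length_eq_add_of_exact (Submodule.inclusion h) (P.submoduleOf Q).mkQ (Submodule.inclusion_injective h)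
    (Submodule.mkQ_surjective _) (LinearMap.exact_iff.mpr (by rw [Submodule.ker_mkQ, Submodule.range_inclusion]; rfl))

end Length

variable {M N M' N' : Type v} [AddCommGroup M] [Module R M] [AddCommGroup N] [Module R N]
  [AddCommGroup M'] [Module R M'] [AddCommGroup N'] [Module R N']

/-- The class of a cycle. -/
abbrev cl (φ : M →ₗ[R] N) (ψ : N →ₗ[R] M) : LinearMap.ker φ →ₗ[R] perH φ ψ := Submodule.mkQ _

theorem cl_eq_zero {φ : M →ₗ[R] N} {ψ : N →ₗ[R] M} {m : LinearMap.ker φ} :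
    cl φ ψ m = 0 ↔ ∃ n, ψ n = (m : M) := by
  rw [Submodule.mkQ_apply, Submodule.Quotient.mk_eq_zero]
  rfl

theorem cl_surjective (φ : M →ₗ[R] N) (ψ : N →ₗ[R] M) : Function.Surjective (cl φ ψ) :=
  Submodule.mkQ_surjective _

/-- The map induced on cohomology. -/
def hmap {φ : M →ₗ[R] N} {ψ : N →ₗ[R] M} {φ' : M' →ₗ[R] N'} {ψ' : N' →ₗ[R] M'} (f : M →ₗ[R] M') (g : N →ₗ[R] N')
    (hφ : φ' ∘ₗ f = g ∘ₗ φ) (hψ : ψ' ∘ₗ g = f ∘ₗ ψ) : perH φ ψ →ₗ[R] perH φ' ψ' :=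
  Submodule.mapQ _ _
    ((f ∘ₗ (LinearMap.ker φ).subtype).codRestrict (LinearMap.ker φ') fun m => by
      rw [LinearMap.mem_ker, ← LinearMap.comp_apply, ← LinearMap.comp_assoc, hφ]
      simp)
    (by
      rintro m ⟨n, hn⟩
      refine ⟨g n, ?_⟩
      rw [← LinearMap.comp_apply, hψ, LinearMap.comp_apply, hn]
      rfl)

theorem hmap_cl {φ : M →ₗ[R] N} {ψ : N →ₗ[R] M} {φ' : M' →ₗ[R] N'} {ψ' : N' →ₗ[R] M'} (f : M →ₗ[R] M')
    (g : N →ₗ[R] N') (hφ : φ' ∘ₗ f = g ∘ₗ φ) (hψ : ψ' ∘ₗ g = f ∘ₗ ψ) (m : LinearMap.ker φ)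
    (m' : LinearMap.ker φ') (h : (m' : M') = f (m : M)) : hmap f g hφ hψ (cl φ ψ m) = cl φ' ψ' m' := by
  rw [hmap, Submodule.mkQ_apply, Submodule.mapQ_apply, Submodule.mkQ_apply]
  exact congrArg _ (Subtype.ext h.symm)

section Hexagon

variable {M₁ N₁ M₂ N₂ M₃ N₃ : Type v} [AddCommGroup M₁] [Module R M₁] [AddCommGroup N₁] [Module R N₁]
  [AddCommGroup M₂] [Module R M₂] [AddCommGroup N₂] [Module R N₂] [AddCommGroup M₃] [Module R M₃]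
  [AddCommGroup N₃] [Module R N₃]
  {φ₁ : M₁ →ₗ[R] N₁} {ψ₁ : N₁ →ₗ[R] M₁} {φ₂ : M₂ →ₗ[R] N₂} {ψ₂ : N₂ →ₗ[R] M₂}
  {φ₃ : M₃ →ₗ[R] N₃} {ψ₃ : N₃ →ₗ[R] M₃}
  {f₁ : M₁ →ₗ[R] M₂} {g₁ : N₁ →ₗ[R] N₂} {f₂ : M₂ →ₗ[R] M₃} {g₂ : N₂ →ₗ[R] N₃}

theorem exact_middle (cφ₁ : φ₂ ∘ₗ f₁ = g₁ ∘ₗ φ₁) (cψ₁ : ψ₂ ∘ₗ g₁ = f₁ ∘ₗ ψ₁) (cφ₂ : φ₃ ∘ₗ f₂ = g₂ ∘ₗ φ₂)
    (cψ₂ : ψ₃ ∘ₗ g₂ = f₂ ∘ₗ ψ₂) (h₂ : IsPeriodic φ₂ ψ₂) (hg₁ : Function.Injective g₁)
    (hg₂ : Function.Surjective g₂) (hM : LinearMap.range f₁ = LinearMap.ker f₂) :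
    Function.Exact (hmap (φ := φ₁) (ψ := ψ₁) f₁ g₁ cφ₁ cψ₁) (hmap (φ' := φ₃) (ψ' := ψ₃) f₂ g₂ cφ₂ cψ₂) := by
  intro z
  obtain ⟨⟨m, hm⟩, rfl⟩ := cl_surjective φ₂ ψ₂ z
  have hm3 : f₂ m ∈ LinearMap.ker φ₃ := by
    rw [LinearMap.mem_ker, show φ₃ (f₂ m) = g₂ (φ₂ m) from LinearMap.congr_fun cφ₂ m, hm, map_zero]
  rw [hmap_cl f₂ g₂ cφ₂ cψ₂ ⟨m, hm⟩ ⟨f₂ m, hm3⟩ rfl, cl_eq_zero]
  constructor
  · rintro ⟨n, hn⟩
    obtain ⟨y, rfl⟩ := hg₂ n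
    have hn' : f₂ (m - ψ₂ y) = 0 := by
      rw [map_sub, ← show ψ₃ (g₂ y) = f₂ (ψ₂ y) from LinearMap.congr_fun cψ₂ y, hn, sub_self]
    obtain ⟨w, hw⟩ := (hM.symm ▸ LinearMap.mem_ker.mpr hn' : m - ψ₂ y ∈ LinearMap.range f₁)
    have hw1 : w ∈ LinearMap.ker φ₁ := by
      refine hg₁ ?_
      rw [map_zero, ← show φ₂ (f₁ w) = g₁ (φ₁ w) from LinearMap.congr_fun cφ₁ w, hw, map_sub, hm,
        show φ₂ (ψ₂ y) = 0 from LinearMap.congr_fun h₂.1 y, sub_self]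
    have hw2 : f₁ w ∈ LinearMap.ker φ₂ := by
      rw [hw, LinearMap.mem_ker, map_sub, hm, show φ₂ (ψ₂ y) = 0 from LinearMap.congr_fun h₂.1 y, sub_self]
    refine ⟨cl φ₁ ψ₁ ⟨w, hw1⟩, ?_⟩
    rw [hmap_cl f₁ g₁ cφ₁ cψ₁ ⟨w, hw1⟩ ⟨f₁ w, hw2⟩ rfl, ← sub_eq_zero, ← map_sub, cl_eq_zero]
    refine ⟨-y, ?_⟩
    rw [map_neg, AddSubgroupClass.coe_sub]
    show -ψ₂ y = f₁ w - m
    rw [hw]
    abel
  · rintro ⟨z, hz⟩
    obtain ⟨⟨w, hw⟩, rfl⟩ := cl_surjective φ₁ ψ₁ z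
    have hw2 : f₁ w ∈ LinearMap.ker φ₂ := by
      rw [LinearMap.mem_ker, show φ₂ (f₁ w) = g₁ (φ₁ w) from LinearMap.congr_fun cφ₁ w, hw, map_zero]
    rw [hmap_cl f₁ g₁ cφ₁ cψ₁ ⟨w, hw⟩ ⟨f₁ w, hw2⟩ rfl, ← sub_eq_zero, ← map_sub, cl_eq_zero] at hz
    obtain ⟨y, hy⟩ := hz
    refine ⟨g₂ (-y), ?_⟩
    rw [show ψ₃ (g₂ (-y)) = f₂ (ψ₂ (-y)) from LinearMap.congr_fun cψ₂ _, map_neg, hy, AddSubgroupClass.coe_sub,
      neg_sub, map_sub, (LinearMap.mem_ker.mp (hM ▸ LinearMap.mem_range_self f₁ w) : f₂ (f₁ w) = 0), sub_zero]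

theorem exists_connecting (cφ₁ : φ₂ ∘ₗ f₁ = g₁ ∘ₗ φ₁) (cψ₁ : ψ₂ ∘ₗ g₁ = f₁ ∘ₗ ψ₁) (cφ₂ : φ₃ ∘ₗ f₂ = g₂ ∘ₗ φ₂)
    (cψ₂ : ψ₃ ∘ₗ g₂ = f₂ ∘ₗ ψ₂) (h₂ : IsPeriodic φ₂ ψ₂) (hf₁ : Function.Injective f₁)
    (hg₁ : Function.Injective g₁) (hf₂ : Function.Surjective f₂) (hg₂ : Function.Surjective g₂)
    (hM : LinearMap.range f₁ = LinearMap.ker f₂) (hN : LinearMap.range g₁ = LinearMap.ker g₂) :
    ∃ δ : perH φ₃ ψ₃ →ₗ[R] perH ψ₁ φ₁,
      Function.Exact (hmap (φ := φ₂) (ψ := ψ₂) f₂ g₂ cφ₂ cψ₂) δ ∧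
      Function.Exact δ (hmap (φ' := ψ₂) (ψ' := φ₂) g₁ f₁ cψ₁ cφ₁) := by
  let S : Submodule R M₂ := LinearMap.ker (φ₃ ∘ₗ f₂)
  let p : S →ₗ[R] perH φ₃ ψ₃ := cl φ₃ ψ₃ ∘ₗ (f₂ ∘ₗ S.subtype).codRestrict (LinearMap.ker φ₃) fun m => m.2
  have hlift : ∀ m : S, (φ₂ ∘ₗ S.subtype) m ∈ LinearMap.range g₁ := fun m => by
    rw [hN, LinearMap.mem_ker]
    show g₂ (φ₂ (m : M₂)) = 0
    rw [← show φ₃ (f₂ (m : M₂)) = g₂ (φ₂ m) from LinearMap.congr_fun cφ₂ _]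
    exact m.2
  let T : S →ₗ[R] N₁ := (LinearEquiv.ofInjective g₁ hg₁).symm.toLinearMap ∘ₗ
    (φ₂ ∘ₗ S.subtype).codRestrict (LinearMap.range g₁) hlift
  have hT : ∀ m : S, g₁ (T m) = φ₂ (m : M₂) := fun m => by
    show g₁ ((LinearEquiv.ofInjective g₁ hg₁).symm ⟨φ₂ (m : M₂), hlift m⟩) = _
    exact congrArg Subtype.val ((LinearEquiv.ofInjective g₁ hg₁).apply_symm_apply _)
  have hTker : ∀ m : S, T m ∈ LinearMap.ker ψ₁ := fun m => by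
    refine hf₁ ?_
    rw [map_zero, ← show ψ₂ (g₁ (T m)) = f₁ (ψ₁ (T m)) from LinearMap.congr_fun cψ₁ _, hT]
    exact LinearMap.congr_fun h₂.2 _
  let q : S →ₗ[R] perH ψ₁ φ₁ := cl ψ₁ φ₁ ∘ₗ T.codRestrict (LinearMap.ker ψ₁) hTker
  have hp : Function.Surjective p := fun z => by
    obtain ⟨⟨x, hx⟩, rfl⟩ := cl_surjective φ₃ ψ₃ z
    obtain ⟨m, rfl⟩ := hf₂ x
    exact ⟨⟨m, hx⟩, rfl⟩
  have hp0 : ∀ m : S, p m = 0 ↔ ∃ y w, ψ₂ y + f₁ w = (m : M₂) := fun m => by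
    show cl φ₃ ψ₃ _ = 0 ↔ _
    rw [cl_eq_zero]
    constructor
    · rintro ⟨n, hn⟩
      obtain ⟨y, rfl⟩ := hg₂ n
      have hn' : f₂ ((m : M₂) - ψ₂ y) = 0 := by
        rw [map_sub, ← show ψ₃ (g₂ y) = f₂ (ψ₂ y) from LinearMap.congr_fun cψ₂ y, hn]
        exact sub_self _
      obtain ⟨w, hw⟩ := (hM.symm ▸ LinearMap.mem_ker.mpr hn' : (m : M₂) - ψ₂ y ∈ LinearMap.range f₁)
      exact ⟨y, w, by rw [hw, add_sub_cancel]⟩
    · rintro ⟨y, w, h⟩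
      refine ⟨g₂ y, ?_⟩
      rw [show ψ₃ (g₂ y) = f₂ (ψ₂ y) from LinearMap.congr_fun cψ₂ y]
      show f₂ (ψ₂ y) = f₂ (m : M₂)
      rw [← h, map_add, (LinearMap.mem_ker.mp (hM ▸ LinearMap.mem_range_self f₁ w) : f₂ (f₁ w) = 0), add_zero]
  have hφψ : ∀ y, φ₂ (ψ₂ y) = 0 := LinearMap.congr_fun h₂.1
  have hle : LinearMap.ker p ≤ LinearMap.ker q := fun m hm => by
    obtain ⟨y, w, h⟩ := (hp0 m).mp hm
    show cl ψ₁ φ₁ _ = 0
    refine cl_eq_zero.mpr ⟨w, hg₁ ?_⟩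
    show g₁ (φ₁ w) = g₁ (T m)
    rw [hT, ← h, map_add, hφψ, zero_add]
    exact (LinearMap.congr_fun cφ₁ w).symm
  let δ : perH φ₃ ψ₃ →ₗ[R] perH ψ₁ φ₁ :=
    (LinearMap.ker p).liftQ q hle ∘ₗ (p.quotKerEquivOfSurjective hp).symm.toLinearMap
  have hδ : ∀ m, δ (p m) = q m := fun m => by
    show (LinearMap.ker p).liftQ q hle ((p.quotKerEquivOfSurjective hp).symm (p m)) = q m
    rw [show (p.quotKerEquivOfSurjective hp).symm (p m) = Submodule.Quotient.mk m from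
      (LinearEquiv.symm_apply_eq _).mpr rfl, Submodule.liftQ_apply]
  refine ⟨δ, fun z => ?_, fun z => ?_⟩
  · obtain ⟨m, rfl⟩ := hp z
    rw [hδ]
    show cl ψ₁ φ₁ _ = 0 ↔ _
    rw [cl_eq_zero]
    constructor
    · rintro ⟨w, hw⟩
      have hm' : (m : M₂) - f₁ w ∈ LinearMap.ker φ₂ := by
        rw [LinearMap.mem_ker, map_sub, ← hT, show φ₂ (f₁ w) = g₁ (φ₁ w) from LinearMap.congr_fun cφ₁ w, hw]
        exact sub_self _
      refine ⟨cl φ₂ ψ₂ ⟨_, hm'⟩, hmap_cl f₂ g₂ cφ₂ cψ₂ _ _ ?_⟩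
      show f₂ (m : M₂) = f₂ ((m : M₂) - f₁ w)
      rw [map_sub, (LinearMap.mem_ker.mp (hM ▸ LinearMap.mem_range_self f₁ w) : f₂ (f₁ w) = 0), sub_zero]
    · rintro ⟨z, hz⟩
      obtain ⟨⟨x, hx⟩, rfl⟩ := cl_surjective φ₂ ψ₂ z
      have hx3 : x ∈ S := by
        rw [LinearMap.mem_ker, cφ₂, LinearMap.comp_apply, hx, map_zero]
      rw [hmap_cl f₂ g₂ cφ₂ cψ₂ ⟨x, hx⟩ ⟨f₂ x, hx3⟩ rfl] at hz
      have hmx : p (m - ⟨x, hx3⟩) = 0 := by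
        rw [map_sub, ← hz]
        exact sub_self _
      obtain ⟨y, w, h⟩ := (hp0 _).mp hmx
      refine ⟨w, hg₁ ?_⟩
      show g₁ (φ₁ w) = g₁ (T m)
      rw [hT, show (m : M₂) = ψ₂ y + f₁ w + x by rw [h]; exact (sub_add_cancel _ _).symm, map_add, map_add, hφψ, hx,
        zero_add, add_zero]
      exact (LinearMap.congr_fun cφ₁ w).symm
  · obtain ⟨⟨n, hn⟩, rfl⟩ := cl_surjective ψ₁ φ₁ z
    have hn2 : g₁ n ∈ LinearMap.ker ψ₂ := by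
      rw [LinearMap.mem_ker, show ψ₂ (g₁ n) = f₁ (ψ₁ n) from LinearMap.congr_fun cψ₁ n, hn, map_zero]
    rw [hmap_cl g₁ f₁ cψ₁ cφ₁ ⟨n, hn⟩ ⟨g₁ n, hn2⟩ rfl, cl_eq_zero]
    constructor
    · rintro ⟨m, hm⟩
      have hm3 : m ∈ S := by
        rw [LinearMap.mem_ker, cφ₂, LinearMap.comp_apply, hm]
        exact LinearMap.mem_ker.mp (hN ▸ LinearMap.mem_range_self g₁ n)
      refine ⟨p ⟨m, hm3⟩, ?_⟩
      rw [hδ]
      exact congrArg _ (Subtype.ext (hg₁ ((hT _).trans hm)))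
    · rintro ⟨z, hz⟩
      obtain ⟨m, rfl⟩ := hp z
      rw [hδ] at hz
      replace hz : cl ψ₁ φ₁ _ - cl ψ₁ φ₁ ⟨n, hn⟩ = 0 := sub_eq_zero.mpr hz
      rw [← map_sub, cl_eq_zero] at hz
      obtain ⟨w, hw⟩ := hz
      refine ⟨(m : M₂) - f₁ w, ?_⟩
      rw [map_sub, show φ₂ (f₁ w) = g₁ (φ₁ w) from LinearMap.congr_fun cφ₁ w, hw]
      show φ₂ (m : M₂) - g₁ (T m - n) = g₁ n
      rw [map_sub, hT, sub_sub_cancel]

/-- Herbrand quotients add in short exact sequences. -/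
theorem additive (cφ₁ : φ₂ ∘ₗ f₁ = g₁ ∘ₗ φ₁) (cψ₁ : ψ₂ ∘ₗ g₁ = f₁ ∘ₗ ψ₁) (cφ₂ : φ₃ ∘ₗ f₂ = g₂ ∘ₗ φ₂)
    (cψ₂ : ψ₃ ∘ₗ g₂ = f₂ ∘ₗ ψ₂) (h₂ : IsPeriodic φ₂ ψ₂) (hf₁ : Function.Injective f₁)
    (hg₁ : Function.Injective g₁) (hf₂ : Function.Surjective f₂) (hg₂ : Function.Surjective g₂)
    (hM : LinearMap.range f₁ = LinearMap.ker f₂) (hN : LinearMap.range g₁ = LinearMap.ker g₂)
    (htwo : (FinCoh R φ₁ ψ₁ ∧ FinCoh R φ₂ ψ₂) ∨ (FinCoh R φ₁ ψ₁ ∧ FinCoh R φ₃ ψ₃) ∨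
      (FinCoh R φ₂ ψ₂ ∧ FinCoh R φ₃ ψ₃)) :
    FinCoh R φ₁ ψ₁ ∧ FinCoh R φ₂ ψ₂ ∧ FinCoh R φ₃ ψ₃ ∧
      herbrand R φ₂ ψ₂ = herbrand R φ₁ ψ₁ + herbrand R φ₃ ψ₃ := by
  obtain ⟨δ, e1, e2⟩ := exists_connecting cφ₁ cψ₁ cφ₂ cψ₂ h₂ hf₁ hg₁ hf₂ hg₂ hM hN
  obtain ⟨δ', e3, e4⟩ := exists_connecting cψ₁ cφ₁ cψ₂ cφ₂ ⟨h₂.2, h₂.1⟩ hg₁ hf₁ hg₂ hf₂ hN hM
  have e0 := exact_middle cφ₁ cψ₁ cφ₂ cψ₂ h₂ hg₁ hg₂ hM
  have e5 := exact_middle cψ₁ cφ₁ cψ₂ cφ₂ ⟨h₂.2, h₂.1⟩ hf₁ hf₂ hN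
  have hall : FinCoh R φ₁ ψ₁ ∧ FinCoh R φ₂ ψ₂ ∧ FinCoh R φ₃ ψ₃ := by
    rcases htwo with ⟨a, b⟩ | ⟨a, b⟩ | ⟨a, b⟩
    · exact ⟨a, b, lt_top_of_exact e1 b.1 a.2, lt_top_of_exact e3 b.2 a.1⟩
    · exact ⟨a, ⟨lt_top_of_exact e0 a.1 b.1, lt_top_of_exact e5 a.2 b.2⟩, b⟩
    · exact ⟨⟨lt_top_of_exact e4 b.2 a.1, lt_top_of_exact e2 b.1 a.2⟩, a, b⟩
  obtain ⟨H1, H2, H3⟩ := hall
  refine ⟨H1, H2, H3, ?_⟩
  have fin : ∀ {A B : Type v} [AddCommGroup A] [Module R A] [AddCommGroup B] [Module R B] (f : A →ₗ[R] B),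
      Module.length R A < ⊤ → Module.length R (LinearMap.range f) ≠ ⊤ :=
    fun f h => ((range_le f).trans_lt h).ne
  unfold herbrand
  rw [length_exact e4, length_exact e0, length_exact e1, length_exact e2, length_exact e5, length_exact e3]
  rw [ENat.toNat_add (fin _ H3.2) (fin _ H1.1), ENat.toNat_add (fin _ H1.1) (fin _ H2.1),
    ENat.toNat_add (fin _ H2.1) (fin _ H3.1), ENat.toNat_add (fin _ H3.1) (fin _ H1.2),
    ENat.toNat_add (fin _ H1.2) (fin _ H2.2), ENat.toNat_add (fin _ H2.2) (fin _ H3.2)]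
  push_cast
  ring

end Hexagon

theorem of_finite_length {φ : M →ₗ[R] N} {ψ : N →ₗ[R] M} (h : IsPeriodic φ ψ) (hM : Module.length R M < ⊤)
    (hN : Module.length R N < ⊤) :
    FinCoh R φ ψ ∧ herbrand R φ ψ = ((Module.length R M).toNat : ℤ) - ((Module.length R N).toNat : ℤ) := by
  have h1 : LinearMap.range ψ ≤ LinearMap.ker φ := LinearMap.range_le_ker_iff.mpr h.1
  have h2 : LinearMap.range φ ≤ LinearMap.ker ψ := LinearMap.range_le_ker_iff.mpr h.2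
  have eM : Module.length R M = Module.length R (LinearMap.range ψ) + Module.length R (perH φ ψ) +
      Module.length R (LinearMap.range φ) := by rw [← length_sub_quot h1, ← length_ker_add_range]
  have eN : Module.length R N = Module.length R (LinearMap.range φ) + Module.length R (perH ψ φ) +
      Module.length R (LinearMap.range ψ) := by rw [← length_sub_quot h2, ← length_ker_add_range]
  have fM : ∀ {c}, c ≤ Module.length R M → c ≠ ⊤ := fun hc => (hc.trans_lt hM).ne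
  have a1 : Module.length R (perH φ ψ) ≠ ⊤ := fM (by rw [eM]; exact le_add_self.trans le_self_add)
  have a2 : Module.length R (perH ψ φ) ≠ ⊤ :=
    ne_top_of_le_ne_top hN.ne (by rw [eN]; exact le_add_self.trans le_self_add)
  have b1 : Module.length R (LinearMap.range φ) ≠ ⊤ := fM (range_le φ)
  have b2 : Module.length R (LinearMap.range ψ) ≠ ⊤ := ne_top_of_le_ne_top hN.ne (range_le ψ)
  refine ⟨⟨lt_top_iff_ne_top.mpr a1, lt_top_iff_ne_top.mpr a2⟩, ?_⟩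
  unfold herbrand
  generalize Module.length R (LinearMap.range φ) = r₁ at *
  generalize Module.length R (LinearMap.range ψ) = r₂ at *
  generalize Module.length R (perH φ ψ) = h₁ at *
  generalize Module.length R (perH ψ φ) = h₂ at *
  lift r₁ to ℕ using b1
  lift r₂ to ℕ using b2
  lift h₁ to ℕ using a1
  lift h₂ to ℕ using a2
  rw [eM, eN]
  simp only [← Nat.cast_add, ENat.toNat_natCast]
  omega

/-- A map with kernel and cokernel of finite length preserves the Herbrand quotient. -/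
theorem eq_of_ker_coker {φ : M →ₗ[R] N} {ψ : N →ₗ[R] M} {φ' : M' →ₗ[R] N'} {ψ' : N' →ₗ[R] M'}
    (h : IsPeriodic φ ψ) (h' : IsPeriodic φ' ψ') {f : M →ₗ[R] M'} {g : N →ₗ[R] N'}
    (cφ : φ' ∘ₗ f = g ∘ₗ φ) (cψ : ψ' ∘ₗ g = f ∘ₗ ψ) (hfin : FinCoh R φ ψ)
    (k1 : Module.length R (LinearMap.ker f) < ⊤) (k2 : Module.length R (LinearMap.ker g) < ⊤)
    (c1 : Module.length R (M' ⧸ LinearMap.range f) < ⊤) (c2 : Module.length R (N' ⧸ LinearMap.range g) < ⊤) :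
    FinCoh R φ' ψ' ∧ herbrand R φ ψ -
        (((Module.length R (LinearMap.ker f)).toNat : ℤ) - ((Module.length R (LinearMap.ker g)).toNat : ℤ)) =
      herbrand R φ' ψ' - (((Module.length R (M' ⧸ LinearMap.range f)).toNat : ℤ) -
        ((Module.length R (N' ⧸ LinearMap.range g)).toNat : ℤ)) := by
  have hcφ : ∀ m, φ' (f m) = g (φ m) := LinearMap.congr_fun cφ
  have hcψ : ∀ n, ψ' (g n) = f (ψ n) := LinearMap.congr_fun cψ
  let φk : LinearMap.ker f →ₗ[R] LinearMap.ker g := (φ ∘ₗ (LinearMap.ker f).subtype).codRestrict _ fun m => by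
    show g (φ (m : M)) = 0
    rw [← hcφ, LinearMap.mem_ker.mp m.2, map_zero]
  let ψk : LinearMap.ker g →ₗ[R] LinearMap.ker f := (ψ ∘ₗ (LinearMap.ker g).subtype).codRestrict _ fun n => by
    show f (ψ (n : N)) = 0
    rw [← hcψ, LinearMap.mem_ker.mp n.2, map_zero]
  let φi : LinearMap.range f →ₗ[R] LinearMap.range g := (φ' ∘ₗ (LinearMap.range f).subtype).codRestrict _
    fun m => by
      obtain ⟨m, w, rfl⟩ := m
      exact ⟨φ w, (hcφ w).symm⟩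
  let ψi : LinearMap.range g →ₗ[R] LinearMap.range f := (ψ' ∘ₗ (LinearMap.range g).subtype).codRestrict _
    fun n => by
      obtain ⟨n, w, rfl⟩ := n
      exact ⟨ψ w, (hcψ w).symm⟩
  let φc : (M' ⧸ LinearMap.range f) →ₗ[R] (N' ⧸ LinearMap.range g) := Submodule.mapQ _ _ φ' (by
    rintro _ ⟨w, rfl⟩
    exact ⟨φ w, (hcφ w).symm⟩)
  let ψc : (N' ⧸ LinearMap.range g) →ₗ[R] (M' ⧸ LinearMap.range f) := Submodule.mapQ _ _ ψ' (by
    rintro _ ⟨w, rfl⟩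
    exact ⟨ψ w, (hcψ w).symm⟩)
  have hk : IsPeriodic φk ψk :=
    ⟨LinearMap.ext fun n => Subtype.ext (LinearMap.congr_fun h.1 _ :), LinearMap.ext fun m =>
      Subtype.ext (LinearMap.congr_fun h.2 _ :)⟩
  have hi : IsPeriodic φi ψi :=
    ⟨LinearMap.ext fun n => Subtype.ext (LinearMap.congr_fun h'.1 _ :), LinearMap.ext fun m =>
      Subtype.ext (LinearMap.congr_fun h'.2 _ :)⟩
  have hc : IsPeriodic φc ψc := by
    constructor <;> refine Submodule.linearMap_qext _ (LinearMap.ext fun z => ?_)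
    · show Submodule.Quotient.mk (φ' (ψ' z)) = _
      rw [show φ' (ψ' z) = 0 from LinearMap.congr_fun h'.1 z]
      rfl
    · show Submodule.Quotient.mk (ψ' (φ' z)) = _
      rw [show ψ' (φ' z) = 0 from LinearMap.congr_fun h'.2 z]
      rfl
  obtain ⟨Fk, Ek⟩ := of_finite_length hk k1 k2
  obtain ⟨Fc, Ec⟩ := of_finite_length hc c1 c2
  obtain ⟨-, -, Fi, E1⟩ := additive (φ₁ := φk) (ψ₁ := ψk) (φ₂ := φ) (ψ₂ := ψ) (φ₃ := φi) (ψ₃ := ψi)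
    (f₁ := (LinearMap.ker f).subtype) (g₁ := (LinearMap.ker g).subtype) (f₂ := f.rangeRestrict)
    (g₂ := g.rangeRestrict) (LinearMap.ext fun _ => rfl) (LinearMap.ext fun _ => rfl)
    (LinearMap.ext fun m => Subtype.ext (hcφ m)) (LinearMap.ext fun n => Subtype.ext (hcψ n)) h
    (Submodule.injective_subtype _) (Submodule.injective_subtype _) f.surjective_rangeRestrict
    g.surjective_rangeRestrict (by simp) (by simp) (Or.inl ⟨Fk, hfin⟩)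
  obtain ⟨-, F', -, E2⟩ := additive (φ₁ := φi) (ψ₁ := ψi) (φ₂ := φ') (ψ₂ := ψ') (φ₃ := φc) (ψ₃ := ψc)
    (f₁ := (LinearMap.range f).subtype) (g₁ := (LinearMap.range g).subtype) (f₂ := (LinearMap.range f).mkQ)
    (g₂ := (LinearMap.range g).mkQ) (LinearMap.ext fun _ => rfl) (LinearMap.ext fun _ => rfl)
    (LinearMap.ext fun _ => rfl) (LinearMap.ext fun _ => rfl) h'
    (Submodule.injective_subtype _) (Submodule.injective_subtype _) (Submodule.mkQ_surjective _)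
    (Submodule.mkQ_surjective _) (by simp) (by simp) (Or.inr (Or.inl ⟨Fi, Fc⟩))
  exact ⟨F', by rw [E1, E2, Ek, Ec]; ring⟩

end Groth.Agent.CycLib.Periodic
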