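import Groth.Agent.CycLib.Periodic
import Groth.Agent.CycLib.FinLen

/-! Multiplying a periodic complex by a scalar, and nilpotent endomorphisms. -/

set_option linter.unusedSectionVars false

namespace Groth.Agent.CycLib.Periodic

open CycAlg
open scoped Pointwise

universe u v

variable {R : Type u} [CommRing R]
variable {M N A B : Type v} [AddCommGroup M] [Module R M] [AddCommGroup N] [Module R N]
  [AddCommGroup A] [Module R A] [AddCommGroup B] [Module R B]

theorem cl_eq_iff {φ : M →ₗ[R] N} {ψ : N →ₗ[R] M} {m m' : LinearMap.ker φ} :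
    cl φ ψ m = cl φ ψ m' ↔ ∃ n, ψ n = (m : M) - m' := by
  rw [← sub_eq_zero, ← map_sub, cl_eq_zero, AddSubgroupClass.coe_sub]

section smul

variable (φ : M →ₗ[R] N) (ψ : N →ₗ[R] M) (x : R)

/-- Two terms of the sequence of `(φ, ψ)` against `(x • φ, ψ)`. -/
theorem length_smul (h : IsPeriodic φ ψ) :
    Module.length R (perH (x • φ) ψ) = Module.length R (perH φ ψ) +
      Module.length R (perH (x • LinearMap.id : LinearMap.range φ →ₗ[R] LinearMap.range φ) 0) ∧
    Module.length R (perH ψ (x • φ)) =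
      Module.length R (perH (0 : LinearMap.range φ →ₗ[R] LinearMap.range φ) (x • LinearMap.id)) +
        Module.length R (perH ψ φ) := by
  constructor
  · let i : perH φ ψ →ₗ[R] perH (x • φ) ψ := Submodule.mapQ _ _
      (Submodule.inclusion (fun m (hm : φ m = 0) => by
        rw [LinearMap.mem_ker, LinearMap.smul_apply, hm, smul_zero]))
      (fun m hm => hm)
    let π : perH (x • φ) ψ →ₗ[R]
        perH (x • LinearMap.id : LinearMap.range φ →ₗ[R] LinearMap.range φ) 0 :=
      ((LinearMap.range ψ).submoduleOf (LinearMap.ker (x • φ))).liftQ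
        (cl _ _ ∘ₗ ((φ.rangeRestrict ∘ₗ (LinearMap.ker (x • φ)).subtype).codRestrict _
          fun m => Subtype.ext (LinearMap.mem_ker.mp m.2 : x • φ (m : M) = 0))) (by
        rintro m ⟨n, hn⟩
        refine LinearMap.mem_ker.mpr (cl_eq_zero.mpr ⟨0, Subtype.ext ?_⟩)
        show (0 : N) = φ (m : M)
        rw [show φ (m : M) = φ (ψ n) from (congrArg φ hn).symm]
        exact (LinearMap.congr_fun h.1 n).symm)
    refine Module.length_eq_add_of_exact i π ?_ ?_ ?_
    · refine LinearMap.ker_eq_bot.mp (LinearMap.ker_eq_bot'.mpr fun z hz => ?_)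
      obtain ⟨⟨m, hm⟩, rfl⟩ := cl_surjective φ ψ z
      exact cl_eq_zero.mpr (cl_eq_zero (φ := x • φ).mp hz)
    · intro z
      obtain ⟨⟨⟨_, m, rfl⟩, hm⟩, rfl⟩ := cl_surjective _ _ z
      exact ⟨cl _ _ ⟨m, congrArg Subtype.val hm⟩, rfl⟩
    · intro z
      obtain ⟨⟨m, hm⟩, rfl⟩ := cl_surjective _ _ z
      constructor
      · intro hz
        obtain ⟨_, hn⟩ := cl_eq_zero.mp (show cl _ _ _ = 0 from hz)
        exact ⟨cl φ ψ ⟨m, (congrArg Subtype.val hn).symm⟩, rfl⟩
      · rintro ⟨w, hw⟩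
        obtain ⟨⟨k, hk⟩, rfl⟩ := cl_surjective φ ψ w
        rw [← hw]
        exact cl_eq_zero.mpr ⟨0, Subtype.ext hk.symm⟩
  · let i : perH (0 : LinearMap.range φ →ₗ[R] LinearMap.range φ) (x • LinearMap.id) →ₗ[R]
        perH ψ (x • φ) := Submodule.mapQ _ _
      (((LinearMap.range φ).subtype ∘ₗ (LinearMap.ker (0 : LinearMap.range φ →ₗ[R] LinearMap.range φ)).subtype).codRestrict
        (LinearMap.ker ψ) fun m => LinearMap.range_le_ker_iff.mpr h.2 m.1.2) (by
        rintro m ⟨⟨_, k, rfl⟩, hw⟩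
        exact ⟨k, congrArg Subtype.val hw⟩)
    let π : perH ψ (x • φ) →ₗ[R] perH ψ φ := Submodule.mapQ _ _ LinearMap.id (by
      rintro m ⟨k, hk⟩
      exact ⟨x • k, (map_smul φ x k).trans hk⟩)
    refine Module.length_eq_add_of_exact i π ?_ ?_ ?_
    · refine LinearMap.ker_eq_bot.mp (LinearMap.ker_eq_bot'.mpr fun z hz => ?_)
      obtain ⟨m, rfl⟩ := cl_surjective _ _ z
      obtain ⟨k, hk⟩ := cl_eq_zero.mp (show cl ψ (x • φ) _ = 0 from hz)
      exact cl_eq_zero.mpr ⟨⟨φ k, k, rfl⟩, Subtype.ext hk⟩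
    · intro z
      obtain ⟨m, rfl⟩ := cl_surjective _ _ z
      exact ⟨cl _ _ m, rfl⟩
    · intro z
      obtain ⟨⟨m, hm⟩, rfl⟩ := cl_surjective _ _ z
      constructor
      · intro hz
        obtain ⟨k, hk⟩ := cl_eq_zero.mp (show cl ψ φ _ = 0 from hz)
        exact ⟨cl _ _ ⟨⟨m, k, hk⟩, rfl⟩, rfl⟩
      · rintro ⟨w, hw⟩
        obtain ⟨⟨⟨_, k, rfl⟩, hk⟩, rfl⟩ := cl_surjective _ _ w
        rw [← hw]
        exact cl_eq_zero.mpr ⟨k, rfl⟩

theorem herbrand_smul (h : IsPeriodic φ ψ) (hfin : FinCoh R φ ψ)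
    (hI : FinCoh R (0 : LinearMap.range φ →ₗ[R] LinearMap.range φ) (x • LinearMap.id)) :
    FinCoh R (x • φ) ψ ∧ herbrand R (x • φ) ψ = herbrand R φ ψ -
      herbrand R (0 : LinearMap.range φ →ₗ[R] LinearMap.range φ) (x • LinearMap.id) := by
  obtain ⟨e1, e2⟩ := length_smul φ ψ x h
  refine ⟨⟨?_, ?_⟩, ?_⟩
  · rw [e1]; exact WithTop.add_lt_top.mpr ⟨hfin.1, hI.2⟩
  · rw [e2]; exact WithTop.add_lt_top.mpr ⟨hI.1, hfin.2⟩
  · unfold herbrand
    rw [e1, e2, ENat.toNat_add hfin.1.ne hI.2.ne, ENat.toNat_add hI.1.ne hfin.2.ne]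
    push_cast
    ring

theorem herbrand_flip : herbrand R ψ φ = -herbrand R φ ψ := by
  unfold herbrand
  ring

end smul

theorem finCoh_image [IsNoetherianRing R] [IsLocalRing R] [Module.Finite R M] (S : Submodule R M) (x : R)
    (hx : Module.supportDim R (M ⧸ x • (⊤ : Submodule R M)) ≤ 0) :
    FinCoh R (0 : S →ₗ[R] S) (x • LinearMap.id) := by
  have key : ∀ (Q : Type v) [AddCommGroup Q] [Module R Q] [Module.Finite R Q],
      Module.support R Q ⊆ Module.support R M → (∀ q : Q, x • q = 0) → Module.length R Q < ⊤ := by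
    intro Q _ _ _ hs hq
    refine lt_top_iff_ne_top.mpr (length_ne_top_of_support fun p hp => ?_)
    refine support_subset_of_supportDim_le_zero hx ?_
    rw [show Module.support R (M ⧸ x • (⊤ : Submodule R M)) = _ from Module.support_quotSMulTop x]
    refine ⟨hs hp, ?_⟩
    rw [PrimeSpectrum.mem_zeroLocus, Set.singleton_subset_iff]
    exact Module.annihilator_le_of_mem_support hp (Module.mem_annihilator.mpr hq)
  have : IsNoetherian R M := isNoetherian_of_isNoetherianRing_of_finite R M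
  have hS : Module.support R S ⊆ Module.support R M :=
    Module.support_subset_of_injective _ (Submodule.injective_subtype S)
  constructor
  · refine key _ ((Module.support_subset_of_surjective _ (cl_surjective _ _)).trans
      ((Module.support_subset_of_injective _ (Submodule.injective_subtype _)).trans hS)) fun q => ?_
    obtain ⟨m, rfl⟩ := cl_surjective _ _ q
    rw [← map_smul]
    exact cl_eq_zero.mpr ⟨m, rfl⟩
  · refine key _ ((Module.support_subset_of_surjective _ (cl_surjective _ _)).trans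
      ((Module.support_subset_of_injective _ (Submodule.injective_subtype _)).trans hS)) fun q => ?_
    obtain ⟨m, rfl⟩ := cl_surjective _ _ q
    rw [← map_smul]
    exact cl_eq_zero.mpr ⟨0, by rw [map_zero]; exact (LinearMap.mem_ker.mp m.2).symm⟩

section Nilpotent

variable (φ : M →ₗ[R] M)

theorem pow_succ_apply (k : ℕ) (m : M) : (φ ^ (k + 1)) m = (φ ^ k) (φ m) := by
  rw [pow_succ, Module.End.mul_apply]

theorem pow_succ_apply' (k : ℕ) (m : M) : (φ ^ (k + 1)) m = φ ((φ ^ k) m) := by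
  rw [pow_succ', Module.End.mul_apply]

/-- The four term sequence in the index of the power. -/
theorem length_step (n i : ℕ) (hi : i < n) : ∃ r,
    Module.length R (perH (φ ^ (i + 1)) (φ ^ (n - (i + 1)))) =
      Module.length R (perH φ (φ ^ (n - (i + 1)))) + r ∧
    Module.length R (perH (φ ^ i) (φ ^ (n - i))) = r + Module.length R (perH (φ ^ i) φ) := by
  obtain ⟨k, rfl⟩ : ∃ k, n = i + 1 + k := ⟨n - (i + 1), by omega⟩
  rw [show i + 1 + k - (i + 1) = k by omega, show i + 1 + k - i = k + 1 by omega]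
  let ι : perH φ (φ ^ k) →ₗ[R] perH (φ ^ (i + 1)) (φ ^ k) := Submodule.mapQ _ _
    (Submodule.inclusion fun m (hm : φ m = 0) => by
      rw [LinearMap.mem_ker, pow_succ_apply, hm, map_zero]) (fun m hm => hm)
  let μ : perH (φ ^ (i + 1)) (φ ^ k) →ₗ[R] perH (φ ^ i) (φ ^ (k + 1)) := Submodule.mapQ _ _
    ((φ ∘ₗ (LinearMap.ker (φ ^ (i + 1))).subtype).codRestrict (LinearMap.ker (φ ^ i)) fun m =>
      LinearMap.mem_ker.mpr ((pow_succ_apply φ i (m : M)).symm.trans (LinearMap.mem_ker.mp m.2))) (by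
      rintro m ⟨w, hw⟩
      exact ⟨w, (pow_succ_apply' φ k w).trans (congrArg φ hw)⟩)
  let π : perH (φ ^ i) (φ ^ (k + 1)) →ₗ[R] perH (φ ^ i) φ := Submodule.mapQ _ _ LinearMap.id (by
    rintro m ⟨w, hw⟩
    exact ⟨(φ ^ k) w, (pow_succ_apply' φ k w).symm.trans hw⟩)
  have hμ : Function.Exact μ π := by
    intro z
    obtain ⟨⟨m, hm⟩, rfl⟩ := cl_surjective _ _ z
    constructor
    · intro hz
      obtain ⟨w, hw⟩ := cl_eq_zero.mp (show cl (φ ^ i) φ _ = 0 from hz)
      refine ⟨cl _ _ ⟨w, ?_⟩, ?_⟩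
      · rw [LinearMap.mem_ker, pow_succ_apply, hw]
        exact hm
      · exact congrArg _ (Subtype.ext hw)
    · rintro ⟨w, hw⟩
      obtain ⟨⟨w, hw'⟩, rfl⟩ := cl_surjective _ _ w
      rw [← hw]
      exact cl_eq_zero.mpr ⟨w, rfl⟩
  have hι : Function.Exact ι μ := by
    intro z
    obtain ⟨⟨m, hm⟩, rfl⟩ := cl_surjective _ _ z
    constructor
    · intro hz
      obtain ⟨w, hw⟩ := cl_eq_zero.mp (show cl (φ ^ i) (φ ^ (k + 1)) _ = 0 from hz)
      refine ⟨cl _ _ ⟨m - (φ ^ k) w, ?_⟩, ?_⟩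
      · rw [LinearMap.mem_ker, map_sub, ← pow_succ_apply', hw]
        exact sub_self _
      · refine cl_eq_iff.mpr ⟨-w, ?_⟩
        show (φ ^ k) (-w) = m - (φ ^ k) w - m
        rw [map_neg, sub_sub_cancel_left]
    · rintro ⟨w, hw⟩
      obtain ⟨⟨w, hw'⟩, rfl⟩ := cl_surjective _ _ w
      rw [← hw]
      refine cl_eq_zero.mpr ⟨0, ?_⟩
      show (φ ^ (k + 1)) 0 = φ w
      rw [map_zero, hw']
  have hinj : Function.Injective ι := by
    refine LinearMap.ker_eq_bot.mp (LinearMap.ker_eq_bot'.mpr fun z hz => ?_)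
    obtain ⟨⟨m, hm⟩, rfl⟩ := cl_surjective _ _ z
    exact cl_eq_zero.mpr (cl_eq_zero (φ := φ ^ (i + 1)).mp hz)
  have hsurj : Function.Surjective π := fun z => by
    obtain ⟨m, rfl⟩ := cl_surjective _ _ z
    exact ⟨cl _ _ m, rfl⟩
  refine ⟨Module.length R (LinearMap.range μ), ?_, ?_⟩
  · rw [length_exact hι]
    congr 1
    exact (LinearEquiv.ofInjective ι hinj).length_eq.symm
  · rw [length_exact hμ]
    congr 1
    exact (LinearEquiv.ofTop _ (LinearMap.range_eq_top.mpr hsurj)).length_eq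

/-- The four term sequence comparing the two filtrations. -/
theorem length_step' (j : ℕ) : ∃ r,
    Module.length R (perH (φ ^ (j + 1)) φ) = Module.length R (perH (φ ^ j) φ) + r ∧
    Module.length R (perH φ (φ ^ (j + 1))) = r + Module.length R (perH φ (φ ^ j)) := by
  let ι : perH (φ ^ j) φ →ₗ[R] perH (φ ^ (j + 1)) φ := Submodule.mapQ _ _
    (Submodule.inclusion fun m (hm : (φ ^ j) m = 0) => by
      rw [LinearMap.mem_ker, pow_succ_apply', hm, map_zero]) (fun m hm => hm)
  let μ : perH (φ ^ (j + 1)) φ →ₗ[R] perH φ (φ ^ (j + 1)) := Submodule.mapQ _ _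
    (((φ ^ j) ∘ₗ (LinearMap.ker (φ ^ (j + 1))).subtype).codRestrict (LinearMap.ker φ) fun m =>
      LinearMap.mem_ker.mpr ((pow_succ_apply' φ j (m : M)).symm.trans (LinearMap.mem_ker.mp m.2))) (by
      rintro m ⟨w, hw⟩
      exact ⟨w, (pow_succ_apply φ j w).trans (congrArg (φ ^ j) hw)⟩)
  let π : perH φ (φ ^ (j + 1)) →ₗ[R] perH φ (φ ^ j) := Submodule.mapQ _ _ LinearMap.id (by
    rintro m ⟨w, hw⟩
    exact ⟨φ w, (pow_succ_apply φ j w).symm.trans hw⟩)
  have hμ : Function.Exact μ π := by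
    intro z
    obtain ⟨⟨m, hm⟩, rfl⟩ := cl_surjective _ _ z
    constructor
    · intro hz
      obtain ⟨w, hw⟩ := cl_eq_zero.mp (show cl φ (φ ^ j) _ = 0 from hz)
      refine ⟨cl _ _ ⟨w, ?_⟩, ?_⟩
      · rw [LinearMap.mem_ker, pow_succ_apply', hw]
        exact hm
      · exact congrArg _ (Subtype.ext hw)
    · rintro ⟨w, hw⟩
      obtain ⟨⟨w, hw'⟩, rfl⟩ := cl_surjective _ _ w
      rw [← hw]
      exact cl_eq_zero.mpr ⟨w, rfl⟩
  have hι : Function.Exact ι μ := by
    intro z
    obtain ⟨⟨m, hm⟩, rfl⟩ := cl_surjective _ _ z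
    constructor
    · intro hz
      obtain ⟨w, hw⟩ := cl_eq_zero.mp (show cl φ (φ ^ (j + 1)) _ = 0 from hz)
      refine ⟨cl _ _ ⟨m - φ w, ?_⟩, ?_⟩
      · rw [LinearMap.mem_ker, map_sub, ← pow_succ_apply, hw]
        exact sub_self _
      · refine cl_eq_iff.mpr ⟨-w, ?_⟩
        show φ (-w) = m - φ w - m
        rw [map_neg, sub_sub_cancel_left]
    · rintro ⟨w, hw⟩
      obtain ⟨⟨w, hw'⟩, rfl⟩ := cl_surjective _ _ w
      rw [← hw]
      refine cl_eq_zero.mpr ⟨0, ?_⟩
      show (φ ^ (j + 1)) 0 = (φ ^ j) w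
      rw [map_zero, hw']
  have hinj : Function.Injective ι := by
    refine LinearMap.ker_eq_bot.mp (LinearMap.ker_eq_bot'.mpr fun z hz => ?_)
    obtain ⟨⟨m, hm⟩, rfl⟩ := cl_surjective _ _ z
    exact cl_eq_zero.mpr (cl_eq_zero (φ := φ ^ (j + 1)).mp hz)
  have hsurj : Function.Surjective π := fun z => by
    obtain ⟨m, rfl⟩ := cl_surjective _ _ z
    exact ⟨cl _ _ m, rfl⟩
  refine ⟨Module.length R (LinearMap.range μ), ?_, ?_⟩
  · rw [length_exact hι]
    congr 1
    exact (LinearEquiv.ofInjective ι hinj).length_eq.symm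
  · rw [length_exact hμ]
    congr 1
    exact (LinearEquiv.ofTop _ (LinearMap.range_eq_top.mpr hsurj)).length_eq

theorem length_zero_left (ψ : M →ₗ[R] M) : Module.length R (perH (φ ^ 0) ψ) = 0 := by
  have : Subsingleton (LinearMap.ker (φ ^ 0)) := ⟨fun a b => Subtype.ext <| by
    rw [show (a : M) = 0 from (LinearMap.mem_ker.mp a.2 : (φ ^ 0) (a : M) = 0),
      show (b : M) = 0 from (LinearMap.mem_ker.mp b.2 : (φ ^ 0) (b : M) = 0)]⟩
  have := (cl_surjective (φ ^ 0) ψ).subsingleton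
  exact Module.length_eq_zero

theorem length_zero_right (ψ : M →ₗ[R] M) : Module.length R (perH ψ (φ ^ 0)) = 0 := by
  have : Subsingleton (perH ψ (φ ^ 0)) := ⟨fun a b => by
    obtain ⟨a, rfl⟩ := cl_surjective _ _ a
    obtain ⟨b, rfl⟩ := cl_surjective _ _ b
    exact cl_eq_iff.mpr ⟨(a : M) - b, rfl⟩⟩
  exact Module.length_eq_zero

theorem pow_herbrand {n : ℕ} (hn : 0 < n)
    (hfin : Module.length R (perH φ (φ ^ (n - 1))) < ⊤) (i : ℕ) (hi : i ≤ n) :
    FinCoh R (φ ^ i) (φ ^ (n - i)) ∧ herbrand R (φ ^ i) (φ ^ (n - i)) = 0 := by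
  let a : ℕ → ℕ := fun j => (Module.length R (perH φ (φ ^ j))).toNat
  let c : ℕ → ℕ := fun j => (Module.length R (perH (φ ^ j) (φ ^ (n - j)))).toNat
  have hb : ∀ j, j < n → Module.length R (perH φ (φ ^ j)) = a j ∧ Module.length R (perH (φ ^ j) φ) = a j := by
    have hA : ∀ d j, j + d = n - 1 → Module.length R (perH φ (φ ^ j)) < ⊤ := by
      intro d
      induction d with
      | zero => intro j hj; rwa [show j = n - 1 by omega]
      | succ d ih =>
        intro j hj
        obtain ⟨r, -, h2⟩ := length_step' φ j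
        exact lt_of_le_of_lt (h2.symm ▸ le_add_self) (ih (j + 1) (by omega))
    intro j
    induction j with
    | zero =>
      intro _
      simp [a, length_zero_left φ, length_zero_right φ]
    | succ j ih =>
      intro hj
      obtain ⟨e1, e2⟩ := ih (by omega)
      have hfin' := hA (n - 1 - (j + 1)) (j + 1) (by omega)
      obtain ⟨r, h1, h2⟩ := length_step' φ j
      have ha : Module.length R (perH φ (φ ^ (j + 1))) = a (j + 1) := (ENat.natCast_toNat hfin'.ne).symm
      refine ⟨ha, ?_⟩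
      rw [← ha, h1, h2, e1, e2, add_comm]
  have hc : ∀ j, j ≤ n → Module.length R (perH (φ ^ j) (φ ^ (n - j))) = c j := by
    intro j
    induction j with
    | zero =>
      intro _
      simp [c, length_zero_left φ]
    | succ j ih =>
      intro hj
      obtain ⟨r, h1, h2⟩ := length_step φ n j (by omega)
      have hr : r ≠ ⊤ := ne_top_of_le_ne_top (by rw [ih (by omega)]; exact ENat.natCast_ne_top _)
        (h2 ▸ le_self_add)
      refine (ENat.natCast_toNat ?_).symm
      rw [h1, (hb _ (by omega)).1]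
      exact WithTop.add_ne_top.mpr ⟨ENat.natCast_ne_top _, hr⟩
  have hstep : ∀ j, j < n → c (j + 1) + a j = a (n - (j + 1)) + c j := by
    intro j hj
    obtain ⟨r, h1, h2⟩ := length_step φ n j hj
    rw [hc _ (by omega), (hb _ (by omega)).1] at h1
    rw [hc _ (by omega), (hb _ hj).2] at h2
    have hr : r ≠ ⊤ := ne_top_of_le_ne_top (ENat.natCast_ne_top (c j)) (h2 ▸ le_self_add)
    lift r to ℕ using hr
    norm_cast at h1 h2
    omega
  have hsym : ∀ j, j ≤ n → c (n - j) = c j := by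
    intro j
    induction j with
    | zero =>
      intro _
      have : Module.length R (perH (φ ^ n) (φ ^ (n - n))) = 0 := by rw [Nat.sub_self]; exact length_zero_right φ _
      simp only [Nat.sub_zero, c]
      rw [this, length_zero_left φ]
    | succ j ih =>
      intro hj
      have h1 := hstep j (by omega)
      have h2 := hstep (n - (j + 1)) (by omega)
      rw [show n - (j + 1) + 1 = n - j by omega, ih (by omega), show n - (n - j) = j by omega] at h2
      omega
  have h2 := hc (n - i) (by omega)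
  rw [show n - (n - i) = i by omega] at h2
  refine ⟨⟨by rw [hc i hi]; exact ENat.natCast_lt_top _, by rw [h2]; exact ENat.natCast_lt_top _⟩, ?_⟩
  unfold herbrand
  rw [hc i hi, h2, ENat.toNat_natCast, ENat.toNat_natCast, hsym i hi, sub_self]

end Nilpotent

end Groth.Agent.CycLib.Periodic
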