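import Groth.Agent.CycLib.GoodSeq
import Groth.Agent.CycLib.Det
import Groth.Agent.CycLib.EulerDim1
import Groth.Agent.IntThLib.Lattice
import Groth.Prelude.Def_Tame

/-! Ratio of symbols of two chains and the length of the cokernel. -/

set_option linter.unusedSectionVars false

namespace Groth.Agent.CycLib.Ratio

open CycDet IsLocalRing IntThLib

universe u

variable {R : Type u} [CommRing R] [IsNoetherianRing R] [IsLocalRing R] (q : PrimeSpectrum R)
  {N : Type u} [AddCommGroup N] [Module R N] {l : ℕ}

/-- The local ring at `q`. -/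
abbrev Rq := Localization.AtPrime q.asIdeal

/-- The localised module. -/
abbrev Vq (N : Type u) [AddCommGroup N] [Module R N] := LocalizedModule q.asIdeal.primeCompl N

/-- The tuple in the localised module. -/
noncomputable abbrev loc (u : Fin l → N) : Fin l → Vq q N := LocalizedModule.mkLinearMap _ N ∘ u

/-- Saturation of the first `k` entries. -/
noncomputable def sat (u : Fin l → N) (k : ℕ) : Submodule R N :=
  ((spanBefore (Rq q) (Vq q N) (loc q u) k).restrictScalars R).comap (LocalizedModule.mkLinearMap _ N)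

theorem mem_sat {u : Fin l → N} {k : ℕ} {z : N} :
    z ∈ sat q u k ↔ LocalizedModule.mkLinearMap q.asIdeal.primeCompl N z ∈
      spanBefore (Rq q) (Vq q N) (loc q u) k :=
  Iff.rfl

theorem unit_alg {s : R} (hs : s ∉ q.asIdeal) : IsUnit (algebraMap R (Rq q) s) :=
  IsLocalization.map_units (Rq q) (⟨s, hs⟩ : q.asIdeal.primeCompl)

theorem alg_mem_max {r : R} : algebraMap R (Rq q) r ∈ maximalIdeal (Rq q) ↔ r ∈ q.asIdeal :=
  IsLocalization.AtPrime.to_map_mem_maximal_iff (Rq q) q.asIdeal r

theorem smul_mem_sat {u : Fin l → N} {k : ℕ} {s : R} (hs : s ∉ q.asIdeal) {z : N} :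
    s • z ∈ sat q u k ↔ z ∈ sat q u k := by
  rw [mem_sat, mem_sat, map_smul, ← algebraMap_smul (Rq q) s]
  exact smul_mem_unit_iff (unit_alg q hs)

theorem sat_mono (u : Fin l → N) {i j : ℕ} (h : i ≤ j) : sat q u i ≤ sat q u j :=
  fun _ hz => spanBefore_mono _ h hz

theorem spanBefore_le_sat (u : Fin l → N) (k : ℕ) : spanBefore R N u k ≤ sat q u k := by
  refine Submodule.span_le.mpr ?_
  rintro _ ⟨j, hj, rfl⟩
  exact mem_spanBefore (e := loc q u) hj

theorem smul_self_mem {u : Fin l → N} (hu : IsAdmissible (Rq q) (Vq q N) (loc q u)) (j : Fin l) {r : R}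
    (hr : r ∈ q.asIdeal) : r • u j ∈ sat q u j := by
  rw [mem_sat, map_smul, ← algebraMap_smul (Rq q) r]
  exact hu j _ ((alg_mem_max q).mpr hr)

theorem mem_of_smul_self {u : Fin l → N} (hu : Strict (Rq q) (loc q u)) (j : Fin l) {r : R}
    (hr : r • u j ∈ sat q u j) : r ∈ q.asIdeal := by
  by_contra h
  exact hu j ((smul_mem_sat q h).mp hr)

theorem exists_fraction (c : Rq q) : ∃ a s : R, s ∉ q.asIdeal ∧ algebraMap R (Rq q) s * c = algebraMap R (Rq q) a := by
  obtain ⟨⟨a, s⟩, h⟩ := IsLocalization.surj q.asIdeal.primeCompl c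
  exact ⟨a, s, s.2, by rw [mul_comm]; exact h⟩

theorem sat_succ {u : Fin l → N} (j : Fin l) {z : N} (hz : z ∈ sat q u (j + 1)) :
    ∃ a s : R, s ∉ q.asIdeal ∧ s • z - a • u j ∈ sat q u j := by
  rw [mem_sat, spanBefore_succ, Submodule.mem_sup] at hz
  obtain ⟨v, hv, w, hw, hvw⟩ := hz
  obtain ⟨c, rfl⟩ := Submodule.mem_span_singleton.mp hw
  obtain ⟨a, s, hs, h⟩ := exists_fraction q c
  refine ⟨a, s, hs, ?_⟩
  rw [mem_sat, map_sub, map_smul, map_smul, ← hvw, ← algebraMap_smul (Rq q) s, ← algebraMap_smul (Rq q) a, ← h,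
    smul_add, smul_smul]
  simpa using Submodule.smul_mem _ (algebraMap R (Rq q) s) hv

/-- The order function of `R ⧸ q`. -/
noncomputable abbrev ordQ (a : R) : ℕ∞ := Ring.ord (R ⧸ q.asIdeal) (Ideal.Quotient.mk q.asIdeal a)

theorem ordQ_mul {a b : R} (hb : b ∉ q.asIdeal) : ordQ q (a * b) = ordQ q a + ordQ q b := by
  unfold ordQ
  rw [map_mul]
  exact Ring.ord_mul _ (mem_nonZeroDivisors_of_ne_zero (mt Ideal.Quotient.eq_zero_iff_mem.mp hb))

theorem ordQ_neg (a : R) : ordQ q (-a) = ordQ q a := by
  unfold ordQ Ring.ord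
  rw [map_neg, Ideal.span_singleton_neg]

/-- The length between saturation and span in one step. -/
noncomputable def gap (u : Fin l → N) (k : ℕ) : ℕ∞ :=
  relLen R (sat q u (k + 1)) (sat q u k ⊔ spanBefore R N u (k + 1))

theorem gap_eq (u : Fin l → N) (j : Fin l) :
    gap q u j = relLen R (sat q u (j + 1)) (sat q u j ⊔ Submodule.span R {u j}) := by
  rw [gap, spanBefore_succ, ← sup_assoc, sup_eq_left.mpr (spanBefore_le_sat q u j)]

/-- The total length. -/
noncomputable def total (u : Fin l → N) : ℕ∞ := ∑ k ∈ Finset.range l, gap q u k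

theorem relLen_sup_inf (B T : Submodule R N) : relLen R (B ⊔ T) T = relLen R B (B ⊓ T) :=
  ((Submodule.quotEquivOfEq _ _ (by rw [Submodule.submoduleOf, Submodule.comap_inf])).trans
    (LinearMap.quotientInfEquivSupQuotient B T)).length_eq.symm

theorem relLen_scale {u : Fin l → N} (hs : Strict (Rq q) (loc q u)) (hu : IsAdmissible (Rq q) (Vq q N) (loc q u))
    (j : Fin l) (a : R) :
    relLen R (sat q u j ⊔ Submodule.span R {u j}) (sat q u j ⊔ Submodule.span R {a • u j}) = ordQ q a := by
  let P := sat q u j ⊔ Submodule.span R {a • u j}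
  let T := sat q u j ⊔ Submodule.span R {u j}
  let g : R →ₗ[R] (↥T ⧸ P.submoduleOf T) := (P.submoduleOf T).mkQ ∘ₗ
    LinearMap.toSpanSingleton R T ⟨u j, Submodule.mem_sup_right (Submodule.mem_span_singleton_self _)⟩
  have hker : LinearMap.ker g = q.asIdeal ⊔ Ideal.span {a} := by
    ext r
    show Submodule.Quotient.mk _ = 0 ↔ _
    rw [Submodule.Quotient.mk_eq_zero]
    show r • u j ∈ P ↔ _
    rw [Submodule.mem_sup, Submodule.mem_sup]
    constructor
    · rintro ⟨w, hw, z, hz, h⟩
      obtain ⟨t, rfl⟩ := Submodule.mem_span_singleton.mp hz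
      refine ⟨r - t * a, mem_of_smul_self q hs j ?_, t * a, Ideal.mem_span_singleton'.mpr ⟨t, rfl⟩,
        sub_add_cancel _ _⟩
      rw [sub_smul, mul_smul, ← h, add_sub_cancel_right]
      exact hw
    · rintro ⟨w, hw, z, hz, rfl⟩
      obtain ⟨t, rfl⟩ := Ideal.mem_span_singleton'.mp hz
      exact ⟨w • u j, smul_self_mem q hu j hw, t • a • u j,
        Submodule.smul_mem _ _ (Submodule.mem_span_singleton_self _), by rw [smul_smul, ← add_smul]⟩
  have hsurj : Function.Surjective g := fun z => by
    obtain ⟨⟨z, hz⟩, rfl⟩ := Submodule.mkQ_surjective _ z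
    obtain ⟨w, hw, b, hb, hwb⟩ := Submodule.mem_sup.mp hz
    obtain ⟨r, rfl⟩ := Submodule.mem_span_singleton.mp hb
    refine ⟨r, (Submodule.Quotient.eq _).mpr ?_⟩
    show r • u j - z ∈ P
    rw [← hwb, sub_add_cancel_right]
    exact Submodule.mem_sup_left (neg_mem hw)
  rw [ordQ, ord_eq_length, relLen]
  exact ((Submodule.quotEquivOfEq _ _ hker.symm).trans (g.quotKerEquivOfSurjective hsurj)).length_eq.symm

theorem loc_span_top (hl : Module.length (Rq q) (Vq q N) = l) {u : Fin l → N}
    (hu : IsAdmissible (Rq q) (Vq q N) (loc q u)) (hs : Strict (Rq q) (loc q u)) :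
    Submodule.span (Rq q) (Set.range (loc q u)) = ⊤ :=
  (strict_iff_span hu hl).mp hs

/-- The symbol of `u` against `y` is a fraction whose order is the total length. -/
def Prop' (y u : Fin l → N) : Prop :=
  ∃ a s : R, a ∉ q.asIdeal ∧ s ∉ q.asIdeal ∧
    clsT (Rq q) (loc q u) = (residue (Rq q) (algebraMap R _ a) / residue (Rq q) (algebraMap R _ s)) •
      clsT (Rq q) (loc q y) ∧ total q u + ordQ q s = ordQ q a

theorem spanBefore_swap {W : Type u} [AddCommGroup W] [Module (Rq q) W] (e : Fin l → W) {a b : Fin l}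
    (hab : (b : ℕ) + 1 = a) {k : ℕ} (hk : k ≠ a) :
    spanBefore (Rq q) W (e ∘ Equiv.swap a b) k = spanBefore (Rq q) W e k := by
  rw [spanBefore, spanBefore, Set.image_comp]
  congr 2
  ext t
  simp only [Set.mem_image, Set.mem_ofPred_eq]
  constructor
  · rintro ⟨s, hs, rfl⟩
    rcases eq_or_ne s a with rfl | h1
    · rw [Equiv.swap_apply_left]; omega
    rcases eq_or_ne s b with rfl | h2
    · rw [Equiv.swap_apply_right]; omega
    rw [Equiv.swap_apply_of_ne_of_ne h1 h2]; exact hs
  · intro ht
    refine ⟨Equiv.swap a b t, ?_, Equiv.swap_apply_self _ _ _⟩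
    rcases eq_or_ne t a with rfl | h1
    · rw [Equiv.swap_apply_left]; omega
    rcases eq_or_ne t b with rfl | h2
    · rw [Equiv.swap_apply_right]; omega
    rw [Equiv.swap_apply_of_ne_of_ne h1 h2]; exact ht

theorem total_swap {u : Fin l → N} (hs : Strict (Rq q) (loc q u))
    (hu : IsAdmissible (Rq q) (Vq q N) (loc q u)) {a b : Fin l} (hab : (b : ℕ) + 1 = a)
    (hm : ∀ r ∈ maximalIdeal (Rq q), r • loc q u a ∈ spanBefore (Rq q) (Vq q N) (loc q u) b)
    (hs' : Strict (Rq q) (loc q (u ∘ Equiv.swap a b))) :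
    total q (u ∘ Equiv.swap a b) = total q u := by
  classical
  set u' := u ∘ Equiv.swap a b
  have hsat : ∀ k, k ≠ (a : ℕ) → sat q u' k = sat q u k := fun k hk => by
    unfold sat
    rw [show loc q u' = loc q u ∘ Equiv.swap a b from rfl, spanBefore_swap q _ hab hk]
  have two : ∀ {v : Fin l → N}, Strict (Rq q) (loc q v) →
      (∀ r ∈ q.asIdeal, r • v a ∈ sat q v b) →
      gap q v b + gap q v a = relLen R (sat q v (a + 1))
        (sat q v b ⊔ Submodule.span R {v b} ⊔ Submodule.span R {v a}) := by
    intro v hv hmv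
    have hA : sat q v b ≤ sat q v a := sat_mono q v (by omega)
    have hvb : v b ∈ sat q v a := mem_spanBefore (e := loc q v) (by omega)
    have hC : sat q v a ≤ sat q v (a + 1) := sat_mono q v (Nat.le_succ _)
    have hva : v a ∈ sat q v (a + 1) := mem_spanBefore (e := loc q v) (Nat.lt_succ_self _)
    set T := sat q v b ⊔ Submodule.span R {v b} ⊔ Submodule.span R {v a}
    have hBT : sat q v a ⊔ T = sat q v a ⊔ Submodule.span R {v a} := by
      simp only [T, ← sup_assoc]
      rw [sup_eq_left.mpr hA, sup_eq_left.mpr (Submodule.span_le.mpr (Set.singleton_subset_iff.mpr hvb) :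
        Submodule.span R {v b} ≤ sat q v a)]
    have hinf : sat q v a ⊓ T = sat q v b ⊔ Submodule.span R {v b} := by
      refine le_antisymm ?_ (le_inf (sup_le hA (Submodule.span_le.mpr (Set.singleton_subset_iff.mpr hvb))) le_sup_left)
      rintro z ⟨hz, hzT⟩
      obtain ⟨w, hw, t, ht, rfl⟩ := Submodule.mem_sup.mp hzT
      obtain ⟨r, rfl⟩ := Submodule.mem_span_singleton.mp ht
      refine add_mem hw (Submodule.mem_sup_left (hmv r (mem_of_smul_self q hv a ?_)))
      have hw' : w ∈ sat q v a :=
        sup_le hA (Submodule.span_le.mpr (Set.singleton_subset_iff.mpr hvb)) hw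
      simpa using sub_mem hz hw'
    have hTC : T ≤ sat q v (a + 1) :=
      sup_le (sup_le (hA.trans hC) (Submodule.span_le.mpr (Set.singleton_subset_iff.mpr (hC hvb))))
        (Submodule.span_le.mpr (Set.singleton_subset_iff.mpr hva))
    rw [relLen_add (le_sup_right : T ≤ sat q v a ⊔ T) (sup_le hC hTC), relLen_sup_inf, hinf, hBT, gap_eq, gap_eq,
      hab]
  have hmu : ∀ r ∈ q.asIdeal, r • u a ∈ sat q u b := fun r hr => by
    rw [mem_sat, map_smul, ← algebraMap_smul (Rq q) r]
    exact hm _ ((alg_mem_max q).mpr hr)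
  have hmu' : ∀ r ∈ q.asIdeal, r • u' a ∈ sat q u' b := fun r hr => by
    rw [hsat b (by omega), show u' a = u b from congrArg u (Equiv.swap_apply_left a b)]
    exact smul_self_mem q hu b hr
  have hsum : ∀ v : Fin l → N, total q v = gap q v b + gap q v a +
      ∑ k ∈ ((Finset.range l).erase b).erase a, gap q v k := fun v => by
    rw [total, ← Finset.add_sum_erase _ _ (Finset.mem_range.mpr b.2),
      ← Finset.add_sum_erase _ _ (Finset.mem_erase.mpr ⟨by omega, Finset.mem_range.mpr a.2⟩), add_assoc]
  rw [hsum u', hsum u, two hs' hmu', two hs hmu, hsat b (by omega), hsat _ (by omega),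
    show u' a = u b from congrArg u (Equiv.swap_apply_left a b),
    show u' b = u a from congrArg u (Equiv.swap_apply_right a b), sup_assoc, sup_assoc,
    sup_comm (Submodule.span R {u a}) (Submodule.span R {u b})]
  congr 1
  refine Finset.sum_congr rfl fun k hk => ?_
  simp only [Finset.mem_erase, Finset.mem_range] at hk
  obtain ⟨hka, hkb, hkl⟩ := hk
  have hkk : u' ⟨k, hkl⟩ = u ⟨k, hkl⟩ := congrArg u (Equiv.swap_apply_of_ne_of_ne
    (fun h => hka (congrArg Fin.val h)) fun h => hkb (congrArg Fin.val h))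
  have g1 := gap_eq q u' ⟨k, hkl⟩
  have g2 := gap_eq q u ⟨k, hkl⟩
  rw [hkk, hsat _ hka, hsat _ (fun h => hkb (by simp only at h; omega))] at g1
  exact g1.trans g2.symm

theorem residue_alg_ne_zero {s : R} (hs : s ∉ q.asIdeal) : residue (Rq q) (algebraMap R _ s) ≠ 0 :=
  residue_ne_zero (unit_alg q hs)

theorem total_update {u : Fin l → N} (hs : Strict (Rq q) (loc q u)) (hu : IsAdmissible (Rq q) (Vq q N) (loc q u))
    {i : Fin l} {z : N} {a s : R} (hsq : s ∉ q.asIdeal) (haq : a ∉ q.asIdeal)
    (hmem : s • z - a • u i ∈ sat q u i) :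
    IsAdmissible (Rq q) (Vq q N) (loc q (Function.update u i z)) ∧
    Strict (Rq q) (loc q (Function.update u i z)) ∧
    (clsT (Rq q) (loc q u) = (residue (Rq q) (algebraMap R _ s) / residue (Rq q) (algebraMap R _ a)) •
      clsT (Rq q) (loc q (Function.update u i z))) ∧
    total q u + ordQ q a = total q (Function.update u i z) + ordQ q s := by
  classical
  set u' := Function.update u i z
  have hii : u' i = z := Function.update_self i z u
  have hne : ∀ j, j ≠ i → u' j = u j := fun j hj => Function.update_of_ne hj _ _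
  obtain ⟨ua, hua⟩ := unit_alg q haq
  obtain ⟨us, hus⟩ := unit_alg q hsq
  have hd : loc q u i - ((ua⁻¹ * us : (Rq q)ˣ) : Rq q) • loc q u' i ∈ spanBefore (Rq q) (Vq q N) (loc q u) i := by
    refine (smul_mem_unit_iff ua.isUnit).mp ?_
    rw [mem_sat, map_sub, map_smul, map_smul, ← algebraMap_smul (Rq q) s, ← algebraMap_smul (Rq q) a, ← hua, ← hus,
      ← neg_sub] at hmem
    rw [smul_sub, smul_smul, Units.val_mul, ← mul_assoc, Units.mul_inv, one_mul]
    simp only [Function.comp_apply, hii]
    simpa using neg_mem hmem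
  have hw : ∀ j : Fin l, loc q u j - ((Function.update (1 : Fin l → (Rq q)ˣ) i (ua⁻¹ * us)) j : Rq q) • loc q u' j ∈
      spanBefore (Rq q) (Vq q N) (loc q u) j := fun j => by
    rcases eq_or_ne j i with rfl | h
    · rw [Function.update_self]; exact hd
    · simp [Function.update_of_ne h, hne j h]
  have hadm := adm_of_sub _ hw hu
  have hstr := (strict_iff_of_sub _ hw).mp hs
  refine ⟨hadm, hstr, ?_, ?_⟩
  · rw [clsT_smul i (ua⁻¹ * us) (fun j hj => by simp [hne j hj]) hd, Units.val_mul, map_mul, hus,
      show residue (Rq q) (ua⁻¹ : (Rq q)ˣ) = (residue (Rq q) (algebraMap R _ a))⁻¹ from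
        eq_inv_of_mul_eq_one_left (by rw [← hua, ← map_mul, Units.inv_mul, map_one]), div_eq_mul_inv, mul_comm]
  · have hsat : ∀ k, sat q u' k = sat q u k := fun k => by
      unfold sat
      rw [spanBefore_eq_of_sub _ hw k]
    have hrest : ∀ k ∈ (Finset.range l).erase (i : ℕ), gap q u' k = gap q u k := fun k hk => by
      rw [Finset.mem_erase, Finset.mem_range] at hk
      have g1 := gap_eq q u' ⟨k, hk.2⟩
      rw [hne _ fun h => hk.1 (congrArg Fin.val h), hsat, hsat] at g1
      exact g1.trans (gap_eq q u ⟨k, hk.2⟩).symm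
    have hi : gap q u i + ordQ q a = gap q u' i + ordQ q s := by
      have hA := sat_mono q u (Nat.le_succ (i : ℕ))
      have hz : z ∈ sat q u (i + 1) := hsat (i + 1) ▸ hii ▸ mem_spanBefore (e := loc q u') (Nat.lt_succ_self _)
      have hui : u i ∈ sat q u (i + 1) := mem_spanBefore (e := loc q u) (Nat.lt_succ_self _)
      have hsame : sat q u i ⊔ Submodule.span R {a • u i} = sat q u i ⊔ Submodule.span R {s • z} := by
        refine le_antisymm (sup_le le_sup_left ?_) (sup_le le_sup_left ?_) <;>
          rw [Submodule.span_le, Set.singleton_subset_iff]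
        · rw [show a • u i = -(s • z - a • u i) + s • z by abel]
          exact Submodule.add_mem_sup (neg_mem hmem) (Submodule.mem_span_singleton_self _)
        · rw [show s • z = (s • z - a • u i) + a • u i by abel]
          exact Submodule.add_mem_sup hmem (Submodule.mem_span_singleton_self _)
      have e1 := relLen_scale q hs hu i a
      have e2 := relLen_scale q hstr hadm i s
      rw [hsat, hii] at e2
      rw [gap_eq, gap_eq, hsat, hsat, hii, ← e1, ← e2, add_comm (relLen R (sat q u (i + 1)) _),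
        add_comm (relLen R (sat q u (i + 1)) (sat q u i ⊔ Submodule.span R {z})), ← relLen_add, ← relLen_add, hsame]
      · exact sup_le le_sup_left (Submodule.span_le.mpr (Set.singleton_subset_iff.mpr
          (Submodule.mem_sup_right (Submodule.smul_mem _ _ (Submodule.mem_span_singleton_self _)))))
      · exact sup_le hA (Submodule.span_le.mpr (Set.singleton_subset_iff.mpr hz))
      · exact sup_le le_sup_left (Submodule.span_le.mpr (Set.singleton_subset_iff.mpr
          (Submodule.mem_sup_right (Submodule.smul_mem _ _ (Submodule.mem_span_singleton_self _)))))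
      · exact sup_le hA (Submodule.span_le.mpr (Set.singleton_subset_iff.mpr hui))
    rw [total, total, ← Finset.add_sum_erase _ _ (Finset.mem_range.mpr i.2),
      ← Finset.add_sum_erase _ (fun k => gap q u' k) (Finset.mem_range.mpr i.2), Finset.sum_congr rfl hrest,
      add_right_comm, hi, add_right_comm]

theorem chain_smul_mem {x : Fin l → N} (hx : GoodChain q x) (j : Fin l) {r : R} (hr : r ∈ q.asIdeal) :
    r • x j ∈ spanBefore R N x j := by
  obtain ⟨e⟩ := hx j
  let z : ↥(spanBefore R N x (j + 1)) := ⟨x j, mem_spanBefore (Nat.lt_succ_self _)⟩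
  have h : r • Submodule.Quotient.mk (p := (spanBefore R N x j).submoduleOf (spanBefore R N x (j + 1))) z = 0 := by
    refine e.injective ?_
    rw [map_smul, map_zero]
    obtain ⟨w, hw⟩ := Ideal.Quotient.mk_surjective (e (Submodule.Quotient.mk z))
    rw [← hw, Algebra.smul_def, Ideal.Quotient.algebraMap_eq, Ideal.Quotient.eq_zero_iff_mem.mpr hr, zero_mul]
  rw [← Submodule.Quotient.mk_smul, Submodule.Quotient.mk_eq_zero] at h
  exact h

theorem chain_regular {x : Fin l → N} (hx : GoodChain q x) {s : R} (hs : s ∉ q.asIdeal) {k : ℕ} {z : N} :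
    ∀ {m : ℕ}, m ≤ l → z ∈ spanBefore R N x m → s • z ∈ spanBefore R N x k → z ∈ spanBefore R N x k := by
  intro m
  induction m generalizing z with
  | zero =>
    intro _ hz _
    rw [spanBefore_zero, Submodule.mem_bot] at hz
    rw [hz]
    exact zero_mem _
  | succ m ih =>
    intro hm hz hsz
    rcases le_or_gt (m + 1) k with h | h
    · exact spanBefore_mono x h hz
    refine ih (by omega) ?_ hsz
    obtain ⟨e⟩ := hx ⟨m, hm⟩
    have h0 : s • Submodule.Quotient.mk (p := (spanBefore R N x m).submoduleOf (spanBefore R N x (m + 1)))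
        (⟨z, hz⟩ : ↥(spanBefore R N x (m + 1))) = 0 := by
      rw [← Submodule.Quotient.mk_smul, Submodule.Quotient.mk_eq_zero]
      exact spanBefore_mono x (by omega : k ≤ m) hsz
    have h1 : Submodule.Quotient.mk (p := (spanBefore R N x m).submoduleOf (spanBefore R N x (m + 1)))
        (⟨z, hz⟩ : ↥(spanBefore R N x (m + 1))) = 0 := by
      refine e.injective ?_
      have h2 := congrArg e h0
      rw [map_smul, map_zero, Algebra.smul_def, Ideal.Quotient.algebraMap_eq, mul_eq_zero] at h2
      rw [map_zero]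
      exact h2.resolve_left (mt Ideal.Quotient.eq_zero_iff_mem.mp hs)
    rw [Submodule.Quotient.mk_eq_zero] at h1
    exact h1

variable {y : Fin l → N}

theorem torsion_free (hy : GoodChain q y) (hspan : Submodule.span R (Set.range y) = ⊤) {z : N}
    (h : LocalizedModule.mkLinearMap q.asIdeal.primeCompl N z = 0) : z = 0 := by
  obtain ⟨s, hs⟩ := (IsLocalizedModule.eq_zero_iff q.asIdeal.primeCompl _).mp h
  have h1 := chain_regular q hy (s := (s : R)) s.2 (k := 0) le_rfl
    (by rw [spanBefore_last y le_rfl, hspan]; trivial)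
    (by rw [← Submonoid.smul_def, hs]; exact zero_mem _)
  rwa [spanBefore_zero, Submodule.mem_bot] at h1

theorem sat_chain (hy : GoodChain q y) (hspan : Submodule.span R (Set.range y) = ⊤) (k : ℕ) :
    sat q y k = spanBefore R N y k := by
  refine le_antisymm (fun z hz => ?_) (spanBefore_le_sat q y k)
  have key : ∀ v ∈ spanBefore (Rq q) (Vq q N) (loc q y) k, ∃ (s : R) (w : N), s ∉ q.asIdeal ∧
      w ∈ spanBefore R N y k ∧ algebraMap R (Rq q) s • v = LocalizedModule.mkLinearMap _ N w := by
    intro v hv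
    induction hv using Submodule.span_induction with
    | mem v hv =>
      obtain ⟨j, hj, rfl⟩ := hv
      exact ⟨1, y j, q.asIdeal.primeCompl.one_mem, mem_spanBefore hj, by simp⟩
    | zero => exact ⟨1, 0, q.asIdeal.primeCompl.one_mem, zero_mem _, by simp⟩
    | add v v' _ _ ih ih' =>
      obtain ⟨s, w, hs, hw, e⟩ := ih
      obtain ⟨s', w', hs', hw', e'⟩ := ih'
      refine ⟨s * s', s' • w + s • w', q.asIdeal.primeCompl.mul_mem hs hs',
        add_mem (Submodule.smul_mem _ _ hw) (Submodule.smul_mem _ _ hw'), ?_⟩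
      rw [map_add, map_smul, map_smul, ← e, ← e', ← algebraMap_smul (Rq q) s', ← algebraMap_smul (Rq q) s,
        map_mul, smul_add, smul_smul, smul_smul, mul_comm (algebraMap R (Rq q) s)]
    | smul c v _ ih =>
      obtain ⟨s, w, hs, hw, e⟩ := ih
      obtain ⟨a, t, ht, ha⟩ := exists_fraction q c
      refine ⟨t * s, a • w, q.asIdeal.primeCompl.mul_mem ht hs, Submodule.smul_mem _ _ hw, ?_⟩
      rw [map_smul, ← e, ← algebraMap_smul (Rq q) a, ← ha, map_mul, smul_smul, smul_smul]
      congr 1
      ring
  obtain ⟨s, w, hs, hw, e⟩ := key _ hz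
  refine chain_regular q hy hs le_rfl (by rw [spanBefore_last y le_rfl, hspan]; trivial) ?_
  rw [algebraMap_smul, ← map_smul] at e
  rwa [sub_eq_zero.mp (torsion_free q hy hspan (z := s • z - w) (by rw [map_sub, e, sub_self]))]

theorem chain_adm_strict (hy : GoodChain q y) (hspan : Submodule.span R (Set.range y) = ⊤) :
    IsAdmissible (Rq q) (Vq q N) (loc q y) ∧ Strict (Rq q) (loc q y) := by
  refine ⟨fun j c hc => ?_, fun j hj => ?_⟩
  · obtain ⟨a, s, hs, h⟩ := exists_fraction q c
    refine (smul_mem_unit_iff (unit_alg q hs)).mp ?_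
    have ha : a ∈ q.asIdeal := (alg_mem_max q).mp (h ▸ Ideal.mul_mem_left _ _ hc)
    rw [smul_smul, h, algebraMap_smul]
    show a • LocalizedModule.mkLinearMap _ N (y j) ∈ _
    rw [← map_smul]
    exact spanBefore_le_sat q y _ (chain_smul_mem q hy j ha)
  · have h1 : y j ∈ spanBefore R N y j := sat_chain q hy hspan j ▸ hj
    obtain ⟨e⟩ := hy j
    have hsub : Subsingleton (↥(spanBefore R N y (j + 1)) ⧸
        (spanBefore R N y j).submoduleOf (spanBefore R N y (j + 1))) := by
      rw [Submodule.Quotient.subsingleton_iff, eq_top_iff]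
      rintro ⟨z, hz⟩ -
      rw [spanBefore_succ] at hz
      exact sup_le le_rfl (Submodule.span_le.mpr (Set.singleton_subset_iff.mpr h1)) hz
    exact not_subsingleton (R ⧸ q.asIdeal) e.symm.injective.subsingleton

theorem total_chain (hy : GoodChain q y) (hspan : Submodule.span R (Set.range y) = ⊤) : total q y = 0 := by
  refine Finset.sum_eq_zero fun k _ => ?_
  rw [gap, sat_chain q hy hspan, sat_chain q hy hspan, sup_eq_right.mpr (spanBefore_mono y (Nat.le_succ k))]
  exact relLen_self _

theorem prop_all (hy : GoodChain q y) (hspan : Submodule.span R (Set.range y) = ⊤)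
    (hl : Module.length (Rq q) (Vq q N) = l) :
    ∀ {d k : ℕ}, k + d = l → ∀ u : Fin l → N, IsAdmissible (Rq q) (Vq q N) (loc q u) → Strict (Rq q) (loc q u) →
      (∀ j : Fin l, (j : ℕ) < k → u j = y j) → Prop' q y u := by
  classical
  obtain ⟨hyA, hyS⟩ := chain_adm_strict q hy hspan
  intro d
  induction d with
  | zero =>
    intro k hk u _ _ hpre
    obtain rfl : u = y := funext fun j => hpre j (by omega)
    refine ⟨1, 1, q.asIdeal.primeCompl.one_mem, q.asIdeal.primeCompl.one_mem, by simp, ?_⟩
    rw [total_chain q hy hspan, zero_add]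
  | succ d ih =>
    intro k hk u hu hs hpre
    have hkl : k < l := by omega
    let kk : Fin l := ⟨k, hkl⟩
    have hpre_span : ∀ {v : Fin l → N}, (∀ j : Fin l, (j : ℕ) < k → v j = y j) →
        spanBefore (Rq q) (Vq q N) (loc q v) k = spanBefore (Rq q) (Vq q N) (loc q y) k := fun hv =>
      spanBefore_congr fun j hj => congrArg _ (hv j hj)
    -- a position carrying `y k` can be moved down to `k`
    have hmove : ∀ (e : ℕ) (i : Fin l), (i : ℕ) = k + e → ∀ v : Fin l → N, IsAdmissible (Rq q) (Vq q N) (loc q v) →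
        Strict (Rq q) (loc q v) → (∀ j : Fin l, (j : ℕ) < k → v j = y j) → v i = y kk → Prop' q y v := by
      intro e
      induction e with
      | zero =>
        intro i hi v hv hvs hvp hvi
        refine ih (k := k + 1) (by omega) v hv hvs fun j hj => ?_
        rcases eq_or_ne (j : ℕ) k with h | h
        · obtain rfl : j = kk := Fin.ext h
          obtain rfl : i = kk := Fin.ext (by simpa using hi)
          exact hvi
        · exact hvp j (by omega)
      | succ e ihe =>
        intro i hi v hv hvs hvp hvi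
        let b : Fin l := ⟨k + e, by omega⟩
        have hab : (b : ℕ) + 1 = i := by simp only [b]; omega
        have hm : ∀ r ∈ maximalIdeal (Rq q), r • loc q v i ∈ spanBefore (Rq q) (Vq q N) (loc q v) b := fun r hr => by
          refine spanBefore_mono _ (Nat.le_add_right k e) ?_
          rw [hpre_span hvp, show loc q v i = loc q y kk from congrArg _ hvi]
          exact hyA kk r hr
        have hv' : IsAdmissible (Rq q) (Vq q N) (loc q (v ∘ Equiv.swap i b)) := adm_swap hv hab hm
        have hvs' : Strict (Rq q) (loc q (v ∘ Equiv.swap i b)) := by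
          rw [strict_iff_span hv' hl, show loc q (v ∘ Equiv.swap i b) = loc q v ∘ Equiv.swap i b from rfl,
            Set.range_comp, Equiv.range_eq_univ, Set.image_univ]
          exact (strict_iff_span hv hl).mp hvs
        obtain ⟨a, s, ha, hsq, h1, h2⟩ := ihe b rfl _ hv' hvs' (fun j hj => by
          rw [Function.comp_apply, Equiv.swap_apply_of_ne_of_ne (Fin.ne_of_val_ne (by omega))
            (Fin.ne_of_val_ne (by simp only [b]; omega))]
          exact hvp j hj) (by rw [Function.comp_apply, Equiv.swap_apply_right, hvi])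
        refine ⟨-a, s, fun h => ha (by simpa using neg_mem h), hsq, ?_, ?_⟩
        · rw [clsT_swap hv hab hm, show loc q v ∘ Equiv.swap i b = loc q (v ∘ Equiv.swap i b) from rfl, h1,
            map_neg, map_neg, neg_div, neg_smul]
        · rw [← total_swap q hvs hv hab hm hvs', ordQ_neg, h2]
    -- put `y k` into the tuple
    have hy0 : loc q y kk ≠ 0 := fun h => hyS kk (by rw [h]; exact zero_mem _)
    obtain ⟨i, c, hg⟩ := exists_good (x := loc q y kk) hu hy0 (by rw [loc_span_top q hl hu hs]; trivial)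
    have hik : k ≤ (i : ℕ) := by
      by_contra hlt
      have h1 : loc q y kk ∈ spanBefore (Rq q) (Vq q N) (loc q u) k := by
        refine spanBefore_mono _ (by omega : (i : ℕ) + 1 ≤ k) ?_
        rw [spanBefore_succ, ← sub_add_cancel (loc q y kk) (c • loc q u i)]
        exact Submodule.add_mem_sup hg.1 (Submodule.smul_mem _ _ (Submodule.mem_span_singleton_self _))
      rw [hpre_span hpre] at h1
      exact hyS kk h1
    obtain ⟨a, s, hsq, hcs⟩ := exists_fraction q c
    have haq : a ∉ q.asIdeal := fun h => by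
      have := (alg_mem_max q).mpr h
      rw [← hcs, mem_maximalIdeal] at this
      exact this ((unit_alg q hsq).mul hg.2)
    have hmem : s • y kk - a • u i ∈ sat q u i := by
      rw [mem_sat, map_sub, map_smul, map_smul, ← algebraMap_smul (Rq q) s, ← algebraMap_smul (Rq q) a, ← hcs,
        mul_smul, ← smul_sub]
      exact Submodule.smul_mem _ _ hg.1
    obtain ⟨hA', hS', hcl, htot⟩ := total_update q hs hu hsq haq hmem
    obtain ⟨a', s', ha', hs', h1, h2⟩ := hmove ((i : ℕ) - k) i (by omega) _ hA' hS' (fun j hj => by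
      rw [Function.update_of_ne (Fin.ne_of_val_ne (by omega))]
      exact hpre j hj) (Function.update_self _ _ _)
    refine ⟨s * a', a * s', q.asIdeal.primeCompl.mul_mem hsq ha', q.asIdeal.primeCompl.mul_mem haq hs', ?_, ?_⟩
    · rw [hcl, h1, smul_smul, div_mul_div_comm, map_mul, map_mul, map_mul, map_mul]
    · rw [ordQ_mul q hs', ordQ_mul q ha', ← add_assoc, htot, ← h2]
      abel

theorem relLen_total {u : Fin l → N} (hs : Strict (Rq q) (loc q u))
    (hchain : ∀ (j : Fin l), ∀ r ∈ q.asIdeal, r • u j ∈ spanBefore R N u j)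
    (h0 : sat q u 0 = ⊥) : ∀ k, k ≤ l →
    relLen R (sat q u k) (spanBefore R N u k) = ∑ j ∈ Finset.range k, gap q u j := by
  intro k
  induction k with
  | zero =>
    intro _
    rw [h0, spanBefore_zero, relLen_self, Finset.range_zero, Finset.sum_empty]
  | succ k ih =>
    intro hk
    let kk : Fin l := ⟨k, hk⟩
    have hP : spanBefore R N u k ≤ spanBefore R N u (k + 1) := spanBefore_mono u (Nat.le_succ k)
    have hinf : sat q u k ⊓ spanBefore R N u (k + 1) = spanBefore R N u k := by
      refine le_antisymm ?_ (le_inf (spanBefore_le_sat q u k) hP)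
      rintro z ⟨hz, hz'⟩
      rw [show k + 1 = (kk : ℕ) + 1 from rfl, spanBefore_succ] at hz'
      obtain ⟨w, hw, t, ht, rfl⟩ := Submodule.mem_sup.mp hz'
      obtain ⟨r, rfl⟩ := Submodule.mem_span_singleton.mp ht
      refine add_mem hw (hchain kk r (mem_of_smul_self q hs kk ?_))
      simpa using sub_mem hz (spanBefore_le_sat q u k hw)
    rw [relLen_add (le_sup_right : spanBefore R N u (k + 1) ≤ sat q u k ⊔ spanBefore R N u (k + 1))
      (sup_le (sat_mono q u (Nat.le_succ k)) (spanBefore_le_sat q u (k + 1))), relLen_sup_inf, hinf, ih (by omega),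
      Finset.sum_range_succ]
    rfl

end Groth.Agent.CycLib.Ratio
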