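import Groth.Agent.CycLib.SamuelAdd
import Mathlib.RingTheory.KrullDimension.Regular
import Mathlib.Algebra.Module.LocalizedModule.Exact
import Mathlib.Algebra.Module.LocalizedModule.Submodule
import Mathlib.Analysis.SpecificLimits.Basic

/-! The associativity formula for Samuel multiplicities. -/

set_option autoImplicit false

open Filter Topology Pointwise

namespace Groth.Agent.CycLib

universe u

variable {A : Type u} [CommRing A] [IsNoetherianRing A] [IsLocalRing A]

/-- The Hilbert–Samuel function of a module. -/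
noncomputable def samuelFun (I : Ideal A) (N : Type u) [AddCommGroup N] [Module A N] (t : ℕ) : ℕ :=
  (Module.length A (N ⧸ (I ^ t • (⊤ : Submodule A N)))).toNat

omit [IsNoetherianRing A] [IsLocalRing A] in
theorem samuelFun_congr (I : Ideal A) {N N' : Type u} [AddCommGroup N] [Module A N] [AddCommGroup N'] [Module A N']
    (e : N ≃ₗ[A] N') (t : ℕ) : samuelFun I N t = samuelFun I N' t := by
  rw [samuelFun, samuelFun, LinearEquiv.length_eq (Submodule.Quotient.equiv (I ^ t • (⊤ : Submodule A N)) _ e (by
    rw [Submodule.map_smul'', Submodule.map_top, LinearEquiv.range]))]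

theorem samuelFun_le_add (I : Ideal A) {n : ℕ} (hI : IsLocalRing.maximalIdeal A ^ n ≤ I) {M' M M'' : Type u}
    [AddCommGroup M'] [Module A M'] [AddCommGroup M] [Module A M] [AddCommGroup M''] [Module A M'']
    [Module.Finite A M'] [Module.Finite A M] [Module.Finite A M''] (f : M' →ₗ[A] M) (g : M →ₗ[A] M'')
    (hf : Function.Injective f) (hg : Function.Surjective g) (hfg : LinearMap.range f = LinearMap.ker g) (t : ℕ) :
    samuelFun I M t ≤ samuelFun I M' t + samuelFun I M'' t := by
  rw [samuelFun, samuel_split I hI f g hf hg hfg t]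
  refine Nat.add_le_add_right (ENat.toNat_le_toNat ?_ (length_quot_pow_ne_top I hI M' t le_rfl)) _
  have h : I ^ t • (⊤ : Submodule A M') ≤ (I ^ t • (⊤ : Submodule A M)).comap f := by
    rw [← Submodule.map_le_iff_le_comap, Submodule.map_smul'']
    exact Submodule.smul_mono le_rfl le_top
  exact Module.length_le_of_surjective (Submodule.factor h) (Submodule.factor_surjective h)

theorem add_one_le_of_quot_prime {q : PrimeSpectrum A} {x : A} (hx : x ∉ q.asIdeal) :
    Module.supportDim A (QuotSMulTop x (A ⧸ q.asIdeal)) + 1 ≤ ringKrullDim (A ⧸ q.asIdeal) := by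
  rw [← Module.supportDim_quotient_eq_ringKrullDim]
  refine Module.supportDim_quotSMulTop_succ_le_of_notMem_minimalPrimes fun r hr => ?_
  rw [Ideal.annihilator_quotient] at hr
  rw [Ideal.minimalPrimes_eq_subsingleton_self] at hr
  rwa [Set.mem_singleton_iff.1 hr]

theorem samuelFun_bound (I : Ideal A) {n : ℕ} (hI : IsLocalRing.maximalIdeal A ^ n ≤ I)
    (hI' : I ≤ IsLocalRing.maximalIdeal A) (j : ℕ) :
    ∀ (N : Type u) [AddCommGroup N] [Module A N] [Module.Finite A N], Module.supportDim A N ≤ j →
      ∃ C : ℕ, ∀ t, samuelFun I N t ≤ C * (t + 1) ^ j := by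
  induction j using Nat.strong_induction_on with
  | _ j IH =>
    intro N _ _ hN
    revert hN
    refine IsNoetherianRing.induction_on_isQuotientEquivQuotientPrime (A := A) (M := N) ‹_›
      (motive := fun N _ _ _ => Module.supportDim A N ≤ j → ∃ C : ℕ, ∀ t, samuelFun I N t ≤ C * (t + 1) ^ j) ?_ ?_ ?_
    · intro N _ _ _ _ _
      refine ⟨0, fun t => ?_⟩
      haveI : Subsingleton (N ⧸ (I ^ t • (⊤ : Submodule A N))) := (Submodule.mkQ_surjective _).subsingleton
      simp [samuelFun, Module.length_eq_zero]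
    · intro N _ _ _ q e hq
      rw [Module.supportDim_eq_of_equiv e, Module.supportDim_quotient_eq_ringKrullDim] at hq
      simp only [samuelFun_congr I e]
      by_cases hqm : q.asIdeal = IsLocalRing.maximalIdeal A
      · refine ⟨1, fun t => ?_⟩
        have h1 : Module.length A (A ⧸ q.asIdeal) = 1 := Module.length_eq_one_iff.2
          (isSimpleModule_iff_quot_maximal.2 ⟨q.asIdeal, hqm ▸ inferInstance, ⟨LinearEquiv.refl A _⟩⟩)
        have h2 := Module.length_le_of_surjective (I ^ t • (⊤ : Submodule A (A ⧸ q.asIdeal))).mkQ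
          (Submodule.mkQ_surjective _)
        rw [h1] at h2
        calc samuelFun I (A ⧸ q.asIdeal) t ≤ 1 := ENat.toNat_le_of_le_natCast h2
          _ ≤ 1 * (t + 1) ^ j := by rw [one_mul]; exact Nat.one_le_pow _ _ (Nat.succ_pos _)
      obtain ⟨x, hxI, hxq⟩ : ∃ x ∈ I, x ∉ q.asIdeal := SetLike.not_le_iff_exists.1 fun h =>
        hqm (le_antisymm (IsLocalRing.le_maximalIdeal q.2.ne_top) (q.2.le_of_pow_le (hI.trans h)))
      have hdim := (add_one_le_of_quot_prime hxq).trans hq
      haveI : Nontrivial (A ⧸ q.asIdeal) := Ideal.Quotient.nontrivial_iff.2 q.2.ne_top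
      have hQ : Nontrivial (QuotSMulTop x (A ⧸ q.asIdeal)) := Submodule.Quotient.nontrivial_iff.2
        (Submodule.top_ne_pointwise_smul_of_mem_jacobson_annihilator
          (IsLocalRing.maximalIdeal_le_jacobson _ (hI' hxI))).symm
      obtain ⟨i, rfl⟩ : ∃ i, j = i + 1 := ⟨j - 1, by
        rcases Nat.eq_zero_or_pos j with rfl | h
        · exfalso
          have h0 := (Module.supportDim_ne_bot_iff_nontrivial A _).2 hQ
          revert hdim h0
          cases Module.supportDim A (QuotSMulTop x (A ⧸ q.asIdeal)) with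
          | bot => exact fun _ h => h rfl
          | coe a =>
            intro hdim _
            rw [show (1 : WithBot ℕ∞) = ((1 : ℕ∞) : WithBot ℕ∞) from rfl, ← WithBot.coe_add,
              show ((0 : ℕ) : WithBot ℕ∞) = ((0 : ℕ∞) : WithBot ℕ∞) from rfl, WithBot.coe_le_coe] at hdim
            simp at hdim
        · omega⟩
      have hdim' : Module.supportDim A (QuotSMulTop x (A ⧸ q.asIdeal)) ≤ i := by
        revert hdim
        cases Module.supportDim A (QuotSMulTop x (A ⧸ q.asIdeal)) with
        | bot => exact fun _ => bot_le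
        | coe a =>
          intro hdim
          rw [show (1 : WithBot ℕ∞) = ((1 : ℕ∞) : WithBot ℕ∞) from rfl, ← WithBot.coe_add,
            show ((i + 1 : ℕ) : WithBot ℕ∞) = (((i + 1 : ℕ) : ℕ∞) : WithBot ℕ∞) from rfl, WithBot.coe_le_coe,
            Nat.cast_add, Nat.cast_one] at hdim
          exact WithBot.coe_le_coe.2 ((ENat.add_le_add_iff_right (by simp)).1 hdim)
      obtain ⟨C, hC⟩ := IH i (Nat.lt_succ_self i) (QuotSMulTop x (A ⧸ q.asIdeal)) hdim'
      have hreg : Function.Injective (LinearMap.lsmul A (A ⧸ q.asIdeal) x) := by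
        refine (injective_iff_map_eq_zero _).2 fun a ha => ?_
        obtain ⟨a, rfl⟩ := Ideal.Quotient.mk_surjective a
        rw [LinearMap.lsmul_apply, Algebra.smul_def, Ideal.Quotient.algebraMap_eq, ← map_mul,
          Ideal.Quotient.eq_zero_iff_mem] at ha
        exact Ideal.Quotient.eq_zero_iff_mem.2 ((q.2.mem_or_mem ha).resolve_left hxq)
      refine ⟨C, fun t => ?_⟩
      induction t with
      | zero =>
        rw [samuelFun, pow_zero, Ideal.one_eq_top, Submodule.top_smul]
        haveI : Subsingleton ((A ⧸ q.asIdeal) ⧸ (⊤ : Submodule A (A ⧸ q.asIdeal))) :=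
          Submodule.Quotient.subsingleton_iff.2 rfl
        simp [Module.length_eq_zero]
      | succ t iht =>
        have hsp := samuel_split I hI (LinearMap.lsmul A (A ⧸ q.asIdeal) x) (Submodule.mkQ (x • ⊤)) hreg
          (Submodule.mkQ_surjective _) (by rw [Submodule.ker_mkQ]; ext a; simp [Submodule.mem_smul_pointwise_iff_exists]) (t + 1)
        have hle : I ^ t • (⊤ : Submodule A (A ⧸ q.asIdeal)) ≤
            (I ^ (t + 1) • (⊤ : Submodule A (A ⧸ q.asIdeal))).comap (LinearMap.lsmul A _ x) := fun a ha => by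
          rw [Submodule.mem_comap, LinearMap.lsmul_apply, pow_succ', Submodule.mul_smul]
          exact Submodule.smul_mem_smul hxI ha
        calc samuelFun I (A ⧸ q.asIdeal) (t + 1)
            ≤ samuelFun I (A ⧸ q.asIdeal) t + samuelFun I (QuotSMulTop x (A ⧸ q.asIdeal)) (t + 1) := by
              rw [samuelFun, hsp]
              exact Nat.add_le_add_right (ENat.toNat_le_toNat (Module.length_le_of_surjective (Submodule.factor hle)
                (Submodule.factor_surjective hle)) (length_quot_pow_ne_top I hI _ t le_rfl)) _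
          _ ≤ C * (t + 1) ^ (i + 1) + C * (t + 1 + 1) ^ i := Nat.add_le_add iht (hC _)
          _ ≤ C * (t + 1) * (t + 1 + 1) ^ i + C * (t + 1 + 1) ^ i := by
              rw [pow_succ' (t + 1), mul_assoc]
              exact Nat.add_le_add_right (Nat.mul_le_mul_left _ (Nat.mul_le_mul_left _
                (Nat.pow_le_pow_left (Nat.le_succ _) _))) _
          _ = C * (t + 1 + 1) ^ (i + 1) := by ring
    · intro N₁ _ _ _ N₂ _ _ _ N₃ _ _ _ f g hf hg hfg h₁ h₃ hN
      obtain ⟨C₁, hC₁⟩ := h₁ ((Module.supportDim_le_of_injective f hf).trans hN)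
      obtain ⟨C₃, hC₃⟩ := h₃ ((Module.supportDim_le_of_surjective g hg).trans hN)
      refine ⟨C₁ + C₃, fun t => (samuelFun_le_add I hI f g hf hg hfg.linearMap_ker_eq.symm t).trans ?_⟩
      rw [add_mul]
      exact Nat.add_le_add (hC₁ t) (hC₃ t)

theorem tendsto_samuel_zero (I : Ideal A) {n : ℕ} (hI : IsLocalRing.maximalIdeal A ^ n ≤ I)
    (hI' : I ≤ IsLocalRing.maximalIdeal A) {N : Type u} [AddCommGroup N] [Module A N] [Module.Finite A N] {j d : ℕ}
    (hN : Module.supportDim A N ≤ j) (hjd : j < d) :
    Tendsto (fun t : ℕ => (d.factorial : ℝ) * (samuelFun I N t : ℝ) / (t : ℝ) ^ d) atTop (𝓝 0) := by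
  obtain ⟨C, hC⟩ := samuelFun_bound I hI hI' j N hN
  refine squeeze_zero' (Eventually.of_forall fun t => by positivity) ?_
    (tendsto_const_div_atTop_nhds_zero_nat ((d.factorial : ℝ) * C * 2 ^ j))
  filter_upwards [eventually_gt_atTop 0] with t ht
  have h1 : (1 : ℝ) ≤ t := by exact_mod_cast ht
  have h2 : (samuelFun I N t : ℝ) ≤ C * ((t : ℝ) + 1) ^ j := by exact_mod_cast hC t
  obtain ⟨e, rfl⟩ : ∃ e, d = e + 1 := ⟨d - 1, by omega⟩
  have h3 : ((t : ℝ) + 1) ^ j ≤ 2 ^ j * (t : ℝ) ^ e :=
    calc ((t : ℝ) + 1) ^ j ≤ (2 * t) ^ j := by gcongr; linarith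
      _ = 2 ^ j * (t : ℝ) ^ j := mul_pow _ _ _
      _ ≤ 2 ^ j * (t : ℝ) ^ e := by gcongr; omega
  calc _ ≤ ((e + 1).factorial : ℝ) * (C * (2 ^ j * (t : ℝ) ^ e)) / (t : ℝ) ^ (e + 1) := by
        gcongr
        exact h2.trans (by gcongr)
    _ = _ := by
        rw [pow_succ]
        field_simp

open Classical in
theorem length_localized_quot_prime (q p : PrimeSpectrum A) (d : ℕ) (hq : ringKrullDim (A ⧸ q.asIdeal) ≤ d)
    (hp : ringKrullDim (A ⧸ p.asIdeal) = d) :
    Module.length (Localization.AtPrime p.asIdeal) (LocalizedModule p.asIdeal.primeCompl (A ⧸ q.asIdeal)) =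
      if q = p then 1 else 0 := by
  by_cases hqp : q = p
  · subst hqp
    rw [if_pos rfl, Module.length_eq_one_iff]
    let v : LocalizedModule q.asIdeal.primeCompl (A ⧸ q.asIdeal) := LocalizedModule.mk 1 1
    let φ := LinearMap.toSpanSingleton (Localization.AtPrime q.asIdeal) _ v
    have hφ : Function.Surjective φ := fun y => by
      induction y using LocalizedModule.induction_on with
      | _ m s =>
        obtain ⟨a, rfl⟩ := Ideal.Quotient.mk_surjective m
        refine ⟨Localization.mk a s, (LocalizedModule.mk_smul_mk a (1 : A ⧸ q.asIdeal) s 1).trans ?_⟩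
        rw [mul_one, Algebra.smul_def, mul_one, Ideal.Quotient.algebraMap_eq]
    have hv : v ≠ 0 := fun h => by
      rw [show v = LocalizedModule.mk 1 1 from rfl, ← LocalizedModule.zero_mk 1, LocalizedModule.mk_eq] at h
      obtain ⟨c, hc⟩ := h
      simp only [one_smul, smul_zero, Submonoid.smul_def, Algebra.smul_def, mul_one,
        Ideal.Quotient.algebraMap_eq, Ideal.Quotient.eq_zero_iff_mem] at hc
      exact c.2 hc
    have hker : LinearMap.ker φ = IsLocalRing.maximalIdeal (Localization.AtPrime q.asIdeal) := by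
      refine le_antisymm (IsLocalRing.le_maximalIdeal fun h => hv ?_) fun z hz => ?_
      · simpa [φ] using LinearMap.mem_ker.1 (h.ge (Submodule.mem_top (x := (1 : Localization.AtPrime q.asIdeal))))
      · rw [← Localization.AtPrime.map_eq_maximalIdeal] at hz
        refine (Ideal.map_le_iff_le_comap.2 fun a ha => ?_) hz
        show φ (algebraMap A (Localization.AtPrime q.asIdeal) a) = 0
        rw [← Localization.mk_one_eq_algebraMap]
        refine (LocalizedModule.mk_smul_mk a (1 : A ⧸ q.asIdeal) 1 1).trans ?_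
        rw [Algebra.smul_def, mul_one, Ideal.Quotient.algebraMap_eq, Ideal.Quotient.eq_zero_iff_mem.2 ha,
          LocalizedModule.zero_mk]
    exact isSimpleModule_iff_quot_maximal.2 ⟨LinearMap.ker φ, hker ▸ inferInstance,
      ⟨(φ.quotKerEquivOfSurjective hφ).symm⟩⟩
  · rw [if_neg hqp, Module.length_eq_zero_iff]
    have hsupp : p ∉ Module.support A (A ⧸ q.asIdeal) := fun h => by
      rw [Module.support_eq_zeroLocus, Ideal.annihilator_quotient, PrimeSpectrum.mem_zeroLocus, SetLike.coe_subset_coe] at h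
      obtain ⟨x, hxp, hxq⟩ : ∃ x ∈ p.asIdeal, x ∉ q.asIdeal := SetLike.not_le_iff_exists.1 fun h' =>
        hqp (PrimeSpectrum.ext (le_antisymm h h'))
      have hle : Module.supportDim A (A ⧸ p.asIdeal) ≤ Module.supportDim A (QuotSMulTop x (A ⧸ q.asIdeal)) := by
        refine Module.supportDim_le_of_surjective (Submodule.liftQ _ (Submodule.factor h) ?_) ?_
        · rintro _ ⟨a, -, rfl⟩
          obtain ⟨a, rfl⟩ := Submodule.mkQ_surjective _ a
          rw [LinearMap.mem_ker]
          show Submodule.factor h (Submodule.Quotient.mk (x • a)) = 0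
          refine (Submodule.Quotient.mk_eq_zero _).2 ?_
          rw [smul_eq_mul]
          exact p.asIdeal.mul_mem_right a hxp
        · intro y
          obtain ⟨a, rfl⟩ := Submodule.mkQ_surjective _ y
          exact ⟨Submodule.Quotient.mk (Submodule.Quotient.mk a), rfl⟩
      rw [Module.supportDim_quotient_eq_ringKrullDim, hp] at hle
      have h2 := ((add_le_add hle le_rfl).trans (add_one_le_of_quot_prime hxq)).trans hq
      rw [show (1 : WithBot ℕ∞) = ((1 : ℕ∞) : WithBot ℕ∞) from rfl,
        show (d : WithBot ℕ∞) = (((d : ℕ) : ℕ∞) : WithBot ℕ∞) from rfl, ← WithBot.coe_add, WithBot.coe_le_coe] at h2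
      have h3 : d + 1 ≤ d := by exact_mod_cast h2
      omega
    exact Module.notMem_support_iff.1 hsupp

theorem length_localized_add (p : PrimeSpectrum A) {N₁ N₂ N₃ : Type u} [AddCommGroup N₁] [Module A N₁]
    [AddCommGroup N₂] [Module A N₂] [AddCommGroup N₃] [Module A N₃] (f : N₁ →ₗ[A] N₂) (g : N₂ →ₗ[A] N₃)
    (hf : Function.Injective f) (hg : Function.Surjective g) (hfg : Function.Exact f g) :
    Module.length (Localization.AtPrime p.asIdeal) (LocalizedModule p.asIdeal.primeCompl N₂) =
      Module.length (Localization.AtPrime p.asIdeal) (LocalizedModule p.asIdeal.primeCompl N₁) +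
      Module.length (Localization.AtPrime p.asIdeal) (LocalizedModule p.asIdeal.primeCompl N₃) :=
  Module.length_eq_add_of_exact (LocalizedModule.map p.asIdeal.primeCompl f)
    (LocalizedModule.map p.asIdeal.primeCompl g)
    (IsLocalizedModule.map_injective p.asIdeal.primeCompl (LocalizedModule.mkLinearMap _ _)
      (LocalizedModule.mkLinearMap _ _) f hf)
    (IsLocalizedModule.map_surjective p.asIdeal.primeCompl (LocalizedModule.mkLinearMap _ _)
      (LocalizedModule.mkLinearMap _ _) g hg)
    (LocalizedModule.map_exact p.asIdeal.primeCompl f g hfg)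

theorem samuel_assoc (I : Ideal A) {n : ℕ} (hI : IsLocalRing.maximalIdeal A ^ n ≤ I)
    (hI' : I ≤ IsLocalRing.maximalIdeal A) (d : ℕ) (e : PrimeSpectrum A → ℝ)
    (he : ∀ p : PrimeSpectrum A, ringKrullDim (A ⧸ p.asIdeal) = d →
      Tendsto (fun t : ℕ => (d.factorial : ℝ) * (samuelFun I (A ⧸ p.asIdeal) t : ℝ) / (t : ℝ) ^ d) atTop (𝓝 (e p)))
    (M : Type u) [AddCommGroup M] [Module A M] [Module.Finite A M] (hd : Module.supportDim A M ≤ d) :
    Tendsto (fun t : ℕ => (d.factorial : ℝ) * (samuelFun I M t : ℝ) / (t : ℝ) ^ d) atTop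
      (𝓝 (∑ᶠ (p : PrimeSpectrum A) (_ : ringKrullDim (A ⧸ p.asIdeal) = d),
        ((Module.length (Localization.AtPrime p.asIdeal) (LocalizedModule p.asIdeal.primeCompl M)).toNat : ℝ) * e p)) := by
  classical
  suffices h : Module.supportDim A M ≤ d →
      ∃ T : Finset (PrimeSpectrum A), (∀ p, ringKrullDim (A ⧸ p.asIdeal) = d →
        Module.length (Localization.AtPrime p.asIdeal) (LocalizedModule p.asIdeal.primeCompl M) ≠ ⊤ ∧
        (p ∉ T → Module.length (Localization.AtPrime p.asIdeal) (LocalizedModule p.asIdeal.primeCompl M) = 0)) ∧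
      ∀ S : Finset (PrimeSpectrum A), T ⊆ S →
        Tendsto (fun t : ℕ => (d.factorial : ℝ) * (samuelFun I M t : ℝ) / (t : ℝ) ^ d) atTop
          (𝓝 (∑ p ∈ S.filter (fun p => ringKrullDim (A ⧸ p.asIdeal) = d),
            ((Module.length (Localization.AtPrime p.asIdeal) (LocalizedModule p.asIdeal.primeCompl M)).toNat : ℝ) * e p)) by
    obtain ⟨T, hT, hlim⟩ := h hd
    have := hlim T le_rfl
    convert this using 2
    refine finsum_mem_eq_sum_of_subset (s := {p : PrimeSpectrum A | ringKrullDim (A ⧸ p.asIdeal) = d}) _ ?_ ?_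
    · intro p hp
      rw [Finset.coe_filter]
      refine ⟨?_, hp.1⟩
      by_contra hn
      exact hp.2 (by simp [(hT p hp.1).2 hn])
    · intro p hp
      exact (Finset.mem_filter.1 hp).2
  refine IsNoetherianRing.induction_on_isQuotientEquivQuotientPrime (A := A) (M := M) ‹_›
    (motive := fun M _ _ _ => Module.supportDim A M ≤ d →
      ∃ T : Finset (PrimeSpectrum A), (∀ p, ringKrullDim (A ⧸ p.asIdeal) = d →
        Module.length (Localization.AtPrime p.asIdeal) (LocalizedModule p.asIdeal.primeCompl M) ≠ ⊤ ∧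
        (p ∉ T → Module.length (Localization.AtPrime p.asIdeal) (LocalizedModule p.asIdeal.primeCompl M) = 0)) ∧
      ∀ S : Finset (PrimeSpectrum A), T ⊆ S →
        Tendsto (fun t : ℕ => (d.factorial : ℝ) * (samuelFun I M t : ℝ) / (t : ℝ) ^ d) atTop
          (𝓝 (∑ p ∈ S.filter (fun p => ringKrullDim (A ⧸ p.asIdeal) = d),
            ((Module.length (Localization.AtPrime p.asIdeal) (LocalizedModule p.asIdeal.primeCompl M)).toNat : ℝ) * e p)))
    ?_ ?_ ?_
  · intro N _ _ _ _ _
    have h0 : ∀ p : PrimeSpectrum A,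
        Module.length (Localization.AtPrime p.asIdeal) (LocalizedModule p.asIdeal.primeCompl N) = 0 := fun p => by
      haveI : Subsingleton (LocalizedModule p.asIdeal.primeCompl N) := ⟨fun a b => by
        induction a using LocalizedModule.induction_on with
        | _ m s =>
          induction b using LocalizedModule.induction_on with
          | _ m' s' => exact LocalizedModule.mk_eq.2 ⟨1, Subsingleton.elim _ _⟩⟩
      exact Module.length_eq_zero
    refine ⟨∅, fun p _ => ⟨by simp [h0 p], fun _ => h0 p⟩, fun S _ => ?_⟩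
    have hs : ∀ t, samuelFun I N t = 0 := fun t => by
      haveI : Subsingleton (N ⧸ (I ^ t • (⊤ : Submodule A N))) := (Submodule.mkQ_surjective _).subsingleton
      simp [samuelFun, Module.length_eq_zero]
    simp [hs, h0]
  · intro N _ _ _ q eq hq
    rw [Module.supportDim_eq_of_equiv eq, Module.supportDim_quotient_eq_ringKrullDim] at hq
    have hlen : ∀ p : PrimeSpectrum A, ringKrullDim (A ⧸ p.asIdeal) = d →
        Module.length (Localization.AtPrime p.asIdeal) (LocalizedModule p.asIdeal.primeCompl N) =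
          if q = p then 1 else 0 := fun p hp => by
      rw [← length_localized_quot_prime q p d hq hp]
      refine le_antisymm ?_ ?_
      · exact Module.length_le_of_injective (LocalizedModule.map p.asIdeal.primeCompl eq.toLinearMap)
          (IsLocalizedModule.map_injective p.asIdeal.primeCompl (LocalizedModule.mkLinearMap _ _)
            (LocalizedModule.mkLinearMap _ _) eq.toLinearMap eq.injective)
      · exact Module.length_le_of_surjective (LocalizedModule.map p.asIdeal.primeCompl eq.toLinearMap)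
          (IsLocalizedModule.map_surjective p.asIdeal.primeCompl (LocalizedModule.mkLinearMap _ _)
            (LocalizedModule.mkLinearMap _ _) eq.toLinearMap eq.surjective)
    refine ⟨{q}, fun p hp => ⟨?_, fun hpq => ?_⟩, fun S hS => ?_⟩
    · rw [hlen p hp]
      split_ifs <;> simp
    · rw [hlen p hp, if_neg fun h => hpq (by simp [h])]
    simp only [samuelFun_congr I eq]
    rcases hq.lt_or_eq with hlt | heq
    · rw [Finset.sum_eq_zero fun p hp => ?_]
      · haveI : Nontrivial (A ⧸ q.asIdeal) := Ideal.Quotient.nontrivial_iff.2 q.2.ne_top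
        obtain ⟨j, hj, hjd⟩ : ∃ j : ℕ, Module.supportDim A (A ⧸ q.asIdeal) ≤ j ∧ j < d := by
          rw [Module.supportDim_quotient_eq_ringKrullDim]
          have h0 : (0 : WithBot ℕ∞) ≤ ringKrullDim (A ⧸ q.asIdeal) := ringKrullDim_nonneg_of_nontrivial
          revert hlt h0
          cases ringKrullDim (A ⧸ q.asIdeal) with
          | bot => intro _ h; simp at h
          | coe a =>
            intro hlt _
            rw [show (d : WithBot ℕ∞) = (((d : ℕ) : ℕ∞) : WithBot ℕ∞) from rfl, WithBot.coe_lt_coe] at hlt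
            obtain ⟨j, rfl⟩ := ENat.ne_top_iff_exists.1 hlt.ne_top
            exact ⟨j, le_rfl, by exact_mod_cast hlt⟩
        exact tendsto_samuel_zero I hI hI' hj hjd
      · have hp' := (Finset.mem_filter.1 hp).2
        rw [hlen p hp', if_neg fun h : q = p => hlt.ne (h.symm ▸ hp')]
        simp
    · rw [Finset.sum_eq_single q]
      · rw [hlen q heq, if_pos rfl]
        simpa using he q heq
      · intro p hp hpq
        rw [hlen p (Finset.mem_filter.1 hp).2, if_neg (Ne.symm hpq)]
        simp
      · exact fun h => absurd (Finset.mem_filter.2 ⟨hS (by simp), heq⟩) h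
  · intro N₁ _ _ _ N₂ _ _ _ N₃ _ _ _ f g hf hg hfg h₁ h₃ hN
    obtain ⟨T₁, hT₁, hl₁⟩ := h₁ ((Module.supportDim_le_of_injective f hf).trans hN)
    obtain ⟨T₃, hT₃, hl₃⟩ := h₃ ((Module.supportDim_le_of_surjective g hg).trans hN)
    refine ⟨T₁ ∪ T₃, fun p hp => ?_, fun S hS => ?_⟩
    · rw [length_localized_add p f g hf hg hfg]
      exact ⟨WithTop.add_ne_top.2 ⟨(hT₁ p hp).1, (hT₃ p hp).1⟩, fun h => by
        rw [Finset.mem_union, not_or] at h
        rw [(hT₁ p hp).2 h.1, (hT₃ p hp).2 h.2, add_zero]⟩
    · have hadd := samuel_add I hI f g hf hg hfg.linearMap_ker_eq.symm d (hl₁ S (Finset.union_subset_left hS))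
        (hl₃ S (Finset.union_subset_right hS))
      rw [← Finset.sum_add_distrib] at hadd
      refine (congrArg _ (congrArg 𝓝 (Finset.sum_congr rfl fun p hp => ?_))).mp hadd
      have hp' := (Finset.mem_filter.1 hp).2
      rw [length_localized_add p f g hf hg hfg, ENat.toNat_add (hT₁ p hp').1 (hT₃ p hp').1, Nat.cast_add, add_mul]

end Groth.Agent.CycLib
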