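import Groth.Agent.CycLib.DetBase

/-! Removing a socle element. -/

set_option linter.unusedSectionVars false

namespace Groth.Agent.CycLib

open CycDet IsLocalRing

universe u v

variable {R : Type u} [CommRing R] [IsLocalRing R] {M : Type v} [AddCommGroup M] [Module R M] {n : ℕ}

/-- `x` enters the chain of `e` at position `i` with coefficient `c`. -/
def Good (x : M) {l : ℕ} (e : Fin l → M) (i : Fin l) (c : R) : Prop :=
  x - c • e i ∈ spanBefore R M e i ∧ IsUnit c

theorem good_unique {x : M} {l : ℕ} {e : Fin l → M} (hs : Strict R e) {i i' : Fin l} {c c' : R}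
    (h : Good x e i c) (h' : Good x e i' c') : i = i' ∧ residue R c = residue R c' := by
  have key : ∀ {i i' : Fin l} {c c' : R}, Good x e i c → Good x e i' c' → ¬ i < i' := by
    intro i i' c c' h h' hlt
    refine hs i' ((smul_mem_unit_iff h'.2).mp ?_)
    have hx : x ∈ spanBefore R M e i' := by
      rw [← sub_add_cancel x (c • e i)]
      exact add_mem (spanBefore_mono e (Fin.le_def.mp hlt.le) h.1)
        (Submodule.smul_mem _ _ (mem_spanBefore (Fin.lt_def.mp hlt)))
    rw [← sub_sub_cancel x (c' • e i')]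
    exact sub_mem hx h'.1
  obtain rfl : i = i' := le_antisymm (not_lt.mp (key h' h)) (not_lt.mp (key h h'))
  refine ⟨rfl, ?_⟩
  by_contra hne
  have hu : IsUnit (c - c') := by
    by_contra hu
    exact hne (sub_eq_zero.mp (by
      rw [← map_sub]; exact (residue_eq_zero_iff _).mpr ((mem_maximalIdeal _).mpr hu)))
  refine hs i ((smul_mem_unit_iff hu).mp ?_)
  rw [sub_smul, show c • e i - c' • e i = (x - c' • e i) - (x - c • e i) by abel]
  exact sub_mem h'.1 h.1

theorem exists_good {x : M} {l : ℕ} {e : Fin l → M} (he : IsAdmissible R M e) (hx0 : x ≠ 0)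
    (hx : x ∈ Submodule.span R (Set.range e)) : ∃ i, ∃ c : R, Good x e i c := by
  classical
  have hex : ∃ k, x ∈ spanBefore R M e k := ⟨l, by rwa [spanBefore_last e le_rfl]⟩
  have hk := Nat.find_spec hex
  have hk0 : Nat.find hex ≠ 0 := fun h => by
    rw [h, spanBefore_zero, Submodule.mem_bot] at hk
    exact hx0 hk
  obtain ⟨j, hj⟩ := Nat.exists_eq_succ_of_ne_zero hk0
  have hjl : j < l := by
    by_contra hlj
    have h1 : x ∈ spanBefore R M e j := by rwa [spanBefore_last e (not_lt.mp hlj)]
    exact Nat.find_min hex (by omega) h1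
  rw [hj, show j.succ = ((⟨j, hjl⟩ : Fin l) : ℕ) + 1 from rfl, spanBefore_succ, Submodule.mem_sup] at hk
  obtain ⟨v, hv, z, hz, hvz⟩ := hk
  obtain ⟨c, rfl⟩ := Submodule.mem_span_singleton.mp hz
  refine ⟨⟨j, hjl⟩, c, by rwa [← hvz, add_sub_cancel_right], ?_⟩
  by_contra hc
  have h1 : x ∈ spanBefore R M e j := hvz ▸ add_mem hv (he ⟨j, hjl⟩ c ((mem_maximalIdeal c).mpr hc))
  exact Nat.find_min hex (by omega) h1

variable (R) (x : M)

/-- The quotient map by the socle element. -/
abbrev quo : M →ₗ[R] M ⧸ Submodule.span R ({x} : Set M) := Submodule.mkQ _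

theorem quo_self : quo R x x = 0 :=
  (Submodule.Quotient.mk_eq_zero _).mpr (Submodule.mem_span_singleton_self x)

theorem quo_out (z : M ⧸ Submodule.span R ({x} : Set M)) : quo R x (Quotient.out z) = z := Quotient.out_eq z

variable {R} {x}

theorem map_spanBefore {l m : ℕ} (f : M →ₗ[R] (M ⧸ Submodule.span R ({x} : Set M))) (e : Fin l → M) (j : ℕ)
    {g : Fin m → M ⧸ Submodule.span R ({x} : Set M)} (k : ℕ)
    (h1 : ∀ t : Fin l, (t : ℕ) < j → f (e t) ∈ spanBefore R _ g k)
    (h2 : ∀ s : Fin m, (s : ℕ) < k → ∃ t : Fin l, (t : ℕ) < j ∧ g s = f (e t)) :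
    spanBefore R _ g k = (spanBefore R M e j).map f := by
  rw [spanBefore, spanBefore, Submodule.map_span]
  apply le_antisymm
  · refine Submodule.span_le.mpr ?_
    rintro _ ⟨s, hs, rfl⟩
    obtain ⟨t, ht, hst⟩ := h2 s hs
    exact Submodule.subset_span ⟨e t, ⟨t, ht, rfl⟩, hst.symm⟩
  · refine Submodule.span_le.mpr ?_
    rintro _ ⟨_, ⟨t, ht, rfl⟩, rfl⟩
    exact h1 t ht

theorem map_span_good {e : Fin (n + 1) → M} {i : Fin (n + 1)} {c : R} (hg : Good x e i c) (j : Fin n) :
    spanBefore R _ (quo R x ∘ e ∘ i.succAbove) j = (spanBefore R M e (i.succAbove j)).map (quo R x) := by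
  have h2 : ∀ s : Fin n, (s : ℕ) < j → ((i.succAbove s : Fin (n + 1)) : ℕ) < i.succAbove j := fun s hs =>
    Fin.lt_def.mp (Fin.strictMono_succAbove i (Fin.lt_def.mpr hs))
  have hne : ∀ t : Fin (n + 1), (t : ℕ) < i.succAbove j → t ≠ i →
      quo R x (e t) ∈ spanBefore R _ (quo R x ∘ e ∘ i.succAbove) j := by
    intro t ht hti
    obtain ⟨s, rfl⟩ := Fin.exists_succAbove_eq hti
    exact Submodule.subset_span ⟨s, Fin.lt_def.mp ((Fin.strictMono_succAbove i).lt_iff_lt.mp (Fin.lt_def.mpr ht)), rfl⟩
  refine map_spanBefore (quo R x) e _ _ (fun t ht => ?_) fun s hs => ⟨i.succAbove s, h2 s hs, rfl⟩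
  by_cases hti : t = i
  · rw [hti] at ht ⊢
    refine (smul_mem_unit_iff hg.2).mp ?_
    have h3 : (spanBefore R M e i).map (quo R x) ≤ spanBefore R _ (quo R x ∘ e ∘ i.succAbove) j := by
      rw [spanBefore, Submodule.map_span, Submodule.span_le]
      rintro _ ⟨_, ⟨t, ht', rfl⟩, rfl⟩
      exact hne t (lt_trans ht' ht) fun e' => absurd ht' (by rw [e']; simp)
    have h4 := h3 (Submodule.mem_map_of_mem hg.1)
    rw [map_sub, map_smul, quo_self, zero_sub] at h4
    simpa using Submodule.neg_mem _ h4
  · exact hne t ht hti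

theorem adm_others {e : Fin (n + 1) → M} (he : IsAdmissible R M e) {i : Fin (n + 1)} {c : R} (hg : Good x e i c) :
    IsAdmissible R _ (quo R x ∘ e ∘ i.succAbove) := by
  intro j r hr
  rw [map_span_good hg j, Function.comp_apply, Function.comp_apply, ← map_smul]
  exact Submodule.mem_map_of_mem (he _ r hr)

open Classical in
variable (R) (x) in
/-- The value of a tuple in the quotient. -/
noncomputable def down (e : Fin (n + 1) → M) : DetOfLen R (M ⧸ Submodule.span R ({x} : Set M)) n :=
  if h : Strict R e ∧ ∃ i, ∃ c : R, Good x e i c then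
    ((-1 : ResidueField R) ^ (h.2.choose : ℕ) * (residue R h.2.choose_spec.choose)⁻¹) •
      clsT R (quo R x ∘ e ∘ h.2.choose.succAbove)
  else 0

theorem down_eq {e : Fin (n + 1) → M} (hs : Strict R e) {i : Fin (n + 1)} {c : R} (hg : Good x e i c) :
    down R x e = ((-1 : ResidueField R) ^ (i : ℕ) * (residue R c)⁻¹) • clsT R (quo R x ∘ e ∘ i.succAbove) := by
  have h : Strict R e ∧ ∃ i, ∃ c : R, Good x e i c := ⟨hs, i, c, hg⟩
  rw [down, dif_pos h]
  obtain ⟨h1, h2⟩ := good_unique hs h.2.choose_spec.choose_spec hg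
  rw [h2]
  have key : ∀ i', i' = i → ((-1 : ResidueField R) ^ (i' : ℕ) * (residue R c)⁻¹) • clsT R (quo R x ∘ e ∘ i'.succAbove)
      = ((-1 : ResidueField R) ^ (i : ℕ) * (residue R c)⁻¹) • clsT R (quo R x ∘ e ∘ i.succAbove) := by
    rintro i' rfl; rfl
  exact key _ h1

theorem down_of_not_strict {e : Fin (n + 1) → M} (hs : ¬ Strict R e) : down R x e = 0 := by
  rw [down, dif_neg fun h => hs h.1]

section

variable (hx0 : x ≠ 0) (hxm : ∀ r ∈ maximalIdeal R, r • x = 0) (hl : Module.length R M = (n + 1 : ℕ))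

include hx0 hl

theorem exists_good_of_strict {e : Fin (n + 1) → M} (he : IsAdmissible R M e) (hs : Strict R e) :
    ∃ i, ∃ c : R, Good x e i c :=
  exists_good he hx0 (by rw [(strict_iff_span he hl).mp hs]; trivial)

theorem down_smul (e e' : Adm R M (n + 1)) (a : Fin (n + 1)) (u : Rˣ) (hj : ∀ j, j ≠ a → e.1 j = e'.1 j)
    (hd : e.1 a - (u : R) • e'.1 a ∈ spanBefore R M e.1 a) :
    down R x e.1 = residue R (u : R) • down R x e'.1 := by
  classical
  have hu : ∀ j : Fin (n + 1), e.1 j - ((Function.update (1 : Fin (n + 1) → Rˣ) a u) j : R) • e'.1 j ∈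
      spanBefore R M e.1 j := fun j => by
    rcases eq_or_ne j a with rfl | h
    · simpa using hd
    · simp [Function.update_of_ne h, hj j h]
  by_cases hs : Strict R e.1
  swap
  · rw [down_of_not_strict hs, down_of_not_strict (mt (strict_iff_of_sub _ hu).mpr hs), smul_zero]
  obtain ⟨i, c, hg⟩ := exists_good_of_strict hx0 hl e.2 hs
  have hs' := (strict_iff_of_sub _ hu).mp hs
  have hsp := spanBefore_eq_of_sub _ hu
  rcases eq_or_ne i a with rfl | hia
  · have hg' : Good x e'.1 i (c * u) := ⟨by
      rw [← hsp, show x - (c * u) • e'.1 i = (x - c • e.1 i) + c • (e.1 i - (u : R) • e'.1 i) by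
        rw [smul_sub, smul_smul]; abel]
      exact add_mem hg.1 (Submodule.smul_mem _ _ hd), hg.2.mul u.isUnit⟩
    rw [down_eq hs hg, down_eq hs' hg', show quo R x ∘ e.1 ∘ i.succAbove = quo R x ∘ e'.1 ∘ i.succAbove from
      funext fun s => congrArg (quo R x) (hj _ (Fin.succAbove_ne i s)), map_mul, smul_smul]
    congr 1
    have := residue_ne_zero hg.2
    have := residue_ne_zero u.isUnit
    field_simp
  · have hg' : Good x e'.1 i c := ⟨by rw [← hsp, ← hj i hia]; exact hg.1, hg.2⟩
    obtain ⟨a', rfl⟩ := Fin.exists_succAbove_eq hia.symm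
    rw [down_eq hs hg, down_eq hs' hg', clsT_smul (e := quo R x ∘ e.1 ∘ i.succAbove)
      (e' := quo R x ∘ e'.1 ∘ i.succAbove) a' u
      (fun s hs => congrArg (quo R x) (hj _ fun e' => hs (Fin.succAbove_right_injective e'))) (by
        rw [map_span_good hg, Function.comp_apply, Function.comp_apply, Function.comp_apply, Function.comp_apply,
          ← map_smul, ← map_sub]
        exact Submodule.mem_map_of_mem hd), smul_comm]

theorem down_swap (e e' : Adm R M (n + 1)) (a b : Fin (n + 1)) (hab : (b : ℕ) + 1 = a)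
    (hm : ∀ r ∈ maximalIdeal R, r • e.1 a ∈ spanBefore R M e.1 b) (he' : e'.1 = e.1 ∘ Equiv.swap a b) :
    down R x e.1 + down R x e'.1 = 0 := by
  classical
  have hrange : Set.range e'.1 = Set.range e.1 := by rw [he', Set.range_comp, Equiv.range_eq_univ, Set.image_univ]
  by_cases hs : Strict R e.1
  swap
  · rw [down_of_not_strict hs, down_of_not_strict, add_zero]
    exact fun hs' => hs ((strict_iff_span e.2 hl).mpr (hrange ▸ (strict_iff_span e'.2 hl).mp hs'))
  have hs' : Strict R e'.1 := (strict_iff_span e'.2 hl).mpr (by rw [hrange]; exact (strict_iff_span e.2 hl).mp hs)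
  have hab' : a ≠ b := Fin.ne_of_val_ne (by omega)
  have hout : ∀ t : Fin (n + 1), t ≠ a → t ≠ b → e'.1 t = e.1 t := fun t h1 h2 => by
    rw [he', Function.comp_apply, Equiv.swap_apply_of_ne_of_ne h1 h2]
  have hea : e'.1 a = e.1 b := by rw [he', Function.comp_apply, Equiv.swap_apply_left]
  have heb : e'.1 b = e.1 a := by rw [he', Function.comp_apply, Equiv.swap_apply_right]
  have hVlow : ∀ {k : ℕ}, k ≤ b → spanBefore R M e'.1 k = spanBefore R M e.1 k := fun hk =>
    spanBefore_congr fun t ht => hout t (Fin.ne_of_val_ne (by omega)) (Fin.ne_of_val_ne (by omega))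
  have hVhigh : ∀ {k : ℕ}, (a : ℕ) < k → spanBefore R M e'.1 k = spanBefore R M e.1 k := fun {k} hk => by
    rw [spanBefore, spanBefore, he', Set.image_comp]
    congr 2
    ext t
    simp only [Set.mem_image, Set.mem_ofPred_eq]
    constructor
    · rintro ⟨s, hs, rfl⟩
      rcases eq_or_ne s a with rfl | h1
      · rw [Equiv.swap_apply_left]; omega
      rcases eq_or_ne s b with rfl | h2
      · rw [Equiv.swap_apply_right]; omega
      rw [Equiv.swap_apply_of_ne_of_ne h1 h2]; exact hs
    · intro ht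
      refine ⟨Equiv.swap a b t, ?_, Equiv.swap_apply_self _ _ _⟩
      rcases eq_or_ne t a with rfl | h1
      · rw [Equiv.swap_apply_left]; omega
      rcases eq_or_ne t b with rfl | h2
      · rw [Equiv.swap_apply_right]; omega
      rw [Equiv.swap_apply_of_ne_of_ne h1 h2]; exact ht
  obtain ⟨i, c, hg⟩ := exists_good_of_strict hx0 hl e.2 hs
  have hsucc : spanBefore R M e.1 a = spanBefore R M e.1 b ⊔ Submodule.span R {e.1 b} := by
    rw [← hab]; exact spanBefore_succ e.1 b
  have hsucc' : spanBefore R M e'.1 a = spanBefore R M e.1 b ⊔ Submodule.span R {e.1 a} := by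
    rw [← hab, spanBefore_succ, hVlow le_rfl, heb]
  -- the tuples left after deleting exchanged positions
  have hdel : quo R x ∘ e'.1 ∘ b.succAbove = quo R x ∘ e.1 ∘ a.succAbove ∧
      quo R x ∘ e'.1 ∘ a.succAbove = quo R x ∘ e.1 ∘ b.succAbove := by
    have key : ∀ s : Fin n, Equiv.swap a b (b.succAbove s) = a.succAbove s := by
      intro s
      have h1 : ∀ p : Fin (n + 1), ((p.succAbove s : Fin (n + 1)) : ℕ) = if (s : ℕ) < p then (s : ℕ) else s + 1 := fun p => by
        split_ifs with h
        · rw [Fin.succAbove_of_castSucc_lt _ _ (Fin.lt_def.mpr h)]; rfl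
        · rw [Fin.succAbove_of_le_castSucc _ _ (Fin.le_def.mpr (by simpa using h))]; rfl
      rcases eq_or_ne (b.succAbove s) a with hba | hba
      · rw [hba, Equiv.swap_apply_left]
        refine Fin.ext ?_
        have := congrArg Fin.val hba
        rw [h1] at this ⊢
        split_ifs at this ⊢ <;> omega
      · rw [Equiv.swap_apply_of_ne_of_ne hba (Fin.succAbove_ne _ _)]
        refine Fin.ext ?_
        have h3 : ((b.succAbove s : Fin (n + 1)) : ℕ) ≠ (a : ℕ) := fun e => hba (Fin.ext e)
        rw [h1] at h3 ⊢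
        rw [h1]
        split_ifs at h3 ⊢ <;> omega
    refine ⟨funext fun s => ?_, funext fun s => ?_⟩
    · rw [he']; simp only [Function.comp_apply, key]
    · rw [he']; simp only [Function.comp_apply, ← key, Equiv.swap_apply_self]
  rcases eq_or_ne i b with rfl | hib
  · have hg' : Good x e'.1 a c := ⟨by rw [hea, hsucc']; exact Submodule.mem_sup_left hg.1, hg.2⟩
    rw [down_eq hs hg, down_eq hs' hg', hdel.2, ← add_smul, ← hab, pow_succ]
    simp
  rcases eq_or_ne i a with rfl | hia
  · have hmem := hg.1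
    rw [hsucc, Submodule.mem_sup] at hmem
    obtain ⟨v, hv, z, hz, hvz⟩ := hmem
    obtain ⟨p, rfl⟩ := Submodule.mem_span_singleton.mp hz
    by_cases hp : IsUnit p
    · have hg' : Good x e'.1 i p := ⟨by
        rw [hea, hsucc', show x - p • e.1 b = v + c • e.1 i by rw [eq_sub_iff_add_eq] at hvz; rw [← hvz]; abel]
        exact Submodule.add_mem_sup hv (Submodule.smul_mem _ _ (Submodule.mem_span_singleton_self _)), hp⟩
      obtain ⟨b', hb'⟩ := Fin.exists_succAbove_eq hab'.symm
      obtain ⟨uc, huc⟩ := hg.2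
      obtain ⟨up, hup⟩ := hp
      have hcong := clsT_smul (R := R) (e := quo R x ∘ e'.1 ∘ i.succAbove) (e' := quo R x ∘ e.1 ∘ i.succAbove) b'
        (-(uc⁻¹ * up)) (fun s hs => congrArg (quo R x) (hout _ (Fin.succAbove_ne _ _) fun e' =>
          hs (Fin.succAbove_right_injective (e'.trans hb'.symm)))) (by
        rw [map_span_good hg', hb', hVlow le_rfl, Function.comp_apply, Function.comp_apply, Function.comp_apply,
          Function.comp_apply, hb', heb, Units.val_neg, neg_smul, sub_neg_eq_add]
        refine (smul_mem_unit_iff uc.isUnit).mp ?_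
        have h4 : quo R x (c • e.1 i + p • e.1 b) ∈ (spanBefore R M e.1 b).map (quo R x) := by
          have : c • e.1 i + p • e.1 b = x - v := by rw [eq_sub_iff_add_eq] at hvz; rw [← hvz]; abel
          rw [this, map_sub, quo_self, zero_sub]
          exact Submodule.neg_mem _ (Submodule.mem_map_of_mem hv)
        rw [map_add, map_smul, map_smul] at h4
        rw [Units.val_mul, smul_add, smul_smul, ← mul_assoc, Units.mul_inv, one_mul, huc, hup]
        exact h4)
      rw [down_eq hs hg, down_eq hs' hg', hcong, smul_smul, ← add_smul]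
      convert zero_smul (ResidueField R) _
      rw [← huc, ← hup, Units.val_neg, Units.val_mul, map_neg, map_mul,
        show residue R ↑uc⁻¹ = (residue R (uc : R))⁻¹ from eq_inv_of_mul_eq_one_left (by
          rw [← map_mul, Units.inv_mul, map_one])]
      have := residue_ne_zero uc.isUnit
      have := residue_ne_zero up.isUnit
      field_simp
      ring
    · have hpb : p • e.1 b ∈ spanBefore R M e.1 b := e.2 b p ((mem_maximalIdeal p).mpr hp)
      have hg' : Good x e'.1 b c := ⟨by
        rw [heb, hVlow le_rfl, ← hvz]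
        exact add_mem hv hpb, hg.2⟩
      rw [down_eq hs hg, down_eq hs' hg', hdel.1, ← add_smul, ← hab, pow_succ]
      simp
  · have hVi : spanBefore R M e'.1 i = spanBefore R M e.1 i := by
      rcases lt_or_gt_of_ne (fun h => hib (Fin.ext h) : (i : ℕ) ≠ b) with h | h
      · exact hVlow h.le
      · exact hVhigh (by have : (i : ℕ) ≠ a := fun h => hia (Fin.ext h); omega)
    have hg' : Good x e'.1 i c := ⟨by rw [hout i hia hib, hVi]; exact hg.1, hg.2⟩
    obtain ⟨a', ha'⟩ := Fin.exists_succAbove_eq (Ne.symm hia)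
    obtain ⟨b', hb'⟩ := Fin.exists_succAbove_eq (Ne.symm hib)
    have hab'' : (b' : ℕ) + 1 = a' := by
      have h1 : ∀ s : Fin n, ((i.succAbove s : Fin (n + 1)) : ℕ) = if (s : ℕ) < i then (s : ℕ) else s + 1 := fun s => by
        split_ifs with h
        · rw [Fin.succAbove_of_castSucc_lt _ _ (Fin.lt_def.mpr h)]; rfl
        · rw [Fin.succAbove_of_le_castSucc _ _ (Fin.le_def.mpr (by simpa using h))]; rfl
      have e1 := h1 a'
      have e2 := h1 b'
      rw [ha'] at e1; rw [hb'] at e2
      have : (i : ℕ) ≠ a := fun h => hia (Fin.ext h)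
      have : (i : ℕ) ≠ b := fun h => hib (Fin.ext h)
      split_ifs at e1 e2 <;> omega
    rw [down_eq hs hg, down_eq hs' hg', clsT_swap (adm_others e.2 hg) hab'' (fun r hr => by
      rw [map_span_good hg, hb', Function.comp_apply, Function.comp_apply, ha', ← map_smul]
      exact Submodule.mem_map_of_mem (hm r hr))]
    rw [show quo R x ∘ e'.1 ∘ i.succAbove = (quo R x ∘ e.1 ∘ i.succAbove) ∘ Equiv.swap a' b' from funext fun s => by
      rw [he']
      simp only [Function.comp_apply]
      rw [← ha', ← hb', (Fin.succAbove_right_injective).swap_apply]]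
    simp

end

end Groth.Agent.CycLib
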